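import Cfsg.Agent.Lib.Fi23Ord3.FastData
import Cfsg.Agent.Lib.FischerPresented.Out23Tr

/-!
The presented Fi23 on coset numbers: words, a fast table of the action, equality of words, transpositions.
-/

set_option autoImplicit false
set_option maxRecDepth 100000

namespace Cfsg.Agent.Fi23Ord3

open Cfsg.Agent.CosetCert
open Cfsg.Agent.CosetData
open Cfsg.Agent.FischerPresented
open Cfsg.Agent.FischerPresented.Out23 (hm tr hom_word hom_mul_apply fix_iff tr_hom tr_eq)

/-- The presented group. -/
abbrev GT := Setup.G Fi23A.setup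

/-- All letters of a word are below ten. -/
def wok (w : List ℕ) : Bool := w.all fun x => Nat.blt x 10

/-- The element of a word, acting from the left letter first. -/
noncomputable def el (w : List ℕ) : GT := wprod (Setup.gen Fi23A.setup) w.reverse

theorem el_nil : el [] = 1 := rfl

theorem el_append (u v : List ℕ) : el (u ++ v) = el v * el u := by
  rw [el, List.reverse_append, wprod_append]
  rfl

theorem el_rep (m : ℕ) (w : List ℕ) : el (rep m w) = el w ^ m := by
  induction m with
  | zero => rw [pow_zero]; exact el_nil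
  | succ m ih => rw [show rep (m + 1) w = w ++ rep m w from rfl, el_append, ih, pow_succ]

/-- An entry of a search tree. -/
noncomputable def Blocks.look (t : Blocks) : ℕ → ℕ :=
  Blocks.rec (fun v c => Nat.land (Nat.shiftRight v (Nat.mul 16 (Nat.land c 127))) 65535)
    (fun m _ _ l r c => Bool.rec (r c) (l c) (Nat.blt c m)) t

/-- The table of a generator. -/
noncomputable def gsel (x : ℕ) : Blocks :=
  Bool.rec
    (Bool.rec
      (Bool.rec
        (Bool.rec
          (Bool.rec
            (Bool.rec
              (Bool.rec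
                (Bool.rec
                  (Bool.rec gtab9 gtab8 (Nat.beq x 8))
                  gtab7 (Nat.beq x 7))
                gtab6 (Nat.beq x 6))
              gtab5 (Nat.beq x 5))
            gtab4 (Nat.beq x 4))
          gtab3 (Nat.beq x 3))
        gtab2 (Nat.beq x 2))
      gtab1 (Nat.beq x 1))
    gtab0 (Nat.beq x 0)

/-- The image of a coset number under a generator. -/
noncomputable def fstep (x c : ℕ) : ℕ := (gsel x).look c

theorem fstep_table : allBelow (fun x => allBelow (fun c =>
    Nat.beq (fstep x c) (Fi23A.P.T.get (c * 10 + x)) && Nat.blt (fstep x c) 31671) 31671) 10 = true := by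
  decide +kernel

theorem fstep_eq {x c : ℕ} (hx : x < 10) (hc : c < 31671) :
    fstep x c = Fi23A.P.T.get (c * 10 + x) ∧ fstep x c < 31671 := by
  have h := allBelow_spec (allBelow_spec fstep_table hx) hc
  simpa using h

/-- The action of a word, packed table version. -/
noncomputable def actF (w : List ℕ) : ℕ → ℕ := List.rec (fun c => c) (fun x _ r c => r (fstep x c)) w

theorem actF_eq : ∀ {w : List ℕ}, wok w = true → ∀ {c : ℕ}, c < 31671 →
    actF w c = tact Fi23A.P w c ∧ actF w c < 31671
  | [], _, _, hc => ⟨rfl, hc⟩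
  | x :: w, hw, c, hc => by
    simp only [wok, List.all_cons, Bool.and_eq_true, Nat.blt_eq] at hw
    obtain ⟨h1, h2⟩ := fstep_eq hw.1 hc
    obtain ⟨h3, h4⟩ := actF_eq hw.2 h2
    refine ⟨?_, h4⟩
    show actF w (fstep x c) = tact Fi23A.P w (Fi23A.P.T.get (c * 10 + x))
    rw [h3, h1]

/-- The action of an element on coset numbers. -/
noncomputable def apt (g : GT) (p : ℕ) : ℕ :=
  if h : p < 31671 then (hm g ⟨p, h⟩ : ℕ) else p

theorem apt_of_lt (g : GT) {p : ℕ} (h : p < 31671) : apt g p = (hm g ⟨p, h⟩ : ℕ) := dif_pos h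

theorem apt_lt (g : GT) {p : ℕ} (h : p < 31671) : apt g p < 31671 := by
  rw [apt_of_lt g h]; exact Fin.isLt _

theorem apt_one (p : ℕ) : apt 1 p = p := by
  unfold apt
  split
  · rw [show hm (1 : GT) = 1 from map_one hm]; rfl
  · rfl

theorem apt_mul (g h : GT) (p : ℕ) : apt (g * h) p = apt g (apt h p) := by
  by_cases hp : p < 31671
  · rw [apt_of_lt _ hp, apt_of_lt h hp, apt_of_lt g (Fin.isLt _), hom_mul_apply]
  · rw [show ∀ k : GT, apt k p = p from fun k => dif_neg hp,
      show ∀ k : GT, apt k p = p from fun k => dif_neg hp, show apt g p = p from dif_neg hp]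

theorem apt_injective (g : GT) {p q : ℕ} (h : apt g p = apt g q) : p = q := by
  have := congrArg (apt g⁻¹) h
  rwa [← apt_mul, ← apt_mul, inv_mul_cancel, apt_one, apt_one] at this

theorem apt_el {w : List ℕ} (hw : wok w = true) {p : ℕ} (hp : p < 31671) : apt (el w) p = actF w p := by
  have hv : (w.reverse.all fun x => Nat.blt x 10) = true := by
    rw [List.all_eq_true]
    exact fun x hx => List.all_eq_true.1 hw x (List.mem_reverse.1 hx)
  rw [apt_of_lt _ hp, el, hom_word hv, List.reverse_reverse, (actF_eq hw hp).1]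

/-- Two words with the same images of the base points. -/
noncomputable def sameW (u v : List ℕ) : Bool :=
  wok u && (wok v && Fi23.pts.all fun p => Nat.blt p 31671 && Nat.beq (actF u p) (actF v p))

theorem eq_one_of_apt {g : GT} (h : ∀ p ∈ Fi23.pts, apt g p = p) : g = 1 := by
  refine (Fi23.facts_of Fi23A.levels_ok Fi23A.levels_size).2.2.2 g ?_
  intro p hp
  refine Fin.ext ?_
  have := h (p : ℕ) hp
  rwa [apt_of_lt g p.2] at this

theorem el_eq {u v : List ℕ} (h : sameW u v = true) : el u = el v := by
  simp only [sameW, Bool.and_eq_true, List.all_eq_true, Nat.blt_eq, Nat.beq_eq] at h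
  obtain ⟨hu, hv, hp⟩ := h
  refine inv_mul_eq_one.1 (eq_one_of_apt fun p hpm => ?_)
  obtain ⟨hlt, he⟩ := hp p hpm
  rw [apt_mul, apt_el hv hlt, ← he, ← apt_el hu hlt, ← apt_mul, inv_mul_cancel, apt_one]

/-- The word of a transposition given by a path from the base point. -/
def twW (v : List ℕ) : List ℕ := v.reverse ++ Fi23.zW ++ v

/-- A path leads to a point. -/
noncomputable def pathOK (v : List ℕ) (p : ℕ) : Bool := wok v && Nat.beq (actF v 0) p

theorem el_twW {v : List ℕ} {p : ℕ} (h : pathOK v p = true) :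
    ∃ hp : p < 31671, el (twW v) = tr ⟨p, hp⟩ := by
  simp only [pathOK, Bool.and_eq_true, Nat.beq_eq] at h
  obtain ⟨hw, hv⟩ := h
  obtain ⟨h1, h2⟩ := actF_eq hw (show 0 < 31671 by norm_num)
  have hp : p < 31671 := hv ▸ h2
  refine ⟨hp, ?_⟩
  rw [Out23.tr_word (v := v) (p := ⟨p, hp⟩) hw (show tact Fi23A.P v 0 = p from h1.symm.trans hv), el]
  refine Eq.trans ?_ (by
    rw [wprod_append, wprod_append, show wprod (Setup.gen Fi23A.setup) Fi23.zW = Fi23.z from rfl])
  rw [twW, List.reverse_append, List.reverse_append, List.reverse_reverse, wprod_append, wprod_append,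
    wprod_reverse (Setup.gen_invol Fi23A.setup) Fi23.zW,
    show wprod (Setup.gen Fi23A.setup) Fi23.zW = Fi23.z from rfl, inv_eq_of_mul_eq_one_right Fi23.z_sq]
  simp only [mul_assoc]

theorem apt_fix_iff (g : GT) {p : ℕ} (hp : p < 31671) : apt g p = p ↔ Commute g (tr ⟨p, hp⟩) := by
  rw [← fix_iff, apt_of_lt g hp, Fin.ext_iff]

end Cfsg.Agent.Fi23Ord3
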