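import Cfsg.Agent.Lib.Fi23Ord3.WidthChecks

/-!
Every element of order three of the presented Fi23 is conjugate to one of four lifts of elements of Fi22.
-/

set_option autoImplicit false
set_option maxRecDepth 100000

namespace Cfsg.Agent.Fi23Ord3

open Cfsg.Agent.CosetCert
open Cfsg.Agent.CosetData
open Cfsg.Agent.FischerPresented
open Cfsg.Agent.FischerUnique (z_eq)
open Cfsg.Agent.FischerPresented.Out23 (tr tr_eq tr_zero tr_mem exists_tr tr_injective)

/-- The representatives. -/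
noncomputable def x (i : Fin 4) : GT := el (xW i)

theorem x_cube (i : Fin 4) : x i ^ 3 = 1 := cube_one (fix_ok i)

theorem xW_lt (i : Fin 4) : ((xW i).reverse.all fun a => Nat.blt a 9) = true := by
  fin_cases i <;> decide +kernel

theorem xW_img (i : Fin 4) : Fi22Local.sameW (xW i) (Fi22Local.ThreeFusion.us.getD i []) = true := by
  fin_cases i <;> decide +kernel

/-- A representative as an element of the centraliser. -/
noncomputable def xK (i : Fin 4) : Fi23.K := wprod Fi23.gK (xW i).reverse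

theorem xK_coe (i : Fin 4) : (xK i : GT) = x i := Fi23.wprod_gK (xW_lt i)

variable {π : Fi23.K →* Fi22Local.GG}

theorem pi_xK (hgen : ∀ a < 9, π (Fi23.gK a) = Fi22Local.gn a) (i : Fin 4) : π (xK i) = Fi22Local.Three.u i := by
  rw [xK, map_wprod, Fi22Local.Three.u, ← Fi22Local.el_eq (xW_img i), Fi22Local.el]
  exact wprod_congr fun a ha => hgen a (Nat.blt_eq.mp (List.all_eq_true.1 (xW_lt i) a ha))

theorem mem_K {g : GT} : g ∈ Fi23.K ↔ Commute g Fi23.z := by
  rw [← Fi23.centralizer_z, Subgroup.mem_centralizer_singleton_iff]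
  exact Iff.rfl

theorem pi_mem_D (hgen : ∀ a < 9, π (Fi23.gK a) = Fi22Local.gn a) {y : Fi23.K} (hy : (y : GT) ∈ Fi23.D)
    (hne : (y : GT) ≠ Fi23.z) :
    π y ∈ Fi22Class.D ∧ ∃ k ∈ Fi23.K, k * Setup.gen Fi23A.setup 0 * k⁻¹ = (y : GT) := by
  rcases FischerUnique23.D23_cases hy with h | ⟨k, hk, h⟩ | ⟨k, hk, h⟩
  · exact absurd h hne
  · refine ⟨?_, k, hk, h⟩
    obtain rfl : y = ⟨k, hk⟩ * Fi23.gK 0 * (⟨k, hk⟩ : Fi23.K)⁻¹ := Subtype.ext (by
      rw [Subgroup.coe_mul, Subgroup.coe_mul, Subgroup.coe_inv, Fi23.gK_coe (by norm_num)]; exact h.symm)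
    rw [map_mul, map_mul, map_inv, hgen 0 (by norm_num), FischerUnique23.gn_zero]
    exact Fi22Class.mem_D.2 ⟨π ⟨k, hk⟩, rfl⟩
  · exfalso
    have hy' : Commute (y : GT) Fi23.z := mem_K.1 y.2
    rw [← h] at hy'
    have h2 := hy'.map (MulAut.conj k⁻¹).toMonoidHom
    have hz : k⁻¹ * Fi23.z * k = Fi23.z := by
      rw [mul_assoc, ← (mem_K.1 hk).eq, inv_mul_cancel_left]
    exact FischerUnique23.nine_not_commute (by
      have h3 : Commute (FischerUnique23.gT 9) (k⁻¹ * Fi23.z * k) := by simpa [mul_assoc] using h2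
      rw [hz] at h3
      exact h3.symm)

theorem width_x (i : Fin 4) : Cfsg.commutingWidth (fixD (x i)) = width i := by
  classical
  haveI := Fi23.order_facts.1
  haveI := Fi22.order_facts.1
  obtain ⟨π, -, hgen, hker⟩ := FischerUnique23.exists_pi
  have hlow := le_width (fix_ok i) (clique_ok i)
  have hbd : ∀ n ∈ {n : ℕ | ∃ E : Set GT, E ⊆ fixD (x i) ∧ E.Finite ∧ (∀ a ∈ E, ∀ b ∈ E, Commute a b) ∧
      E.ncard = n}, n ≤ width i := by
    rintro n ⟨E, hE, hfin, hcm, rfl⟩
    rcases E.eq_empty_or_nonempty with rfl | ⟨e, he⟩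
    · simp
    obtain ⟨j, hj, hej⟩ := exists_index (fix_ok i) (cov_ok i) (hE he)
    obtain ⟨g, hg, hgz⟩ := exists_carry (fix_ok i) j hj
    rw [← hej] at hgz
    obtain ⟨E1, hE1⟩ : ∃ E1 : Set GT, E1 = (fun v => g⁻¹ * v * g) '' E := ⟨_, rfl⟩
    have hz1 : Fi23.z ∈ E1 := by
      rw [hE1]; exact ⟨e, he, by rw [← hgz]; group⟩
    have hsub : ∀ v ∈ E1, v ∈ Fi23.D ∧ Commute v (x i) := by
      rw [hE1]; rintro _ ⟨v, hv, rfl⟩
      obtain ⟨h1, h2⟩ := mem_fixD.1 (hE hv)
      exact ⟨by simpa using conj_D g⁻¹ h1, ((hg.inv_left).mul_left h2).mul_left hg⟩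
    have hcm1 : ∀ a ∈ E1, ∀ b ∈ E1, Commute a b := by
      rw [hE1]; rintro _ ⟨a, ha, rfl⟩ _ ⟨b, hb, rfl⟩
      have := (hcm a ha b hb).map (MulAut.conj g⁻¹).toMonoidHom
      simpa [mul_assoc] using this
    have hcard : E1.ncard = E.ncard := by
      rw [hE1]; exact Set.ncard_image_of_injective _ fun a b h => by simpa using h
    rw [← hcard, ← Set.ncard_diff_singleton_add_one hz1]
    have hK : ∀ v ∈ E1 \ {Fi23.z}, ∃ y : Fi23.K, (y : GT) = v := fun v hv =>
      ⟨⟨v, mem_K.2 (hcm1 v hv.1 _ hz1)⟩, rfl⟩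
    obtain ⟨S, hS⟩ : ∃ S : Set Fi22Local.GG, S = π '' {y : Fi23.K | (y : GT) ∈ E1 \ {Fi23.z}} := ⟨_, rfl⟩
    have hSsub : S ⊆ Fi22Class.D ∩ (Subgroup.centralizer ({Fi22Local.Three.u i} : Set Fi22Local.GG) : Set _) := by
      rw [hS]; rintro _ ⟨y, hy, rfl⟩
      refine ⟨(pi_mem_D hgen (hsub _ hy.1).1 hy.2).1, Subgroup.mem_centralizer_singleton_iff.2 ?_⟩
      rw [← pi_xK hgen i, ← map_mul, ← map_mul]
      exact congrArg π (Subtype.ext (by rw [Subgroup.coe_mul, Subgroup.coe_mul, xK_coe]; exact (hsub _ hy.1).2.eq))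
    have hScm : ∀ a ∈ S, ∀ b ∈ S, Commute a b := by
      rw [hS]; rintro _ ⟨a, ha, rfl⟩ _ ⟨b, hb, rfl⟩
      exact Commute.map (show Commute a b from Subtype.ext (hcm1 _ ha.1 _ hb.1).eq) π
    have hinj : Set.InjOn π {y : Fi23.K | (y : GT) ∈ E1 \ {Fi23.z}} := by
      intro a ha b hb e
      have h1 : π (a * b⁻¹) = 1 := by rw [map_mul, map_inv, e, mul_inv_cancel]
      rcases (hker _).1 h1 with h | h
      · exact mul_inv_eq_one.1 h
      · exfalso
        have hb2 : (b : GT) * (b : GT) = 1 := Fischer.TSet.sq FischerUnique23.D23_group.1 (hsub _ hb.1).1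
        have hab : (a : GT) = Fi23.z * (b : GT) := by
          have := congrArg (Subtype.val) h
          rw [Subgroup.coe_mul, Subgroup.coe_inv, inv_eq_of_mul_eq_one_right hb2] at this
          calc (a : GT) = (a : GT) * ((b : GT) * b) := by rw [hb2, mul_one]
            _ = _ := by rw [← mul_assoc, this]; rfl
        obtain ⟨k, hk, hkb⟩ := (pi_mem_D hgen (hsub _ hb.1).1 hb.2).2
        have hmem := (hsub _ ha.1).1
        rw [hab, ← (mem_K.1 b.2).eq, ← hkb] at hmem
        exact FischerUnique23.gen0_conj_not_mem hk hmem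
    have hn : (E1 \ {Fi23.z}).ncard = S.ncard := by
      rw [hS, hinj.ncard_image, ← Set.ncard_image_of_injective _ Subtype.val_injective]
      refine congrArg Set.ncard (Set.ext fun v => ⟨fun hv => ?_, ?_⟩)
      · obtain ⟨y, rfl⟩ := hK v hv; exact ⟨y, hv, rfl⟩
      · rintro ⟨y, hy, rfl⟩; exact hy
    have hw := Fi22Local.ThreeWidth.width_u i
    rw [Fi22Local.Three.centralizer_zpowers] at hw
    have hle : S.ncard ≤ Fi22Local.ThreeWidth.width i := by
      rw [← hw]
      refine le_csSup ⟨Nat.card Fi22Local.GG, ?_⟩ ⟨S, hSsub, Set.toFinite _, hScm, rfl⟩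
      rintro m ⟨T, -, -, -, rfl⟩
      rw [← Set.ncard_univ]
      exact Set.ncard_le_ncard (Set.subset_univ T) Set.finite_univ
    rw [hn]
    have : Fi22Local.ThreeWidth.width i + 1 = width i := by fin_cases i <;> rfl
    omega
  exact le_antisymm (csSup_le ⟨_, hlow⟩ hbd) (le_csSup ⟨_, hbd⟩ hlow)

theorem x_ne (i : Fin 4) : x i ≠ 1 := by
  intro h
  obtain ⟨π, -, hgen, -⟩ := FischerUnique23.exists_pi
  refine Fi22Local.Three.u_ne i ?_
  rw [← pi_xK hgen i, show xK i = 1 from Subtype.ext ((xK_coe i).trans h), map_one]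

/-- Every element of order three is conjugate to a representative. -/
theorem classify {y : GT} (h3 : y ^ 3 = 1) (h1 : y ≠ 1) : ∃ (i : Fin 4) (g : GT), g * y * g⁻¹ = x i := by
  obtain ⟨d, hd, hc⟩ := Three.exists_commute h3
  obtain ⟨c, rfl⟩ := Fi23.mem_D.1 hd
  have hm : c⁻¹ * y * c ∈ Fi23.K := mem_K.2 (by
    have := hc.map (MulAut.conj c⁻¹).toMonoidHom
    simpa [mul_assoc] using this)
  obtain ⟨π, hπ, hgen, hker⟩ := FischerUnique23.exists_pi
  set y' : Fi23.K := ⟨c⁻¹ * y * c, hm⟩ with hy'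
  have h3' : y' ^ 3 = 1 := Subtype.ext (by
    show (c⁻¹ * y * c) ^ 3 = 1
    have := conj_pow (i := 3) (a := c⁻¹) (b := y)
    rw [inv_inv] at this
    rw [this, h3, mul_one, inv_mul_cancel])
  have hz : (Fi23.zK : Fi23.K) ^ 3 = Fi23.zK := by
    rw [pow_succ, pow_two, show Fi23.zK * Fi23.zK = 1 from Subtype.ext Fi23.z_sq, one_mul]
  have hz1 : Fi23.zK ≠ 1 := fun e => Fi23.z_ne_one (congrArg Subtype.val e)
  have huniq : ∀ a b : Fi23.K, a ^ 3 = 1 → b ^ 3 = 1 → π a = π b → a = b := by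
    intro a b ha hb e
    have h : π (a * b⁻¹) = 1 := by rw [map_mul, map_inv, e, mul_inv_cancel]
    rcases (hker _).1 h with h | h
    · exact mul_inv_eq_one.1 h
    · exfalso
      have hab : a = Fi23.zK * b := by rw [← h, inv_mul_cancel_right]
      have hcb : Commute Fi23.zK b := Subtype.ext (Fi23.z_comm_K b b.2)
      rw [hab, hcb.mul_pow, hb, mul_one, hz] at ha
      exact hz1 ha
  obtain ⟨i, γ, hγ⟩ := Fi22Local.Three.classify (y := π y') (by rw [← map_pow, h3', map_one]) (fun e => h1 (by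
    have : y' = 1 := huniq _ _ h3' (one_pow 3) (by rw [e, map_one])
    have e2 : c⁻¹ * y * c = 1 := congrArg Subtype.val this
    calc y = c * (c⁻¹ * y * c) * c⁻¹ := by group
      _ = 1 := by rw [e2, mul_one, mul_inv_cancel]))
  obtain ⟨k, rfl⟩ := hπ γ
  have he := huniq (k * y' * k⁻¹) (xK i) (by rw [conj_pow, h3', mul_one, mul_inv_cancel])
    (Subtype.ext (by rw [SubgroupClass.coe_pow, xK_coe]; exact x_cube i))
    (by rw [map_mul, map_mul, map_inv, hγ, pi_xK hgen])
  refine ⟨i, (k : GT) * c⁻¹, ?_⟩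
  rw [← xK_coe, ← he, Subgroup.coe_mul, Subgroup.coe_mul, Subgroup.coe_inv]
  show _ = (k : GT) * (c⁻¹ * y * c) * (k : GT)⁻¹
  group

theorem centralizer_zpowers {G : Type*} [Group G] (v : G) :
    Subgroup.centralizer ((Subgroup.zpowers v : Subgroup G) : Set G) = Subgroup.centralizer ({v} : Set G) := by
  rw [Subgroup.zpowers_eq_closure, Subgroup.centralizer_closure]

variable {G : Type*} [Group G] {D : Set G}

/-- A subgroup of order three of a group of type M(23) is the image of a representative one. -/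
theorem exists_frame_three {Φ : GT ≃* G} (hΦ : Φ '' Fi23.D = D) {X : Subgroup G} (hX : Nat.card X = 3) :
    ∃ (i : Fin 4) (T : GT ≃* G), T '' Fi23.D = D ∧ (∃ g, T = (MulAut.conj g).trans Φ) ∧
      (Subgroup.zpowers (x i)).map T.toMonoidHom = X := by
  haveI := Fact.mk Nat.prime_three
  obtain ⟨v, hv⟩ := isCyclic_iff_exists_zpowers_eq_top.1 (isCyclic_of_prime_card (α := X) hX)
  have hgen : Subgroup.zpowers (v : G) = X := by
    have := congrArg (Subgroup.map X.subtype) hv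
    rwa [MonoidHom.map_zpowers, ← MonoidHom.range_eq_map, Subgroup.range_subtype] at this
  have hord : orderOf (v : G) = 3 := by rw [← Nat.card_zpowers, hgen, hX]
  have ho : orderOf (Φ.symm (v : G)) = 3 :=
    (orderOf_injective Φ.symm.toMonoidHom Φ.symm.injective (v : G)).trans hord
  obtain ⟨i, g, hg⟩ := classify (y := Φ.symm (v : G)) (by rw [← ho]; exact pow_orderOf_eq_one _)
    (fun e => by rw [e, orderOf_one] at ho; norm_num at ho)
  refine ⟨i, (MulAut.conj g⁻¹).trans Φ, ?_, ⟨g⁻¹, rfl⟩, ?_⟩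
  · rw [MulEquiv.coe_trans, Set.image_comp, ← hΦ]
    refine congrArg (Set.image Φ) (Set.ext fun d => ⟨?_, fun hd => ?_⟩)
    · rintro ⟨c, hc, rfl⟩; exact conj_D g⁻¹ hc
    · exact ⟨g * d * g⁻¹, conj_D g hd, by simp [mul_assoc]⟩
  · rw [MonoidHom.map_zpowers, ← hgen]
    congr 1
    show Φ (g⁻¹ * x i * g⁻¹⁻¹) = _
    rw [← hg]
    simp [mul_assoc]

theorem width_map {T : GT ≃* G} (hT : T '' Fi23.D = D) (i : Fin 4) :
    Cfsg.commutingWidth (D ∩ (Subgroup.centralizer
      (((Subgroup.zpowers (x i)).map T.toMonoidHom : Subgroup G) : Set G) : Set G)) = width i := by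
  rw [MonoidHom.map_zpowers, centralizer_zpowers, ← width_x i, ← width_image T (fixD (x i))]
  refine congrArg _ (Set.ext fun y => ?_)
  obtain ⟨w, rfl⟩ := T.surjective y
  rw [T.injective.mem_set_image, mem_fixD, Set.mem_inter_iff, ← hT, T.injective.mem_set_image, SetLike.mem_coe,
    Subgroup.mem_centralizer_singleton_iff]
  refine and_congr_right fun _ => ?_
  show T w * T (x i) = T (x i) * T w ↔ _
  rw [← map_mul, ← map_mul, T.injective.eq_iff]
  rfl

theorem card_x (i : Fin 4) : Nat.card (Subgroup.zpowers (x i)) = 3 := by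
  haveI := Fact.mk Nat.prime_three
  rw [Nat.card_zpowers]
  exact orderOf_eq_prime (x_cube i) (x_ne i)

end Cfsg.Agent.Fi23Ord3
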