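import Cfsg.Agent.Lib.Fi23Ord3.Basic
import Mathlib.GroupTheory.Sylow

/-!
A subgroup of the presented Fi23 with a central series with steps of order three, its action on a small
invariant set of points, and a certificate that each of its elements of order three fixes a point.
-/

set_option autoImplicit false
set_option maxRecDepth 100000

namespace Cfsg.Agent.Fi23Ord3.Pc

open Cfsg.Agent.CosetCert
open Cfsg.Agent.CosetData
open Cfsg.Agent.FischerPresented
open scoped Pointwise

/-- The word of the product of powers of generators with given exponents. -/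
def pcW : List (List ℕ) → List ℕ → List ℕ
  | g :: gs, a :: as => pcW gs as ++ rep a g
  | _, _ => []

theorem el_pcW_cons (g : List ℕ) (gs : List (List ℕ)) (a : ℕ) (as : List ℕ) :
    el (pcW (g :: gs) (a :: as)) = el g ^ a * el (pcW gs as) := by
  rw [pcW, el_append, el_rep]

theorem el_pcW_snoc : ∀ (gs : List (List ℕ)) (pre : List ℕ) (a : ℕ), pre.length < gs.length →
    el (pcW gs (pre ++ [a])) = el (pcW gs pre) * el (gs.getD pre.length []) ^ a
  | [], _, _, h => absurd h (Nat.not_lt_zero _)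
  | g :: gs, [], a, _ => by
    rw [List.nil_append, el_pcW_cons, show pcW (g :: gs) [] = [] from rfl, el_nil, one_mul,
      show el (pcW gs []) = 1 by cases gs <;> rfl, mul_one]
    rfl
  | g :: gs, b :: pre, a, h => by
    rw [List.cons_append, el_pcW_cons, el_pcW_cons, el_pcW_snoc gs pre a (Nat.lt_of_succ_lt_succ h), mul_assoc]
    rfl

/-- The generators with their commutators. -/
structure Table where
  g : List (List ℕ)
  comm : List (List (List ℕ))
  dt : List ℕ
  D : ℕ
  m : ℕ
  base : List ℕ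

variable (T : Table)

/-- A generator. -/
def gi (i : ℕ) : List ℕ := T.g.getD i []

/-- The subgroup of the series. -/
noncomputable def S (i : ℕ) : Subgroup GT := Subgroup.closure {x | ∃ w ∈ T.g.drop i, x = el w}

/-- Commutators and cube of one generator. -/
noncomputable def tableRow (k : ℕ) : Bool :=
  sameW (rep 3 (gi T k)) [] && allBelow (fun j => sameW (gi T j ++ gi T k)
    (gi T k ++ (pcW (T.g.drop (j + 1)) ((T.comm.getD k []).getD j []) ++ gi T j))) T.g.length

/-- Commutators and cubes. -/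
noncomputable def tableOK : Bool := allBelow (fun k => tableRow T k) T.g.length

/-- The point of an index of the small set. -/
noncomputable def pt (d : ℕ) : ℕ := Nat.land (Nat.shiftRight T.D (Nat.mul 16 d)) 65535

/-- The image of an index under a generator of the series. -/
noncomputable def dstep (i d : ℕ) : ℕ := Nat.land (Nat.shiftRight (T.dt.getD i 0) (Nat.mul 11 d)) 2047

/-- The action of a list of generators of the series, the first one first. -/
noncomputable def dact (l : List ℕ) : ℕ → ℕ := List.rec (fun c => c) (fun x _ r c => r (dstep T x c)) l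

/-- The table of one generator describes its action on the small set. -/
noncomputable def deltaRow (i : ℕ) : Bool :=
  wok (gi T i) && allBelow (fun d => Nat.blt (dstep T i d) T.m && (Nat.blt (pt T d) 31671 &&
    Nat.beq (actF (gi T i) (pt T d)) (pt T (dstep T i d)))) T.m

/-- The small set is invariant and the tables describe the action on it. -/
noncomputable def deltaOK : Bool := allBelow (fun i => deltaRow T i) T.g.length

/-- The generators of the series with the given exponents, as a list of indices. -/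
def pcI : ℕ → List ℕ → List ℕ
  | i, a :: as => pcI (i + 1) as ++ List.replicate a i
  | _, [] => []

/-- The word of a list of indices. -/
def wordOf (l : List ℕ) : List ℕ := l.flatMap (gi T)

/-- The element of a list of indices. -/
noncomputable def iel (l : List ℕ) : GT := el (wordOf T l)

/-- Two index lists act equally on the base. -/
noncomputable def sameD (u v : List ℕ) : Bool :=
  (u.all fun i => Nat.blt i T.g.length) && ((v.all fun i => Nat.blt i T.g.length) &&
    T.base.all fun b => Nat.blt b T.m && Nat.beq (dact T u b) (dact T v b))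

/-- A certificate tree. -/
inductive Node where
  | split (a b c : Node)
  | fuse (c : List ℕ) (e : ℕ) (v : List ℕ) (t : Node)
  | fixD (d : ℕ)
  | fixP (p : ℕ)
  | bad (d : ℕ)

/-- The check of a tree below a prefix. -/
noncomputable def chk : Node → List ℕ → Bool
  | .split a b c, pre =>
    Nat.blt pre.length T.g.length && (chk a (pre ++ [0]) && (chk b (pre ++ [1]) && chk c (pre ++ [2])))
  | .fuse c e v t, pre =>
    Nat.blt pre.length T.g.length && ((Nat.beq e 1 || Nat.beq e 2) &&
      (sameD T (pcI 0 pre ++ pcI 0 c)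
        (pcI 0 c ++ (pcI (pre.length + 1) v ++ (List.replicate e pre.length ++ pcI 0 pre))) &&
      chk t (pre ++ [0])))
  | .fixD d, pre => Nat.blt d T.m && ((pcI 0 pre).all (fun i => Nat.blt i T.g.length) &&
      (Nat.beq (dact T (pcI 0 pre) d) d &&
        allBelow (fun i => Nat.blt i pre.length || Nat.beq (dstep T i d) d) T.g.length))
  | .fixP p, pre => Nat.beq pre.length T.g.length && (Nat.blt p 31671 && (wok (pcW T.g pre) &&
      Nat.beq (actF (pcW T.g pre) p) p))
  | .bad d, pre => Nat.beq pre.length T.g.length && ((pcI 0 pre).all (fun i => Nat.blt i T.g.length) &&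
      (Nat.blt d T.m && !(Nat.beq (pt T (dact T (pcI 0 pre ++ (pcI 0 pre ++ pcI 0 pre)) d)) (pt T d))))

/-- An element of order three fixes a point. -/
def Q (y : GT) : Prop := y ^ 3 = 1 → ∃ p, p < 31671 ∧ apt y p = p

variable {T}

theorem Q_conj {y : GT} (c : GT) (h : Q (c⁻¹ * y * c)) : Q y := by
  intro h3
  obtain ⟨p, hp, e⟩ := h (by
    have := conj_pow (i := 3) (a := c⁻¹) (b := y)
    rw [inv_inv] at this
    rw [this, h3, mul_one, inv_mul_cancel])
  refine ⟨apt c p, apt_lt c hp, ?_⟩
  have := congrArg (apt c) e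
  rwa [← apt_mul, ← mul_assoc, ← mul_assoc, mul_inv_cancel, one_mul, apt_mul] at this

theorem iel_cons (x : ℕ) (l : List ℕ) : iel T (x :: l) = iel T l * el (gi T x) := by
  rw [iel, iel, wordOf, wordOf, List.flatMap_cons, el_append]

theorem iel_append (u v : List ℕ) : iel T (u ++ v) = iel T v * iel T u := by
  rw [iel, iel, iel, wordOf, wordOf, wordOf, List.flatMap_append, el_append]

theorem iel_replicate (a i : ℕ) : iel T (List.replicate a i) = el (gi T i) ^ a := by
  induction a with
  | zero => rw [List.replicate_zero, pow_zero]; exact el_nil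
  | succ a ih => rw [List.replicate_succ, iel_cons, ih, pow_succ]

theorem el_pcI : ∀ (as : List ℕ) (i : ℕ), iel T (pcI i as) = el (pcW (T.g.drop i) as)
  | [], i => by cases T.g.drop i <;> rfl
  | a :: as, i => by
    rw [pcI, iel_append, iel_replicate, el_pcI as (i + 1)]
    rcases Nat.lt_or_ge i T.g.length with hi | hi
    · rw [List.drop_eq_getElem_cons hi, el_pcW_cons, gi, List.getD_eq_getElem _ _ hi]
    · rw [List.drop_eq_nil_of_le hi, List.drop_eq_nil_of_le (le_trans hi (Nat.le_succ i)),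
        show pcW [] (a :: as) = [] from rfl, show pcW [] as = [] by cases as <;> rfl, gi,
        List.getD_eq_default _ _ hi]
      rw [el_nil, one_pow, one_mul]

theorem el_pcI_zero (as : List ℕ) : iel T (pcI 0 as) = el (pcW T.g as) := el_pcI as 0

theorem pcW_mem (gs : List (List ℕ)) (as : List ℕ) {H : Subgroup GT} (h : ∀ w ∈ gs, el w ∈ H) :
    el (pcW gs as) ∈ H := by
  induction gs generalizing as with
  | nil => exact H.one_mem
  | cons g gs ih =>
    cases as with
    | nil => exact H.one_mem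
    | cons a as =>
      rw [el_pcW_cons]
      exact H.mul_mem (H.pow_mem (h g List.mem_cons_self) a) (ih as fun w hw => h w (List.mem_cons_of_mem _ hw))

theorem pcW_drop_mem (i : ℕ) (as : List ℕ) : el (pcW (T.g.drop i) as) ∈ S T i :=
  pcW_mem _ as fun _ hw => Subgroup.subset_closure ⟨_, hw, rfl⟩

theorem S_mono {i j : ℕ} (h : i ≤ j) : S T j ≤ S T i := by
  refine Subgroup.closure_mono fun x ⟨w, hw, e⟩ => ⟨w, ?_, e⟩
  rw [← Nat.add_sub_cancel' h, ← List.drop_drop] at hw
  exact List.mem_of_mem_drop hw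

theorem S_eq_bot {i : ℕ} (h : T.g.length ≤ i) : S T i = ⊥ := by
  rw [S, List.drop_eq_nil_of_le h]
  simp

theorem S_cons {i : ℕ} (h : i < T.g.length) :
    S T i = Subgroup.zpowers (el (gi T i)) ⊔ S T (i + 1) := by
  refine le_antisymm ((Subgroup.closure_le _).2 ?_) (sup_le (Subgroup.zpowers_le.2 ?_) (S_mono (Nat.le_succ i)))
  · rintro x ⟨w, hw, rfl⟩
    rw [List.drop_eq_getElem_cons h, List.mem_cons] at hw
    rcases hw with rfl | hw
    · exact Subgroup.mem_sup_left (by rw [gi, List.getD_eq_getElem _ _ h]; exact Subgroup.mem_zpowers _)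
    · exact Subgroup.mem_sup_right (Subgroup.subset_closure ⟨w, hw, rfl⟩)
  · refine Subgroup.subset_closure ⟨gi T i, ?_, rfl⟩
    rw [gi, List.getD_eq_getElem _ _ h, List.drop_eq_getElem_cons h]
    exact List.mem_cons_self

theorem wok_gi (hD : deltaOK T = true) {i : ℕ} (hi : i < T.g.length) : wok (gi T i) = true :=
  (Bool.and_eq_true_iff.1 (allBelow_spec hD hi)).1

theorem delta_step (hD : deltaOK T = true) {i : ℕ} (hi : i < T.g.length) {d : ℕ} (hd : d < T.m) :
    dstep T i d < T.m ∧ pt T d < 31671 ∧ apt (el (gi T i)) (pt T d) = pt T (dstep T i d) := by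
  have h := allBelow_spec (Bool.and_eq_true_iff.1 (allBelow_spec hD hi)).2 hd
  simp only [Bool.and_eq_true, Nat.blt_eq, Nat.beq_eq] at h
  exact ⟨h.1, h.2.1, (apt_el (wok_gi hD hi) h.2.1).trans h.2.2⟩

theorem delta_act (hD : deltaOK T = true) : ∀ {l : List ℕ}, (∀ i ∈ l, i < T.g.length) → ∀ {d : ℕ}, d < T.m →
    dact T l d < T.m ∧ apt (iel T l) (pt T d) = pt T (dact T l d)
  | [], _, d, hd => ⟨hd, by rw [show iel T [] = 1 from rfl, apt_one]; rfl⟩
  | x :: l, hl, d, hd => by
    obtain ⟨h1, -, h2⟩ := delta_step hD (hl x List.mem_cons_self) hd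
    obtain ⟨h3, h4⟩ := delta_act hD (fun i hi => hl i (List.mem_cons_of_mem _ hi)) h1
    exact ⟨h3, by rw [iel_cons, apt_mul, h2, h4]; rfl⟩

theorem gi_mem {i : ℕ} (hi : i < T.g.length) : el (gi T i) ∈ S T 0 :=
  S_mono (Nat.zero_le i) (S_cons hi ▸ Subgroup.mem_sup_left (Subgroup.mem_zpowers _))

theorem iel_mem : ∀ {l : List ℕ}, (∀ i ∈ l, i < T.g.length) → iel T l ∈ S T 0
  | [], _ => one_mem _
  | x :: l, hl => by
    rw [iel_cons]
    exact mul_mem (iel_mem fun i hi => hl i (List.mem_cons_of_mem _ hi)) (gi_mem (hl x List.mem_cons_self))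

/-- Only the trivial element fixes the base. -/
def Faithful (T : Table) : Prop := ∀ g ∈ S T 0, (∀ b ∈ T.base, apt g (pt T b) = pt T b) → g = 1

theorem sameD_eq (hD : deltaOK T = true) (hF : Faithful T) {u v : List ℕ} (h : sameD T u v = true) :
    iel T u = iel T v := by
  simp only [sameD, Bool.and_eq_true, List.all_eq_true, Nat.blt_eq, Nat.beq_eq] at h
  obtain ⟨hu, hv, hb⟩ := h
  refine inv_mul_eq_one.1 (hF _ (mul_mem (inv_mem (iel_mem hu)) (iel_mem hv)) fun b hbm => ?_)
  obtain ⟨hlt, he⟩ := hb b hbm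
  obtain ⟨-, au⟩ := delta_act hD hu hlt
  obtain ⟨-, av⟩ := delta_act hD hv hlt
  rw [apt_mul, av, ← he, ← au, ← apt_mul, inv_mul_cancel, apt_one]

theorem S_fix (hD : deltaOK T = true) {i d : ℕ} (hd : d < T.m)
    (h : ∀ j < T.g.length, i ≤ j → dstep T j d = d) {t : GT} (ht : t ∈ S T i) :
    apt t (pt T d) = pt T d := by
  induction ht using Subgroup.closure_induction with
  | mem x hx =>
    obtain ⟨w, hw, rfl⟩ := hx
    obtain ⟨k, hk, rfl⟩ := List.getElem_of_mem hw
    have hk' : i + k < T.g.length := by simp at hk; omega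
    rw [show el ((T.g.drop i)[k]) = el (gi T (i + k)) by rw [gi, List.getD_eq_getElem _ _ hk']; simp,
      (delta_step hD hk' hd).2.2, h _ hk' (Nat.le_add_right _ _)]
  | one => exact apt_one _
  | mul x y _ _ hx hy => rw [apt_mul, hy, hx]
  | inv x _ hx =>
    conv_lhs => rw [← hx]
    rw [← apt_mul, inv_mul_cancel, apt_one]

section

variable (hT : tableOK T = true) (hD : deltaOK T = true) (hF : Faithful T)

include hT

theorem table_spec {k : ℕ} (hk : k < T.g.length) : el (gi T k) ^ 3 = 1 ∧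
    ∀ j < T.g.length, ∃ v ∈ S T (j + 1), el (gi T k) * el (gi T j) = el (gi T j) * v * el (gi T k) := by
  have h : tableRow T k = true := allBelow_spec hT hk
  unfold tableRow at h
  rw [Bool.and_eq_true] at h
  refine ⟨by rw [← el_rep, el_eq h.1, el_nil], fun j hj => ⟨_, pcW_drop_mem (j + 1) ((T.comm.getD k []).getD j []), ?_⟩⟩
  have := el_eq (allBelow_spec h.2 hj)
  rw [el_append, el_append, el_append] at this
  exact this

theorem S_normal (i : ℕ) : S T 0 ≤ Subgroup.normalizer ((S T i : Subgroup GT) : Set GT) := by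
  haveI := Fi23.order_facts.1
  refine (Subgroup.closure_le _).2 ?_
  rintro x ⟨w, hw, rfl⟩
  obtain ⟨k, hk, rfl⟩ := List.getElem_of_mem hw
  have hk' : k < T.g.length := by simpa using hk
  have hek : el ((T.g.drop 0)[k]) = el (gi T k) := by rw [gi, List.getD_eq_getElem _ _ hk']; simp
  refine SetLike.mem_coe.2 (Eq.mpr (congrArg (fun y => y ∈ Subgroup.normalizer ((S T i : Subgroup GT) : Set GT)) hek) ?_)
  have hle : (S T i).map (MulAut.conj (el (gi T k))).toMonoidHom ≤ S T i := by
    rw [Subgroup.map_le_iff_le_comap]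
    refine (Subgroup.closure_le _).2 ?_
    rintro y ⟨w', hw', rfl⟩
    obtain ⟨j, hj, rfl⟩ := List.getElem_of_mem hw'
    have hj' : i + j < T.g.length := by simp at hj; omega
    obtain ⟨v, hv, e⟩ := (table_spec hT hk').2 (i + j) hj'
    show el (gi T k) * el ((T.g.drop i)[j]) * (el (gi T k))⁻¹ ∈ S T i
    have hel : el ((T.g.drop i)[j]) = el (gi T (i + j)) := by rw [gi, List.getD_eq_getElem _ _ hj']; simp
    rw [hel, e, mul_inv_cancel_right]
    refine (S T i).mul_mem ?_ (S_mono (by omega) hv)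
    rw [← hel]
    exact Subgroup.subset_closure ⟨_, List.getElem_mem _, rfl⟩
  have heq : (S T i).map (MulAut.conj (el (gi T k))).toMonoidHom = S T i :=
    Subgroup.eq_of_le_of_card_ge hle
      (Nat.card_congr ((S T i).equivMapOfInjective _ (MulEquiv.injective _)).toEquiv).le
  rw [Subgroup.mem_normalizer_iff]
  intro y
  constructor
  · exact fun hy => hle ⟨y, hy, rfl⟩
  · intro hy
    rw [← heq] at hy
    obtain ⟨z, hz, e⟩ := hy
    obtain rfl := (MulAut.conj (el (gi T k))).injective e
    exact hz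

theorem conj_mem {i : ℕ} {c s : GT} (hc : c ∈ S T 0) (hs : s ∈ S T i) : c * s * c⁻¹ ∈ S T i :=
  (Subgroup.mem_normalizer_iff.1 (S_normal hT i hc) s).1 hs

theorem inv_conj_mem {i : ℕ} {c s : GT} (hc : c ∈ S T 0) (hs : s ∈ S T i) : c⁻¹ * s * c ∈ S T i := by
  simpa using conj_mem hT ((S T 0).inv_mem hc) hs

theorem central {i : ℕ} (hi : i < T.g.length) {c : GT} (hc : c ∈ S T 0) :
    ∃ s ∈ S T (i + 1), c * el (gi T i) * c⁻¹ = el (gi T i) * s := by
  induction hc using Subgroup.closure_induction with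
  | mem x hx =>
    obtain ⟨w, hw, rfl⟩ := hx
    obtain ⟨k, hk, rfl⟩ := List.getElem_of_mem hw
    have hk' : k < T.g.length := by simpa using hk
    obtain ⟨v, hv, e⟩ := (table_spec hT hk').2 i hi
    refine ⟨v, hv, ?_⟩
    rw [show el ((T.g.drop 0)[k]) = el (gi T k) by rw [gi, List.getD_eq_getElem _ _ hk']; simp, e,
      mul_inv_cancel_right]
  | one => exact ⟨1, one_mem _, by simp⟩
  | mul x y hx hy ihx ihy =>
    obtain ⟨a, ha, ea⟩ := ihx
    obtain ⟨b, hb, eb⟩ := ihy
    refine ⟨a * (x * b * x⁻¹), mul_mem ha (conj_mem hT hx hb), ?_⟩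
    calc x * y * el (gi T i) * (x * y)⁻¹ = x * (y * el (gi T i) * y⁻¹) * x⁻¹ := by group
      _ = (x * el (gi T i) * x⁻¹) * (x * b * x⁻¹) := by rw [eb]; group
      _ = _ := by rw [ea, mul_assoc]
  | inv x hx ih =>
    obtain ⟨a, ha, ea⟩ := ih
    refine ⟨(x⁻¹ * a * x)⁻¹, inv_mem (inv_conj_mem hT hx ha), ?_⟩
    have e2 : el (gi T i) = x⁻¹ * el (gi T i) * a * x := by
      rw [mul_assoc x⁻¹, ← ea]; group
    calc x⁻¹ * el (gi T i) * x⁻¹⁻¹ = x⁻¹ * el (gi T i) * a * x * (x⁻¹ * a * x)⁻¹ := by group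
      _ = el (gi T i) * (x⁻¹ * a * x)⁻¹ := by rw [← e2]

theorem central_pow {i : ℕ} (hi : i < T.g.length) {c : GT} (hc : c ∈ S T 0) (a : ℕ) :
    ∃ s ∈ S T (i + 1), c * el (gi T i) ^ a * c⁻¹ = el (gi T i) ^ a * s := by
  obtain ⟨s, hs, e⟩ := central hT hi hc
  have hg : el (gi T i) ∈ S T 0 := S_mono (Nat.zero_le i) (S_cons hi ▸ Subgroup.mem_sup_left (Subgroup.mem_zpowers _))
  induction a with
  | zero => exact ⟨1, one_mem _, by simp⟩
  | succ a ih =>
    obtain ⟨t, ht, et⟩ := ih
    refine ⟨((el (gi T i))⁻¹ * t * el (gi T i)) * s, mul_mem (inv_conj_mem hT hg ht) hs, ?_⟩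
    calc c * el (gi T i) ^ (a + 1) * c⁻¹
        = (c * el (gi T i) ^ a * c⁻¹) * (c * el (gi T i) * c⁻¹) := by rw [pow_succ]; group
      _ = _ := by rw [et, e, pow_succ]; group

theorem split_mem {i : ℕ} (hi : i < T.g.length) {t : GT} (ht : t ∈ S T i) :
    ∃ a < 3, ∃ t' ∈ S T (i + 1), t = el (gi T i) ^ a * t' := by
  have hg : el (gi T i) ∈ S T 0 := S_mono (Nat.zero_le i) (S_cons hi ▸ Subgroup.mem_sup_left (Subgroup.mem_zpowers _))
  have hle : Subgroup.zpowers (el (gi T i)) ≤ Subgroup.normalizer ((S T (i + 1) : Subgroup GT) : Set GT) :=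
    Subgroup.zpowers_le.2 (S_normal hT (i + 1) hg)
  rw [S_cons hi, ← SetLike.mem_coe, Subgroup.coe_mul_of_left_le_normalizer_right _ _ hle] at ht
  obtain ⟨u, hu, t', ht', rfl⟩ := ht
  obtain ⟨z, rfl⟩ := Subgroup.mem_zpowers_iff.1 hu
  refine ⟨(z % 3).toNat, by omega, t', ht', ?_⟩
  have h3 : el (gi T i) ^ (3 : ℤ) = 1 := by rw [zpow_ofNat]; exact (table_spec hT hi).1
  show el (gi T i) ^ z * t' = _
  conv_lhs => rw [← Int.emod_add_mul_ediv z 3, zpow_add, zpow_mul, h3, one_zpow, mul_one]
  rw [← zpow_natCast, Int.toNat_of_nonneg (by omega)]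

include hD hF in
theorem chk_sound : ∀ (n : Node) (pre : List ℕ), chk T n pre = true →
    ∀ t ∈ S T pre.length, Q (el (pcW T.g pre) * t)
  | .split a b c, pre, h, t, ht => by
    simp only [chk, Bool.and_eq_true, Nat.blt_eq] at h
    obtain ⟨hlen, ha, hb, hc⟩ := h
    obtain ⟨j, hj, t', ht', rfl⟩ := split_mem hT hlen ht
    have key : ∀ (n : ℕ) (d : Node), chk T d (pre ++ [n]) = true →
        (∀ t ∈ S T (pre ++ [n]).length, Q (el (pcW T.g (pre ++ [n])) * t)) →
        Q (el (pcW T.g pre) * (el (gi T pre.length) ^ n * t')) := by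
      intro n d _ hd
      have := hd t' (by simpa using ht')
      rwa [el_pcW_snoc _ _ _ hlen, mul_assoc] at this
    interval_cases j
    · exact key 0 a ha (chk_sound a _ ha)
    · exact key 1 b hb (chk_sound b _ hb)
    · exact key 2 c hc (chk_sound c _ hc)
  | .fuse c e v d, pre, h, t, ht => by
    simp only [chk, Bool.and_eq_true, Bool.or_eq_true, Nat.blt_eq, Nat.beq_eq] at h
    obtain ⟨hlen, he, hs, hd⟩ := h
    have hfix := sameD_eq hD hF hs
    simp only [iel_append, iel_replicate, el_pcI, List.drop_zero] at hfix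
    set x₀ := el (pcW T.g pre) with hx₀
    set g := el (gi T pre.length) with hg_def
    set cc := el (pcW T.g c) with hcc
    set vv := el (pcW (T.g.drop (pre.length + 1)) v) with hvv
    have hcm : cc ∈ S T 0 := pcW_drop_mem (T := T) 0 c
    have hvm : vv ∈ S T (pre.length + 1) := pcW_drop_mem _ v
    have h0 : ∀ t ∈ S T (pre.length + 1), Q (x₀ * t) := fun t ht => by
      have := chk_sound d _ hd t (by simpa using ht)
      rwa [el_pcW_snoc _ _ _ hlen, pow_zero, mul_one] at this
    have step : ∀ b : ℕ, (∀ t ∈ S T (pre.length + 1), Q (x₀ * g ^ b * t)) →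
        ∀ t ∈ S T (pre.length + 1), Q (x₀ * g ^ (e + b) * t) := by
      intro b hb t ht
      obtain ⟨s₁, hs₁, e₁⟩ := central_pow hT hlen ((S T 0).inv_mem hcm) b
      rw [inv_inv, ← hg_def] at e₁
      have hgm : g ^ b ∈ S T 0 := (S T 0).pow_mem
        (S_mono (Nat.zero_le _) (S_cons hlen ▸ Subgroup.mem_sup_left (Subgroup.mem_zpowers _))) b
      refine Q_conj cc ?_
      have hmem : ((g ^ b)⁻¹ * (cc⁻¹ * vv⁻¹ * cc) * g ^ b) * (s₁ * (cc⁻¹ * t * cc)) ∈ S T (pre.length + 1) :=
        mul_mem (inv_conj_mem hT hgm (inv_conj_mem hT hcm (inv_mem hvm))) (mul_mem hs₁ (inv_conj_mem hT hcm ht))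
      convert hb _ hmem using 1
      calc cc⁻¹ * (x₀ * g ^ (e + b) * t) * cc
          = cc⁻¹ * (x₀ * g ^ e * vv * cc) * cc⁻¹ * vv⁻¹ * cc * (cc⁻¹ * g ^ b * cc) * (cc⁻¹ * t * cc) := by
            rw [pow_add]; group
        _ = cc⁻¹ * (cc * x₀) * cc⁻¹ * vv⁻¹ * cc * (g ^ b * s₁) * (cc⁻¹ * t * cc) := by
            rw [← e₁, hfix]
        _ = _ := by group
    have h1 := step 0 (fun t ht => by rw [pow_zero, mul_one]; exact h0 t ht)
    have h2 := step (e + 0) h1
    obtain ⟨j, hj, t', ht', rfl⟩ := split_mem hT hlen ht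
    rw [← hg_def, ← mul_assoc]
    have h4 : g ^ 4 = g := by rw [pow_succ, (table_spec hT hlen).1, one_mul]
    interval_cases j
    · rw [pow_zero, mul_one]; exact h0 t' ht'
    · rcases he with rfl | rfl
      · exact h1 t' ht'
      · have := h2 t' ht'
        rwa [show (2 + (2 + 0) : ℕ) = 4 from rfl, h4, ← pow_one g] at this
    · rcases he with rfl | rfl
      · exact h2 t' ht'
      · exact h1 t' ht'
  | .fixD d, pre, h, t, ht => by
    simp only [chk, Bool.and_eq_true, List.all_eq_true, Nat.blt_eq, Nat.beq_eq] at h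
    obtain ⟨hd, hl, he, hS⟩ := h
    obtain ⟨-, hp⟩ := delta_act hD hl hd
    intro _
    rcases Nat.eq_zero_or_pos T.g.length with hz | hz
    · refine ⟨0, by norm_num, ?_⟩
      rw [S_eq_bot (by omega), Subgroup.mem_bot] at ht
      have : pcW T.g pre = [] := by rw [List.length_eq_zero_iff] at hz; rw [hz]; cases pre <;> rfl
      rw [ht, mul_one, this, el_nil, apt_one]
    refine ⟨pt T d, (delta_step hD hz hd).2.1, ?_⟩
    rw [apt_mul, S_fix hD hd (fun j hj hij => ?_) ht, ← el_pcI_zero, hp, he]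
    have h2 := allBelow_spec hS hj
    simp only [Bool.or_eq_true, Nat.blt_eq, Nat.beq_eq] at h2
    exact h2.resolve_left (by omega)
  | .fixP p, pre, h, t, ht => by
    simp only [chk, Bool.and_eq_true, Nat.beq_eq, Nat.blt_eq] at h
    obtain ⟨hlen, hp, hw, he⟩ := h
    rw [S_eq_bot hlen.ge, Subgroup.mem_bot] at ht
    rw [ht, mul_one]
    exact fun _ => ⟨p, hp, (apt_el hw hp).trans he⟩
  | .bad d, pre, h, t, ht => by
    simp only [chk, Bool.and_eq_true, List.all_eq_true, Nat.beq_eq, Nat.blt_eq, Bool.not_eq_true'] at h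
    obtain ⟨hlen, hl, hd, hne⟩ := h
    rw [S_eq_bot hlen.ge, Subgroup.mem_bot] at ht
    subst ht
    rw [mul_one]
    intro h3
    exfalso
    obtain ⟨-, hp⟩ := delta_act hD (l := pcI 0 pre ++ (pcI 0 pre ++ pcI 0 pre))
      (fun i hi => by simp only [List.mem_append] at hi; rcases hi with hi | hi | hi <;> exact hl i hi) hd
    rw [iel_append, iel_append, el_pcI_zero, ← pow_two, ← pow_succ, h3, apt_one] at hp
    rw [← hp, Nat.beq_refl] at hne
    exact Bool.noConfusion hne

theorem S_card_le {i : ℕ} (hi : i < T.g.length) : Nat.card (S T i) ≤ 3 * Nat.card (S T (i + 1)) := by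
  haveI := Fi23.order_facts.1
  have hsurj : Function.Surjective (fun p : Fin 3 × S T (i + 1) =>
      (⟨el (gi T i) ^ (p.1 : ℕ) * p.2, mul_mem ((S T i).pow_mem
        (S_cons hi ▸ Subgroup.mem_sup_left (Subgroup.mem_zpowers _)) _) (S_mono (Nat.le_succ i) p.2.2)⟩ : S T i)) := by
    rintro ⟨t, ht⟩
    obtain ⟨a, ha, t', ht', rfl⟩ := split_mem hT hi ht
    exact ⟨⟨⟨a, ha⟩, ⟨t', ht'⟩⟩, rfl⟩
  have := Nat.card_le_card_of_surjective _ hsurj
  rwa [Nat.card_prod, Nat.card_fin] at this

theorem card_S_le : ∀ (d i : ℕ), i + d = T.g.length → Nat.card (S T i) ≤ 3 ^ d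
  | 0, i, h => by rw [S_eq_bot (by omega), Subgroup.card_bot]; simp
  | d + 1, i, h => by
    refine (S_card_le hT (by omega)).trans ?_
    have := card_S_le d (i + 1) (by omega)
    rw [pow_succ, mul_comm]
    exact Nat.mul_le_mul_right 3 this

end

end Cfsg.Agent.Fi23Ord3.Pc
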