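import Cfsg.Agent.Lib.Fi23Ord3.ThreeChecks
import Mathlib.Data.List.Nodup

/-!
Every element of order three of the presented Fi23 centralises a transposition.
-/

set_option autoImplicit false
set_option maxRecDepth 100000

namespace Cfsg.Agent.Fi23Ord3.Three

open Cfsg.Agent.CosetCert
open Cfsg.Agent.FischerPresented
open Pc ThreeData

/-- The Sylow 3-subgroup. -/
noncomputable def P : Subgroup GT := S tbl 0

/-- The elements of the subgroup fixing the first base points. -/
noncomputable def stab (l : ℕ) : Subgroup GT where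
  carrier := {g | g ∈ P ∧ ∀ j < l, apt g (pt tbl (tbl.base.getD j 0)) = pt tbl (tbl.base.getD j 0)}
  one_mem' := ⟨one_mem _, fun _ _ => apt_one _⟩
  mul_mem' := fun {a b} ha hb => ⟨mul_mem ha.1 hb.1, fun j hj => by rw [apt_mul, hb.2 j hj, ha.2 j hj]⟩
  inv_mem' := fun {a} ha => ⟨inv_mem ha.1, fun j hj => by
    conv_lhs => rw [← ha.2 j hj]
    rw [← apt_mul, inv_mul_cancel, apt_one]⟩

theorem base_lt {j : ℕ} (hj : j < 6) : tbl.base.getD j 0 < tbl.m := by
  have h := (Bool.and_eq_true_iff.1 trans_ok).2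
  have := List.all_eq_true.1 h (tbl.base.getD j 0) (by
    rw [List.getD_eq_getElem _ _ (show j < tbl.base.length from hj)]; exact List.getElem_mem _)
  exact Nat.blt_eq.mp this

theorem step {l : ℕ} (hl : l < 6) :
    (trans.getD l []).length * Nat.card (stab (l + 1)) ≤ Nat.card (stab l) := by
  haveI := Fi23.order_facts.1
  have h := allBelow_spec (Bool.and_eq_true_iff.1 trans_ok).1 hl
  simp only [Bool.and_eq_true, List.all_eq_true, decide_eq_true_eq, Nat.blt_eq] at h
  obtain ⟨hfix, hnd⟩ := h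
  have hlen : ∀ e ∈ trans.getD l [], ∀ i ∈ pcI 0 e, i < tbl.g.length := fun e he i hi => (hfix e he).1 i hi
  have himg : ∀ e ∈ trans.getD l [], ∀ j < 6, apt (iel tbl (pcI 0 e)) (pt tbl (tbl.base.getD j 0)) =
      pt tbl (dact tbl (pcI 0 e) (tbl.base.getD j 0)) := fun e he j hj =>
    (delta_act delta_ok (hlen e he) (base_lt hj)).2
  have hmem : ∀ e ∈ trans.getD l [], iel tbl (pcI 0 e) ∈ stab l := fun e he => ⟨iel_mem (hlen e he), fun j hj => by
    rw [himg e he j (hj.trans hl), Nat.eq_of_beq_eq_true (allBelow_spec (hfix e he).2 hj)]⟩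
  let f : Fin (trans.getD l []).length × stab (l + 1) → stab l := fun x =>
    ⟨iel tbl (pcI 0 (trans.getD l [])[x.1]) * x.2,
      mul_mem (hmem _ (List.getElem_mem _)) ⟨x.2.2.1, fun j hj => x.2.2.2 j (hj.trans (Nat.lt_succ_self l))⟩⟩
  have hf : Function.Injective f := by
    rintro ⟨k, s⟩ ⟨k', s'⟩ e
    have e' : iel tbl (pcI 0 (trans.getD l [])[k]) * (s : GT) = iel tbl (pcI 0 (trans.getD l [])[k']) * (s' : GT) :=
      congrArg Subtype.val e
    have e2 := congrArg (fun g => apt g (pt tbl (tbl.base.getD l 0))) e'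
    simp only [apt_mul, s.2.2 l (Nat.lt_succ_self l), s'.2.2 l (Nat.lt_succ_self l)] at e2
    replace e2 := (himg _ (List.getElem_mem k.2) l hl).symm.trans (e2.trans (himg _ (List.getElem_mem k'.2) l hl))
    have hk : k = k' := by
      refine Fin.ext ((List.Nodup.getElem_inj_iff hnd (hi := by rw [List.length_map]; exact k.2) (hj := by rw [List.length_map]; exact k'.2)).1 ?_)
      rw [List.getElem_map, List.getElem_map]
      exact e2
    subst hk
    exact Prod.ext rfl (Subtype.ext (mul_left_cancel e'))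
  have := Nat.card_le_card_of_injective f hf
  rwa [Nat.card_prod, Nat.card_fin] at this

theorem card_facts : Nat.card P = 3 ^ 13 ∧ Nat.card (stab 6) = 1 := by
  haveI := Fi23.order_facts.1
  have hup : Nat.card (stab 0) ≤ 3 ^ 13 := by
    refine le_trans (Nat.le_of_dvd Nat.card_pos (Subgroup.card_dvd_of_le (fun g hg => hg.1)))
      (card_S_le table_ok 13 0 rfl)
  have h0 : stab 0 = P := le_antisymm (fun g hg => hg.1) fun g hg => ⟨hg, fun j hj => absurd hj (by omega)⟩
  have s0 := step (l := 0) (by norm_num)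
  have s1 := step (l := 1) (by norm_num)
  have s2 := step (l := 2) (by norm_num)
  have s3 := step (l := 3) (by norm_num)
  have s4 := step (l := 4) (by norm_num)
  have s5 := step (l := 5) (by norm_num)
  simp only [show (trans.getD 0 []).length = 81 from rfl, show (trans.getD 1 []).length = 27 from rfl,
    show (trans.getD 2 []).length = 3 from rfl, show (trans.getD 3 []).length = 9 from rfl,
    show (trans.getD 4 []).length = 9 from rfl, show (trans.getD 5 []).length = 3 from rfl, Nat.reduceAdd] at s0 s1 s2 s3 s4 s5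
  have hpos : 0 < Nat.card (stab 6) := Nat.card_pos
  refine ⟨?_, by omega⟩
  rw [← h0]
  omega

theorem faithful : Faithful tbl := by
  intro g hg h
  have hm : g ∈ stab 6 := ⟨hg, fun j hj => h _ (by
    rw [List.getD_eq_getElem _ _ (show j < tbl.base.length from hj)]; exact List.getElem_mem _)⟩
  rw [Subgroup.card_eq_one.1 card_facts.2, Subgroup.mem_bot] at hm
  exact hm

theorem factorization_three : (Nat.card GT).factorization 3 = 13 := by
  rw [Fi23.order_facts.2.1, show (4089470473293004800 : ℕ) = 3 ^ 13 * (2 ^ 18 * 5 ^ 2 * 7 * 11 * 13 * 17 * 23) by norm_num,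
    Nat.factorization_mul (by norm_num) (by norm_num), Finsupp.add_apply, Nat.prime_three.factorization_pow,
    Finsupp.single_eq_same, Nat.factorization_eq_zero_of_not_dvd (by norm_num), add_zero]

/-- The certified subgroup as a Sylow subgroup. -/
noncomputable def sylow : Sylow 3 GT :=
  haveI := Fact.mk Nat.prime_three
  haveI := Fi23.order_facts.1
  Sylow.ofCard P (by rw [card_facts.1, factorization_three])

/-- An element whose cube is trivial commutes with a transposition. -/
theorem exists_commute {y : GT} (h3 : y ^ 3 = 1) : ∃ d ∈ Fi23.D, Commute y d := by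
  haveI := Fact.mk Nat.prime_three
  haveI := Fi23.order_facts.1
  have hp : IsPGroup 3 (Subgroup.zpowers y) := by
    rintro ⟨a, ha⟩
    obtain ⟨k, rfl⟩ := Subgroup.mem_zpowers_iff.1 ha
    refine ⟨1, Subtype.ext ?_⟩
    show (y ^ k) ^ (3 ^ 1) = 1
    rw [pow_one, ← zpow_natCast, ← zpow_mul, mul_comm, zpow_mul, zpow_natCast, h3, one_zpow]
  obtain ⟨Q, hQ⟩ := hp.exists_le_sylow
  obtain ⟨g, hg⟩ := MulAction.exists_smul_eq GT Q sylow
  have hy : g * y * g⁻¹ ∈ P := by
    show g * y * g⁻¹ ∈ (sylow : Subgroup GT)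
    rw [← hg, Sylow.coe_subgroup_smul]
    exact ⟨y, hQ (Subgroup.mem_zpowers y), rfl⟩
  have hq := chk_sound table_ok delta_ok faithful ThreeData.tree [] tree_ok _ hy
  rw [show el (pcW tbl.g []) = 1 from el_nil, one_mul] at hq
  obtain ⟨p, hp, e⟩ := hq (by rw [conj_pow, h3, mul_one, mul_inv_cancel])
  have hc := (apt_fix_iff _ hp).1 e
  refine ⟨g⁻¹ * Out23.tr ⟨p, hp⟩ * g, ?_, ?_⟩
  · obtain ⟨a, ha⟩ := Fi23.mem_D.1 (Out23.tr_mem ⟨p, hp⟩)
    exact Fi23.mem_D.2 ⟨g⁻¹ * a, by rw [← ha]; group⟩
  · have := hc.map (MulAut.conj g⁻¹).toMonoidHom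
    simpa [mul_assoc] using this

end Cfsg.Agent.Fi23Ord3.Three
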