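import Cfsg.Agent.Lib.Fi23Ord3.ThreeData
import Cfsg.Agent.Lib.FischerPresented.Out23Bound

/-!
The checks of the certificate for the elements of order three of the presented Fi23.
-/

set_option autoImplicit false
set_option maxRecDepth 100000
set_option Elab.async false

namespace Cfsg.Agent.Fi23Ord3.Three

open Cfsg.Agent.CosetCert
open Cfsg.Agent.FischerPresented
open Pc ThreeData

/-- The listed elements fix the base points before the level and take the next one to different points. -/
noncomputable def transOK : Bool :=
  allBelow (fun l =>
    ((trans.getD l []).all fun e => ((pcI 0 e).all fun i => Nat.blt i 13) &&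
      allBelow (fun j => Nat.beq (dact tbl (pcI 0 e) (tbl.base.getD j 0)) (tbl.base.getD j 0)) l) &&
    decide (((trans.getD l []).map fun e => pt tbl (dact tbl (pcI 0 e) (tbl.base.getD l 0))).Nodup)) 6 &&
  (tbl.base.all fun b => Nat.blt b tbl.m)

theorem trans_ok : transOK = true := by decide +kernel

theorem table_0 : tableRow tbl 0 = true := by decide +kernel

theorem table_1 : tableRow tbl 1 = true := by decide +kernel

theorem table_2 : tableRow tbl 2 = true := by decide +kernel

theorem table_3 : tableRow tbl 3 = true := by decide +kernel

theorem table_4 : tableRow tbl 4 = true := by decide +kernel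

theorem table_5 : tableRow tbl 5 = true := by decide +kernel

theorem table_6 : tableRow tbl 6 = true := by decide +kernel

theorem table_7 : tableRow tbl 7 = true := by decide +kernel

theorem table_8 : tableRow tbl 8 = true := by decide +kernel

theorem table_9 : tableRow tbl 9 = true := by decide +kernel

theorem table_10 : tableRow tbl 10 = true := by decide +kernel

theorem table_11 : tableRow tbl 11 = true := by decide +kernel

theorem table_12 : tableRow tbl 12 = true := by decide +kernel

theorem table_ok : tableOK tbl = true := by
  refine Out23.allBelow_intro fun k hk => ?_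
  rcases (show k = 0 ∨ k = 1 ∨ k = 2 ∨ k = 3 ∨ k = 4 ∨ k = 5 ∨ k = 6 ∨ k = 7 ∨ k = 8 ∨ k = 9 ∨ k = 10 ∨ k = 11 ∨ k = 12 by
    have : k < 13 := hk; omega) with rfl | rfl | rfl | rfl | rfl | rfl | rfl | rfl | rfl | rfl | rfl | rfl | rfl
  exacts [table_0, table_1, table_2, table_3, table_4, table_5, table_6, table_7, table_8, table_9, table_10, table_11, table_12]

theorem delta_0 : deltaRow tbl 0 = true := by decide +kernel

theorem delta_1 : deltaRow tbl 1 = true := by decide +kernel

theorem delta_2 : deltaRow tbl 2 = true := by decide +kernel

theorem delta_3 : deltaRow tbl 3 = true := by decide +kernel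

theorem delta_4 : deltaRow tbl 4 = true := by decide +kernel

theorem delta_5 : deltaRow tbl 5 = true := by decide +kernel

theorem delta_6 : deltaRow tbl 6 = true := by decide +kernel

theorem delta_7 : deltaRow tbl 7 = true := by decide +kernel

theorem delta_8 : deltaRow tbl 8 = true := by decide +kernel

theorem delta_9 : deltaRow tbl 9 = true := by decide +kernel

theorem delta_10 : deltaRow tbl 10 = true := by decide +kernel

theorem delta_11 : deltaRow tbl 11 = true := by decide +kernel

theorem delta_12 : deltaRow tbl 12 = true := by decide +kernel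

theorem delta_ok : deltaOK tbl = true := by
  refine Out23.allBelow_intro fun k hk => ?_
  rcases (show k = 0 ∨ k = 1 ∨ k = 2 ∨ k = 3 ∨ k = 4 ∨ k = 5 ∨ k = 6 ∨ k = 7 ∨ k = 8 ∨ k = 9 ∨ k = 10 ∨ k = 11 ∨ k = 12 by
    have : k < 13 := hk; omega) with rfl | rfl | rfl | rfl | rfl | rfl | rfl | rfl | rfl | rfl | rfl | rfl | rfl
  exacts [delta_0, delta_1, delta_2, delta_3, delta_4, delta_5, delta_6, delta_7, delta_8, delta_9, delta_10, delta_11, delta_12]

theorem tree_ok : chk tbl ThreeData.tree [] = true := by decide +kernel

end Cfsg.Agent.Fi23Ord3.Three
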