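import Cfsg.Agent.Lib.Fi23Ord3.Basic

/-! Data: lifts to the centraliser of a transposition of the four elements of order three of Fi22, their fixed points and commuting sets. -/

set_option autoImplicit false
set_option maxRecDepth 100000

namespace Cfsg.Agent.Fi23Ord3.WidthData

/-- The lift. -/
def w7 : List ℕ := [0, 1, 0, 1]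

/-- Fixed points: the point, the position of a noncommuting predecessor, a path to the point. -/
def fix7 : List (ℕ × ℕ × List ℕ) := [
  (0, 0, []),
  (1, 0, [9]),
  (2, 0, [9, 6]),
  (3, 0, [9, 6, 5]),
  (4, 0, [9, 6, 5, 4]),
  (5, 0, [9, 6, 5, 4, 3]),
  (7, 0, [9, 6, 5, 4, 3, 7]),
  (11, 0, [9, 6, 5, 4, 3, 7, 8]),
  (179, 0, [9, 6, 5, 4, 3, 2, 1, 0, 7, 3, 2, 1, 4, 3, 2]),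
  (180, 0, [9, 6, 5, 4, 3, 2, 1, 0, 7, 3, 2, 1, 4, 3, 2, 5]),
  (181, 0, [9, 6, 5, 4, 3, 2, 1, 0, 7, 3, 2, 1, 4, 3, 2, 7]),
  (182, 0, [9, 6, 5, 4, 3, 2, 1, 0, 7, 3, 2, 1, 4, 3, 2, 5, 7]),
  (183, 0, [9, 6, 5, 4, 3, 2, 1, 0, 7, 3, 2, 1, 4, 3, 2, 8]),
  (184, 0, [9, 6, 5, 4, 3, 2, 1, 0, 7, 3, 2, 1, 4, 3, 2, 5, 8]),
  (185, 0, [9, 6, 5, 4, 3, 2, 1, 0, 7, 3, 2, 1, 4, 3, 2, 5, 4]),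
  (186, 0, [9, 6, 5, 4, 3, 2, 1, 0, 7, 3, 2, 1, 4, 3, 2, 5, 4, 7]),
  (187, 0, [9, 6, 5, 4, 3, 2, 1, 0, 7, 3, 2, 1, 4, 3, 2, 5, 4, 8]),
  (188, 0, [9, 6, 5, 4, 3, 2, 1, 0, 7, 3, 2, 1, 4, 3, 2, 5, 6]),
  (189, 0, [9, 6, 5, 4, 3, 2, 1, 0, 7, 3, 2, 1, 4, 3, 2, 5, 6, 7]),
  (190, 0, [9, 6, 5, 4, 3, 2, 1, 0, 7, 3, 2, 1, 4, 3, 2, 5, 6, 8]),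
  (191, 0, [9, 6, 5, 4, 3, 2, 1, 0, 7, 3, 2, 1, 4, 3, 2, 5, 4, 6]),
  (192, 0, [9, 6, 5, 4, 3, 2, 1, 0, 7, 3, 2, 1, 4, 3, 2, 5, 4, 6, 7]),
  (193, 0, [9, 6, 5, 4, 3, 2, 1, 0, 7, 3, 2, 1, 4, 3, 2, 5, 4, 6, 8]),
  (194, 0, [9, 6, 5, 4, 3, 2, 1, 0, 7, 3, 2, 1, 4, 3, 2, 8, 7]),
  (195, 0, [9, 6, 5, 4, 3, 2, 1, 0, 7, 3, 2, 1, 4, 3, 2, 5, 8, 7]),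
  (196, 0, [9, 6, 5, 4, 3, 2, 1, 0, 7, 3, 2, 1, 4, 3, 2, 5, 4, 8, 7]),
  (197, 0, [9, 6, 5, 4, 3, 2, 1, 0, 7, 3, 2, 1, 4, 3, 2, 5, 6, 8, 7]),
  (198, 0, [9, 6, 5, 4, 3, 2, 1, 0, 7, 3, 2, 1, 4, 3, 2, 5, 4, 6, 8, 7]),
  (245, 0, [9, 6, 5, 4, 3, 2, 1, 0, 7, 3, 2, 1, 8, 7, 3, 2]),
  (246, 0, [9, 6, 5, 4, 3, 2, 1, 0, 7, 3, 2, 1, 8, 7, 3, 2, 4]),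
  (404, 0, [9, 6, 5, 4, 3, 2, 1, 0, 7, 3, 2, 1, 4, 3, 2, 7, 8]),
  (405, 0, [9, 6, 5, 4, 3, 2, 1, 0, 7, 3, 2, 1, 4, 3, 2, 5, 7, 8]),
  (406, 0, [9, 6, 5, 4, 3, 2, 1, 0, 7, 3, 2, 1, 4, 3, 2, 7, 8, 7]),
  (407, 0, [9, 6, 5, 4, 3, 2, 1, 0, 7, 3, 2, 1, 4, 3, 2, 5, 7, 8, 7]),
  (408, 0, [9, 6, 5, 4, 3, 2, 1, 0, 7, 3, 2, 1, 4, 3, 2, 5, 4, 7, 8]),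
  (409, 0, [9, 6, 5, 4, 3, 2, 1, 0, 7, 3, 2, 1, 4, 3, 2, 5, 4, 7, 8, 7]),
  (410, 0, [9, 6, 5, 4, 3, 2, 1, 0, 7, 3, 2, 1, 4, 3, 2, 5, 6, 7, 8]),
  (411, 0, [9, 6, 5, 4, 3, 2, 1, 0, 7, 3, 2, 1, 4, 3, 2, 5, 6, 7, 8, 7]),
  (412, 0, [9, 6, 5, 4, 3, 2, 1, 0, 7, 3, 2, 1, 4, 3, 2, 5, 4, 6, 7, 8]),
  (413, 0, [9, 6, 5, 4, 3, 2, 1, 0, 7, 3, 2, 1, 4, 3, 2, 5, 4, 6, 7, 8, 7]),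
  (505, 0, [9, 6, 5, 4, 3, 2, 1, 0, 7, 3, 2, 1, 4, 3, 2, 5, 4, 6, 5]),
  (506, 0, [9, 6, 5, 4, 3, 2, 1, 0, 7, 3, 2, 1, 4, 3, 2, 5, 4, 6, 5, 7]),
  (507, 0, [9, 6, 5, 4, 3, 2, 1, 0, 7, 3, 2, 1, 4, 3, 2, 5, 4, 6, 5, 8]),
  (511, 0, [9, 6, 5, 4, 3, 2, 1, 0, 7, 3, 2, 1, 4, 3, 2, 5, 4, 6, 5, 7, 8]),
  (513, 0, [9, 6, 5, 4, 3, 2, 1, 0, 7, 3, 2, 1, 4, 3, 2, 5, 4, 6, 5, 8, 7]),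
  (515, 0, [9, 6, 5, 4, 3, 2, 1, 0, 7, 3, 2, 1, 4, 3, 2, 5, 4, 6, 5, 7, 8, 7]),
  (595, 0, [9, 6, 5, 4, 3, 2, 1, 0, 7, 3, 2, 1, 4, 3, 2, 7, 3]),
  (596, 0, [9, 6, 5, 4, 3, 2, 1, 0, 7, 3, 2, 1, 4, 3, 2, 5, 7, 3]),
  (597, 0, [9, 6, 5, 4, 3, 2, 1, 0, 7, 3, 2, 1, 4, 3, 2, 7, 3, 8]),
  (598, 0, [9, 6, 5, 4, 3, 2, 1, 0, 7, 3, 2, 1, 4, 3, 2, 5, 7, 3, 8]),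
  (599, 0, [9, 6, 5, 4, 3, 2, 1, 0, 7, 3, 2, 1, 4, 3, 2, 5, 6, 7, 3]),
  (600, 0, [9, 6, 5, 4, 3, 2, 1, 0, 7, 3, 2, 1, 4, 3, 2, 5, 6, 7, 3, 8]),
  (603, 0, [9, 6, 5, 4, 3, 2, 1, 0, 7, 3, 2, 1, 4, 3, 2, 5, 4, 3]),
  (604, 0, [9, 6, 5, 4, 3, 2, 1, 0, 7, 3, 2, 1, 4, 3, 2, 5, 4, 3, 6]),
  (605, 0, [9, 6, 5, 4, 3, 2, 1, 0, 7, 3, 2, 1, 4, 3, 2, 5, 4, 3, 8]),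
  (606, 0, [9, 6, 5, 4, 3, 2, 1, 0, 7, 3, 2, 1, 4, 3, 2, 5, 4, 3, 6, 8]),
  (607, 0, [9, 6, 5, 4, 3, 2, 1, 0, 7, 3, 2, 1, 4, 3, 2, 5, 4, 3, 6, 5]),
  (608, 0, [9, 6, 5, 4, 3, 2, 1, 0, 7, 3, 2, 1, 4, 3, 2, 5, 4, 3, 6, 5, 8]),
  (613, 0, [9, 6, 5, 4, 3, 2, 1, 0, 7, 3, 2, 1, 4, 3, 2, 8, 7, 3]),
  (615, 0, [9, 6, 5, 4, 3, 2, 1, 0, 7, 3, 2, 1, 4, 3, 2, 5, 8, 7, 3]),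
  (617, 0, [9, 6, 5, 4, 3, 2, 1, 0, 7, 3, 2, 1, 4, 3, 2, 7, 8, 7, 3]),
  (619, 0, [9, 6, 5, 4, 3, 2, 1, 0, 7, 3, 2, 1, 4, 3, 2, 5, 7, 8, 7, 3]),
  (621, 0, [9, 6, 5, 4, 3, 2, 1, 0, 7, 3, 2, 1, 4, 3, 2, 5, 6, 8, 7, 3]),
  (623, 0, [9, 6, 5, 4, 3, 2, 1, 0, 7, 3, 2, 1, 4, 3, 2, 5, 6, 7, 8, 7, 3]),
  (629, 0, [9, 6, 5, 4, 3, 2, 1, 0, 7, 3, 2, 1, 4, 3, 2, 5, 4, 8, 7, 3]),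
  (630, 0, [9, 6, 5, 4, 3, 2, 1, 0, 7, 3, 2, 1, 4, 3, 2, 5, 4, 6, 8, 7, 3]),
  (631, 0, [9, 6, 5, 4, 3, 2, 1, 0, 7, 3, 2, 1, 4, 3, 2, 5, 4, 7, 8, 7, 3]),
  (632, 0, [9, 6, 5, 4, 3, 2, 1, 0, 7, 3, 2, 1, 4, 3, 2, 5, 4, 6, 7, 8, 7, 3]),
  (633, 0, [9, 6, 5, 4, 3, 2, 1, 0, 7, 3, 2, 1, 4, 3, 2, 5, 4, 6, 5, 8, 7, 3]),
  (634, 0, [9, 6, 5, 4, 3, 2, 1, 0, 7, 3, 2, 1, 4, 3, 2, 5, 4, 6, 5, 7, 8, 7, 3]),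
  (823, 0, [9, 6, 5, 4, 3, 2, 1, 0, 7, 3, 2, 1, 8, 7, 3, 2, 4, 5]),
  (884, 0, [9, 6, 5, 4, 3, 2, 1, 0, 7, 3, 2, 1, 8, 7, 3, 2, 4, 3]),
  (886, 0, [9, 6, 5, 4, 3, 2, 1, 0, 7, 3, 2, 1, 8, 7, 3, 2, 4, 3, 5]),
  (1461, 0, [9, 6, 5, 4, 3, 2, 1, 0, 7, 3, 2, 1, 4, 3, 2, 7, 3, 4]),
  (1462, 0, [9, 6, 5, 4, 3, 2, 1, 0, 7, 3, 2, 1, 4, 3, 2, 7, 3, 4, 8]),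
  (1463, 0, [9, 6, 5, 4, 3, 2, 1, 0, 7, 3, 2, 1, 4, 3, 2, 7, 3, 8, 7]),
  (1464, 0, [9, 6, 5, 4, 3, 2, 1, 0, 7, 3, 2, 1, 4, 3, 2, 7, 3, 8, 7, 3]),
  (1465, 0, [9, 6, 5, 4, 3, 2, 1, 0, 7, 3, 2, 1, 4, 3, 2, 7, 3, 4, 8, 7]),
  (1466, 0, [9, 6, 5, 4, 3, 2, 1, 0, 7, 3, 2, 1, 4, 3, 2, 5, 7, 3, 8, 7]),
  (1467, 0, [9, 6, 5, 4, 3, 2, 1, 0, 7, 3, 2, 1, 4, 3, 2, 5, 7, 3, 8, 7, 3]),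
  (1470, 0, [9, 6, 5, 4, 3, 2, 1, 0, 7, 3, 2, 1, 4, 3, 2, 5, 6, 7, 3, 8, 7]),
  (1471, 0, [9, 6, 5, 4, 3, 2, 1, 0, 7, 3, 2, 1, 4, 3, 2, 5, 6, 7, 3, 8, 7, 3]),
  (1480, 0, [9, 6, 5, 4, 3, 2, 1, 0, 7, 3, 2, 1, 4, 3, 2, 5, 4, 3, 8, 7]),
  (1481, 0, [9, 6, 5, 4, 3, 2, 1, 0, 7, 3, 2, 1, 4, 3, 2, 5, 4, 3, 8, 7, 3]),
  (1482, 0, [9, 6, 5, 4, 3, 2, 1, 0, 7, 3, 2, 1, 4, 3, 2, 5, 4, 3, 6, 8, 7]),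
  (1483, 0, [9, 6, 5, 4, 3, 2, 1, 0, 7, 3, 2, 1, 4, 3, 2, 5, 4, 3, 6, 8, 7, 3]),
  (1486, 0, [9, 6, 5, 4, 3, 2, 1, 0, 7, 3, 2, 1, 4, 3, 2, 5, 4, 3, 6, 5, 8, 7]),
  (1487, 0, [9, 6, 5, 4, 3, 2, 1, 0, 7, 3, 2, 1, 4, 3, 2, 5, 4, 3, 6, 5, 8, 7, 3]),
  (1498, 0, [9, 6, 5, 4, 3, 2, 1, 0, 7, 3, 2, 1, 4, 3, 2, 5, 4, 3, 6, 5, 4]),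
  (1499, 0, [9, 6, 5, 4, 3, 2, 1, 0, 7, 3, 2, 1, 4, 3, 2, 5, 4, 3, 6, 5, 4, 8]),
  (1502, 0, [9, 6, 5, 4, 3, 2, 1, 0, 7, 3, 2, 1, 4, 3, 2, 5, 4, 3, 6, 5, 4, 8, 7]),
  (1507, 0, [9, 6, 5, 4, 3, 2, 1, 0, 7, 3, 2, 1, 4, 3, 2, 8, 7, 3, 4]),
  (1509, 0, [9, 6, 5, 4, 3, 2, 1, 0, 7, 3, 2, 1, 4, 3, 2, 7, 8, 7, 3, 4]),
  (1517, 0, [9, 6, 5, 4, 3, 2, 1, 0, 7, 3, 2, 1, 4, 3, 2, 7, 3, 8, 7, 3, 4]),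
  (1520, 0, [9, 6, 5, 4, 3, 2, 1, 0, 7, 3, 2, 1, 4, 3, 2, 5, 8, 7, 3, 4]),
  (1522, 0, [9, 6, 5, 4, 3, 2, 1, 0, 7, 3, 2, 1, 4, 3, 2, 5, 4, 8, 7, 3, 4]),
  (1523, 0, [9, 6, 5, 4, 3, 2, 1, 0, 7, 3, 2, 1, 4, 3, 2, 5, 6, 8, 7, 3, 4]),
  (1525, 0, [9, 6, 5, 4, 3, 2, 1, 0, 7, 3, 2, 1, 4, 3, 2, 5, 4, 6, 8, 7, 3, 4]),
  (1526, 0, [9, 6, 5, 4, 3, 2, 1, 0, 7, 3, 2, 1, 4, 3, 2, 5, 7, 8, 7, 3, 4]),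
  (1528, 0, [9, 6, 5, 4, 3, 2, 1, 0, 7, 3, 2, 1, 4, 3, 2, 5, 4, 7, 8, 7, 3, 4]),
  (1529, 0, [9, 6, 5, 4, 3, 2, 1, 0, 7, 3, 2, 1, 4, 3, 2, 5, 6, 7, 8, 7, 3, 4]),
  (1531, 0, [9, 6, 5, 4, 3, 2, 1, 0, 7, 3, 2, 1, 4, 3, 2, 5, 4, 6, 7, 8, 7, 3, 4]),
  (1552, 0, [9, 6, 5, 4, 3, 2, 1, 0, 7, 3, 2, 1, 4, 3, 2, 5, 4, 3, 8, 7, 3, 4]),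
  (1553, 0, [9, 6, 5, 4, 3, 2, 1, 0, 7, 3, 2, 1, 4, 3, 2, 5, 4, 3, 6, 8, 7, 3, 4]),
  (1574, 0, [9, 6, 5, 4, 3, 2, 1, 0, 7, 3, 2, 1, 4, 3, 2, 5, 7, 3, 8, 7, 3, 4]),
  (1576, 0, [9, 6, 5, 4, 3, 2, 1, 0, 7, 3, 2, 1, 4, 3, 2, 5, 6, 7, 3, 8, 7, 3, 4]),
  (1583, 0, [9, 6, 5, 4, 3, 2, 1, 0, 7, 3, 2, 1, 4, 3, 2, 5, 4, 6, 5, 8, 7, 3, 4]),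
  (1585, 0, [9, 6, 5, 4, 3, 2, 1, 0, 7, 3, 2, 1, 4, 3, 2, 5, 4, 3, 6, 5, 8, 7, 3, 4]),
  (1587, 0, [9, 6, 5, 4, 3, 2, 1, 0, 7, 3, 2, 1, 4, 3, 2, 5, 4, 6, 5, 7, 8, 7, 3, 4]),
  (2091, 0, [9, 6, 5, 4, 3, 2, 1, 0, 7, 3, 2, 1, 8, 7, 3, 2, 4, 5, 6]),
  (2197, 0, [9, 6, 5, 4, 3, 2, 1, 0, 7, 3, 2, 1, 8, 7, 3, 2, 4, 3, 5, 6]),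
  (2536, 0, [9, 6, 5, 4, 3, 2, 1, 0, 7, 3, 2, 1, 8, 7, 3, 2, 4, 3, 7]),
  (2538, 0, [9, 6, 5, 4, 3, 2, 1, 0, 7, 3, 2, 1, 8, 7, 3, 2, 4, 3, 5, 7]),
  (2546, 0, [9, 6, 5, 4, 3, 2, 1, 0, 7, 3, 2, 1, 8, 7, 3, 2, 4, 3, 5, 6, 7]),
  (2568, 0, [9, 6, 5, 4, 3, 2, 1, 0, 7, 3, 2, 1, 8, 7, 3, 2, 4, 3, 5, 4]),
  (2570, 0, [9, 6, 5, 4, 3, 2, 1, 0, 7, 3, 2, 1, 8, 7, 3, 2, 4, 3, 5, 4, 6]),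
  (2572, 0, [9, 6, 5, 4, 3, 2, 1, 0, 7, 3, 2, 1, 8, 7, 3, 2, 4, 3, 5, 4, 7]),
  (2574, 0, [9, 6, 5, 4, 3, 2, 1, 0, 7, 3, 2, 1, 8, 7, 3, 2, 4, 3, 5, 4, 6, 7]),
  (4083, 0, [9, 6, 5, 4, 3, 2, 1, 0, 7, 3, 2, 1, 4, 3, 2, 7, 3, 4, 8, 7, 3]),
  (4084, 0, [9, 6, 5, 4, 3, 2, 1, 0, 7, 3, 2, 1, 4, 3, 2, 7, 3, 4, 8, 7, 3, 4]),
  (4085, 0, [9, 6, 5, 4, 3, 2, 1, 0, 7, 3, 2, 1, 4, 3, 2, 5, 4, 3, 6, 5, 4, 8, 7, 3]),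
  (4086, 0, [9, 6, 5, 4, 3, 2, 1, 0, 7, 3, 2, 1, 4, 3, 2, 5, 4, 3, 6, 5, 4, 8, 7, 3, 4]),
  (4095, 0, [9, 6, 5, 4, 3, 2, 1, 0, 7, 3, 2, 1, 4, 3, 2, 8, 7, 3, 4, 5]),
  (4097, 0, [9, 6, 5, 4, 3, 2, 1, 0, 7, 3, 2, 1, 4, 3, 2, 5, 8, 7, 3, 4, 5]),
  (4099, 0, [9, 6, 5, 4, 3, 2, 1, 0, 7, 3, 2, 1, 4, 3, 2, 7, 8, 7, 3, 4, 5]),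
  (4101, 0, [9, 6, 5, 4, 3, 2, 1, 0, 7, 3, 2, 1, 4, 3, 2, 5, 7, 8, 7, 3, 4, 5]),
  (4110, 0, [9, 6, 5, 4, 3, 2, 1, 0, 7, 3, 2, 1, 4, 3, 2, 5, 4, 8, 7, 3, 4, 5]),
  (4111, 0, [9, 6, 5, 4, 3, 2, 1, 0, 7, 3, 2, 1, 4, 3, 2, 5, 4, 7, 8, 7, 3, 4, 5]),
  (4116, 0, [9, 6, 5, 4, 3, 2, 1, 0, 7, 3, 2, 1, 4, 3, 2, 7, 3, 8, 7, 3, 4, 5]),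
  (4118, 0, [9, 6, 5, 4, 3, 2, 1, 0, 7, 3, 2, 1, 4, 3, 2, 5, 7, 3, 8, 7, 3, 4, 5]),
  (4163, 0, [9, 6, 5, 4, 3, 2, 1, 0, 7, 3, 2, 1, 4, 3, 2, 5, 4, 3, 8, 7, 3, 4, 5]),
  (4197, 0, [9, 6, 5, 4, 3, 2, 1, 0, 7, 3, 2, 1, 4, 3, 2, 7, 3, 4, 8, 7, 3, 4, 5]),
  (4221, 0, [9, 6, 5, 4, 3, 2, 1, 0, 7, 3, 2, 1, 4, 3, 2, 5, 6, 8, 7, 3, 4, 5]),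
  (4223, 0, [9, 6, 5, 4, 3, 2, 1, 0, 7, 3, 2, 1, 4, 3, 2, 5, 4, 6, 8, 7, 3, 4, 5]),
  (4224, 0, [9, 6, 5, 4, 3, 2, 1, 0, 7, 3, 2, 1, 4, 3, 2, 5, 6, 7, 8, 7, 3, 4, 5]),
  (4226, 0, [9, 6, 5, 4, 3, 2, 1, 0, 7, 3, 2, 1, 4, 3, 2, 5, 4, 6, 7, 8, 7, 3, 4, 5]),
  (4253, 0, [9, 6, 5, 4, 3, 2, 1, 0, 7, 3, 2, 1, 4, 3, 2, 5, 4, 6, 5, 8, 7, 3, 4, 5]),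
  (4254, 0, [9, 6, 5, 4, 3, 2, 1, 0, 7, 3, 2, 1, 4, 3, 2, 5, 4, 6, 5, 7, 8, 7, 3, 4, 5]),
  (4261, 0, [9, 6, 5, 4, 3, 2, 1, 0, 7, 3, 2, 1, 4, 3, 2, 5, 4, 3, 6, 8, 7, 3, 4, 5]),
  (4265, 0, [9, 6, 5, 4, 3, 2, 1, 0, 7, 3, 2, 1, 4, 3, 2, 5, 4, 3, 6, 5, 8, 7, 3, 4, 5]),
  (4268, 0, [9, 6, 5, 4, 3, 2, 1, 0, 7, 3, 2, 1, 4, 3, 2, 5, 6, 7, 3, 8, 7, 3, 4, 5]),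
  (4424, 0, [9, 6, 5, 4, 3, 2, 1, 0, 7, 3, 2, 1, 4, 3, 2, 5, 4, 3, 6, 5, 4, 8, 7, 3, 4, 5]),
  (4786, 0, [9, 6, 5, 4, 3, 2, 1, 0, 7, 3, 2, 1, 8, 7, 3, 2, 4, 5, 6, 9]),
  (4884, 0, [9, 6, 5, 4, 3, 2, 1, 0, 7, 3, 2, 1, 8, 7, 3, 2, 4, 3, 5, 6, 9]),
  (5228, 0, [9, 6, 5, 4, 3, 2, 1, 0, 7, 3, 2, 1, 8, 7, 3, 2, 4, 3, 5, 4, 6, 9]),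
  (5237, 0, [9, 6, 5, 4, 3, 2, 1, 0, 7, 3, 2, 1, 8, 7, 3, 2, 4, 3, 5, 6, 7, 9]),
  (5246, 0, [9, 6, 5, 4, 3, 2, 1, 0, 7, 3, 2, 1, 8, 7, 3, 2, 4, 3, 5, 4, 6, 7, 9]),
  (5910, 0, [9, 6, 5, 4, 3, 2, 1, 0, 7, 3, 2, 1, 8, 7, 3, 2, 4, 3, 7, 8]),
  (5912, 0, [9, 6, 5, 4, 3, 2, 1, 0, 7, 3, 2, 1, 8, 7, 3, 2, 4, 3, 5, 7, 8]),
  (5916, 0, [9, 6, 5, 4, 3, 2, 1, 0, 7, 3, 2, 1, 8, 7, 3, 2, 4, 3, 5, 4, 7, 8]),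
  (5919, 0, [9, 6, 5, 4, 3, 2, 1, 0, 7, 3, 2, 1, 8, 7, 3, 2, 4, 3, 5, 6, 7, 8]),
  (5922, 0, [9, 6, 5, 4, 3, 2, 1, 0, 7, 3, 2, 1, 8, 7, 3, 2, 4, 3, 5, 4, 6, 7, 8]),
  (5930, 0, [9, 6, 5, 4, 3, 2, 1, 0, 7, 3, 2, 1, 8, 7, 3, 2, 4, 3, 5, 6, 7, 8, 9]),
  (5933, 0, [9, 6, 5, 4, 3, 2, 1, 0, 7, 3, 2, 1, 8, 7, 3, 2, 4, 3, 5, 4, 6, 5, 7, 3]),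
  (5992, 0, [9, 6, 5, 4, 3, 2, 1, 0, 7, 3, 2, 1, 8, 7, 3, 2, 4, 3, 5, 4, 6, 5]),
  (5994, 0, [9, 6, 5, 4, 3, 2, 1, 0, 7, 3, 2, 1, 8, 7, 3, 2, 4, 3, 5, 4, 6, 5, 7]),
  (5996, 0, [9, 6, 5, 4, 3, 2, 1, 0, 7, 3, 2, 1, 8, 7, 3, 2, 4, 3, 5, 4, 6, 5, 9]),
  (5998, 0, [9, 6, 5, 4, 3, 2, 1, 0, 7, 3, 2, 1, 8, 7, 3, 2, 4, 3, 5, 4, 6, 5, 7, 9]),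
  (6008, 0, [9, 6, 5, 4, 3, 2, 1, 0, 7, 3, 2, 1, 8, 7, 3, 2, 4, 3, 5, 4, 6, 5, 7, 8]),
  (6010, 0, [9, 6, 5, 4, 3, 2, 1, 0, 7, 3, 2, 1, 8, 7, 3, 2, 4, 3, 5, 4, 6, 7, 3]),
  (6060, 0, [9, 6, 5, 4, 3, 2, 1, 0, 7, 3, 2, 1, 8, 7, 3, 2, 4, 3, 5, 4, 7, 3]),
  (6061, 0, [9, 6, 5, 4, 3, 2, 1, 0, 7, 3, 2, 1, 8, 7, 3, 2, 4, 3, 5, 4, 7, 3, 8]),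
  (8564, 0, [9, 6, 5, 4, 3, 2, 1, 7, 3, 2, 4, 3, 5, 4, 6, 5, 7, 3, 2, 1, 4, 3, 2]),
  (8565, 0, [9, 6, 5, 4, 3, 2, 1, 7, 3, 2, 4, 3, 5, 4, 6, 5, 7, 3, 2, 1, 4, 3, 2, 7]),
  (8566, 0, [9, 6, 5, 4, 3, 2, 7, 3, 4, 5, 6, 8, 7, 3, 2, 4, 3, 5, 4, 7, 3, 2]),
  (8576, 0, [9, 6, 5, 4, 3, 2, 1, 0, 7, 3, 2, 1, 4, 3, 5, 4, 6, 5, 7, 3, 4, 8, 7, 3, 2]),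
  (8577, 0, [9, 6, 5, 4, 3, 2, 1, 0, 7, 3, 2, 1, 4, 3, 5, 4, 6, 5, 7, 3, 4, 8, 7, 3, 2, 4]),
  (8580, 0, [9, 6, 5, 4, 3, 2, 1, 0, 7, 3, 2, 1, 4, 3, 5, 4, 6, 5, 7, 3, 4, 8, 7, 3, 2, 4, 3]),
  (8582, 0, [9, 6, 5, 4, 3, 2, 1, 0, 7, 3, 2, 1, 4, 3, 5, 4, 6, 5, 7, 3, 4, 8, 7, 3, 2, 4, 5]),
  (8584, 0, [9, 6, 5, 4, 3, 2, 1, 0, 7, 3, 2, 1, 4, 3, 2, 5, 4, 3, 6, 5, 8, 7, 3, 4, 5, 6, 9, 6]),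
  (8587, 0, [9, 6, 5, 4, 3, 2, 1, 0, 7, 3, 2, 1, 4, 3, 2, 5, 4, 3, 6, 5, 4, 8, 7, 3, 4, 5, 6, 9]),
  (8588, 0, [9, 6, 5, 4, 3, 2, 1, 0, 7, 3, 2, 1, 4, 3, 2, 5, 4, 3, 6, 5, 8, 7, 3, 4, 5, 6, 9]),
  (8590, 0, [9, 6, 5, 4, 3, 2, 1, 0, 7, 3, 2, 1, 4, 3, 2, 5, 4, 3, 6, 5, 4, 8, 7, 3, 4, 5, 6]),
  (8591, 0, [9, 6, 5, 4, 3, 2, 1, 0, 7, 3, 2, 1, 4, 3, 2, 5, 4, 3, 6, 5, 8, 7, 3, 4, 5, 6]),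
  (9462, 0, [9, 6, 5, 4, 3, 2, 1, 0, 7, 3, 2, 1, 4, 3, 2, 5, 4, 6, 5, 8, 7, 3, 4, 5, 6, 9, 6, 5]),
  (9463, 0, [9, 6, 5, 4, 3, 2, 1, 0, 7, 3, 2, 1, 4, 3, 2, 5, 4, 6, 5, 8, 7, 3, 4, 5, 6, 9, 6]),
  (9493, 0, [9, 6, 5, 4, 3, 2, 1, 0, 7, 3, 2, 1, 4, 3, 2, 5, 4, 6, 5, 8, 7, 3, 4, 5, 6, 9]),
  (9524, 0, [9, 6, 5, 4, 3, 2, 1, 0, 7, 3, 2, 1, 4, 3, 2, 5, 4, 6, 5, 8, 7, 3, 4, 5, 6]),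
  (9579, 0, [9, 6, 5, 4, 3, 2, 1, 0, 7, 3, 2, 1, 4, 3, 2, 8, 7, 3, 4, 5, 6]),
  (9580, 0, [9, 6, 5, 4, 3, 2, 1, 0, 7, 3, 2, 1, 4, 3, 2, 5, 8, 7, 3, 4, 5, 6]),
  (9581, 0, [9, 6, 5, 4, 3, 2, 1, 0, 7, 3, 2, 1, 4, 3, 2, 7, 8, 7, 3, 4, 5, 6]),
  (9582, 0, [9, 6, 5, 4, 3, 2, 1, 0, 7, 3, 2, 1, 4, 3, 2, 5, 7, 8, 7, 3, 4, 5, 6]),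
  (9585, 0, [9, 6, 5, 4, 3, 2, 1, 0, 7, 3, 2, 1, 4, 3, 2, 5, 4, 8, 7, 3, 4, 5, 6]),
  (9586, 0, [9, 6, 5, 4, 3, 2, 1, 0, 7, 3, 2, 1, 4, 3, 2, 5, 4, 7, 8, 7, 3, 4, 5, 6]),
  (9587, 0, [9, 6, 5, 4, 3, 2, 1, 0, 7, 3, 2, 1, 4, 3, 2, 5, 6, 8, 7, 3, 4, 5, 6]),
  (9588, 0, [9, 6, 5, 4, 3, 2, 1, 0, 7, 3, 2, 1, 4, 3, 2, 5, 6, 7, 8, 7, 3, 4, 5, 6]),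
  (9591, 0, [9, 6, 5, 4, 3, 2, 1, 0, 7, 3, 2, 1, 4, 3, 2, 5, 4, 6, 8, 7, 3, 4, 5, 6]),
  (9592, 0, [9, 6, 5, 4, 3, 2, 1, 0, 7, 3, 2, 1, 4, 3, 2, 5, 4, 6, 7, 8, 7, 3, 4, 5, 6]),
  (9593, 0, [9, 6, 5, 4, 3, 2, 1, 0, 7, 3, 2, 1, 4, 3, 2, 7, 3, 8, 7, 3, 4, 5, 6]),
  (9594, 0, [9, 6, 5, 4, 3, 2, 1, 0, 7, 3, 2, 1, 4, 3, 2, 5, 7, 3, 8, 7, 3, 4, 5, 6]),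
  (9596, 0, [9, 6, 5, 4, 3, 2, 1, 0, 7, 3, 2, 1, 4, 3, 2, 5, 6, 7, 3, 8, 7, 3, 4, 5, 6]),
  (9620, 0, [9, 6, 5, 4, 3, 2, 1, 0, 7, 3, 2, 1, 4, 3, 2, 5, 4, 3, 8, 7, 3, 4, 5, 6]),
  (9621, 0, [9, 6, 5, 4, 3, 2, 1, 0, 7, 3, 2, 1, 4, 3, 2, 5, 4, 3, 6, 8, 7, 3, 4, 5, 6]),
  (9622, 0, [9, 6, 5, 4, 3, 2, 1, 0, 7, 3, 2, 1, 4, 3, 2, 5, 4, 6, 5, 7, 8, 7, 3, 4, 5, 6]),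
  (9624, 0, [9, 6, 5, 4, 3, 2, 1, 0, 7, 3, 2, 1, 4, 3, 2, 7, 3, 4, 8, 7, 3, 4, 5, 6]),
  (10917, 0, [9, 6, 5, 4, 3, 2, 1, 0, 7, 3, 2, 1, 4, 3, 2, 7, 3, 4, 8, 7, 3, 4, 5, 6, 9]),
  (10918, 0, [9, 6, 5, 4, 3, 2, 1, 0, 7, 3, 2, 1, 4, 3, 2, 7, 3, 8, 7, 3, 4, 5, 6, 9]),
  (10919, 0, [9, 6, 5, 4, 3, 2, 1, 0, 7, 3, 2, 1, 4, 3, 2, 7, 8, 7, 3, 4, 5, 6, 9]),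
  (10920, 0, [9, 6, 5, 4, 3, 2, 1, 0, 7, 3, 2, 1, 4, 3, 2, 8, 7, 3, 4, 5, 6, 9]),
  (11371, 0, [9, 6, 5, 4, 3, 2, 1, 0, 7, 3, 2, 1, 4, 3, 2, 5, 7, 3, 8, 7, 3, 4, 5, 6, 9]),
  (11372, 0, [9, 6, 5, 4, 3, 2, 1, 0, 7, 3, 2, 1, 4, 3, 2, 5, 7, 8, 7, 3, 4, 5, 6, 9]),
  (11379, 0, [9, 6, 5, 4, 3, 2, 1, 0, 7, 3, 2, 1, 4, 3, 2, 5, 8, 7, 3, 4, 5, 6, 9]),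
  (11380, 0, [9, 6, 5, 4, 3, 2, 1, 0, 7, 3, 2, 1, 8, 7, 3, 2, 4, 3, 5, 4, 6, 5, 9, 6]),
  (12029, 0, [9, 6, 5, 4, 3, 2, 1, 0, 7, 3, 2, 1, 4, 3, 2, 5, 4, 3, 8, 7, 3, 4, 5, 6, 9]),
  (12030, 0, [9, 6, 5, 4, 3, 2, 1, 0, 7, 3, 2, 1, 4, 3, 2, 5, 4, 3, 6, 8, 7, 3, 4, 5, 6, 9]),
  (12031, 0, [9, 6, 5, 4, 3, 2, 1, 0, 7, 3, 2, 1, 4, 3, 2, 5, 4, 8, 7, 3, 4, 5, 6, 9]),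
  (12032, 0, [9, 6, 5, 4, 3, 2, 1, 0, 7, 3, 2, 1, 4, 3, 2, 5, 4, 6, 8, 7, 3, 4, 5, 6, 9]),
  (12033, 0, [9, 6, 5, 4, 3, 2, 1, 0, 7, 3, 2, 1, 4, 3, 2, 5, 4, 3, 6, 8, 7, 3, 4, 5, 6, 9, 6]),
  (12034, 0, [9, 6, 5, 4, 3, 2, 1, 0, 7, 3, 2, 1, 4, 3, 2, 5, 4, 6, 8, 7, 3, 4, 5, 6, 9, 6]),
  (16795, 0, [9, 6, 5, 4, 3, 2, 1, 7, 3, 2, 4, 3, 5, 4, 6, 5, 7, 3, 2, 1, 4, 3, 2, 7, 3]),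
  (16806, 0, [9, 6, 5, 4, 3, 2, 1, 0, 7, 3, 2, 1, 4, 3, 2, 5, 4, 6, 5, 7, 8, 7, 3, 4, 5, 6, 9, 6, 5]),
  (16809, 0, [9, 6, 5, 4, 3, 2, 1, 0, 7, 3, 2, 1, 4, 3, 2, 5, 4, 6, 5, 7, 8, 7, 3, 4, 5, 6, 9, 6]),
  (16814, 0, [9, 6, 5, 4, 3, 2, 1, 0, 7, 3, 2, 1, 4, 3, 2, 5, 4, 6, 5, 7, 8, 7, 3, 4, 5, 6, 9]),
  (16816, 0, [9, 6, 5, 4, 3, 2, 1, 0, 7, 3, 2, 1, 4, 3, 2, 5, 4, 7, 8, 7, 3, 4, 5, 6, 9]),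
  (16818, 0, [9, 6, 5, 4, 3, 2, 1, 0, 7, 3, 2, 1, 4, 3, 2, 5, 4, 6, 7, 8, 7, 3, 4, 5, 6, 9]),
  (16822, 0, [9, 6, 5, 4, 3, 2, 1, 0, 7, 3, 2, 1, 4, 3, 2, 5, 6, 7, 8, 7, 3, 4, 5, 6, 9]),
  (16823, 0, [9, 6, 5, 4, 3, 2, 1, 0, 7, 3, 2, 1, 4, 3, 2, 5, 4, 6, 7, 8, 7, 3, 4, 5, 6, 9, 6]),
  (16826, 0, [9, 6, 5, 4, 3, 2, 1, 0, 7, 3, 2, 1, 4, 3, 2, 5, 6, 7, 8, 7, 3, 4, 5, 6, 9, 6]),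
  (16834, 0, [9, 6, 5, 4, 3, 2, 1, 0, 7, 3, 2, 1, 4, 3, 2, 5, 6, 7, 3, 8, 7, 3, 4, 5, 6, 9]),
  (16835, 0, [9, 6, 5, 4, 3, 2, 1, 0, 7, 3, 2, 1, 4, 3, 2, 5, 6, 7, 3, 8, 7, 3, 4, 5, 6, 9, 6]),
  (16838, 0, [9, 6, 5, 4, 3, 2, 1, 0, 7, 3, 2, 1, 4, 3, 2, 5, 6, 8, 7, 3, 4, 5, 6, 9]),
  (16839, 0, [9, 6, 5, 4, 3, 2, 1, 0, 7, 3, 2, 1, 4, 3, 2, 5, 6, 8, 7, 3, 4, 5, 6, 9, 6]),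
  (23797, 0, [9, 6, 5, 4, 3, 2, 1, 7, 3, 2, 4, 3, 5, 4, 6, 5, 7, 3, 2, 1, 4, 3, 2, 7, 3, 4]),
  (26623, 0, [9, 6, 5, 4, 3, 2, 1, 7, 3, 2, 4, 3, 5, 4, 6, 5, 7, 3, 2, 1, 4, 3, 2, 7, 3, 4, 5]),
  (29146, 0, [9, 6, 5, 4, 3, 2, 1, 7, 3, 2, 4, 3, 5, 4, 6, 5, 7, 3, 2, 1, 4, 3, 2, 7, 3, 4, 5, 6]),
  (330, 1, [9, 6, 5, 4, 3, 2, 1, 0, 7, 3, 2, 1, 4, 3, 2, 5, 6, 9]),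
  (331, 1, [9, 6, 5, 4, 3, 2, 1, 0, 7, 3, 2, 1, 4, 3, 2, 5, 6, 8, 9]),
  (332, 1, [9, 6, 5, 4, 3, 2, 1, 0, 7, 3, 2, 1, 4, 3, 2, 5, 4, 6, 9]),
  (333, 1, [9, 6, 5, 4, 3, 2, 1, 0, 7, 3, 2, 1, 4, 3, 2, 5, 4, 6, 8, 9]),
  (334, 1, [9, 6, 5, 4, 3, 2, 1, 0, 7, 3, 2, 1, 4, 3, 2, 5, 6, 7, 9]),
  (335, 1, [9, 6, 5, 4, 3, 2, 1, 0, 7, 3, 2, 1, 4, 3, 2, 5, 4, 6, 7, 9]),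
  (336, 1, [9, 6, 5, 4, 3, 2, 1, 0, 7, 3, 2, 1, 4, 3, 2, 5, 6, 8, 7, 9]),
  (337, 1, [9, 6, 5, 4, 3, 2, 1, 0, 7, 3, 2, 1, 4, 3, 2, 5, 4, 6, 8, 7, 9]),
  (429, 1, [9, 6, 5, 4, 3, 2, 1, 0, 7, 3, 2, 1, 4, 3, 2, 5, 6, 7, 8, 9]),
  (430, 1, [9, 6, 5, 4, 3, 2, 1, 0, 7, 3, 2, 1, 4, 3, 2, 5, 6, 7, 8, 7, 9]),
  (431, 1, [9, 6, 5, 4, 3, 2, 1, 0, 7, 3, 2, 1, 4, 3, 2, 5, 4, 6, 7, 8, 9]),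
  (432, 1, [9, 6, 5, 4, 3, 2, 1, 0, 7, 3, 2, 1, 4, 3, 2, 5, 4, 6, 7, 8, 7, 9]),
  (508, 1, [9, 6, 5, 4, 3, 2, 1, 0, 7, 3, 2, 1, 4, 3, 2, 5, 4, 6, 5, 9]),
  (509, 1, [9, 6, 5, 4, 3, 2, 1, 0, 7, 3, 2, 1, 4, 3, 2, 5, 4, 6, 5, 7, 9]),
  (510, 1, [9, 6, 5, 4, 3, 2, 1, 0, 7, 3, 2, 1, 4, 3, 2, 5, 4, 6, 5, 8, 9]),
  (512, 1, [9, 6, 5, 4, 3, 2, 1, 0, 7, 3, 2, 1, 4, 3, 2, 5, 4, 6, 5, 7, 8, 9]),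
  (514, 1, [9, 6, 5, 4, 3, 2, 1, 0, 7, 3, 2, 1, 4, 3, 2, 5, 4, 6, 5, 8, 7, 9]),
  (516, 1, [9, 6, 5, 4, 3, 2, 1, 0, 7, 3, 2, 1, 4, 3, 2, 5, 4, 6, 5, 7, 8, 7, 9]),
  (601, 1, [9, 6, 5, 4, 3, 2, 1, 0, 7, 3, 2, 1, 4, 3, 2, 5, 6, 7, 3, 9]),
  (602, 1, [9, 6, 5, 4, 3, 2, 1, 0, 7, 3, 2, 1, 4, 3, 2, 5, 6, 7, 3, 8, 9]),
  (609, 1, [9, 6, 5, 4, 3, 2, 1, 0, 7, 3, 2, 1, 4, 3, 2, 5, 4, 3, 6, 9]),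
  (610, 1, [9, 6, 5, 4, 3, 2, 1, 0, 7, 3, 2, 1, 4, 3, 2, 5, 4, 3, 6, 8, 9]),
  (611, 1, [9, 6, 5, 4, 3, 2, 1, 0, 7, 3, 2, 1, 4, 3, 2, 5, 4, 3, 6, 5, 9]),
  (612, 1, [9, 6, 5, 4, 3, 2, 1, 0, 7, 3, 2, 1, 4, 3, 2, 5, 4, 3, 6, 5, 8, 9]),
  (625, 1, [9, 6, 5, 4, 3, 2, 1, 0, 7, 3, 2, 1, 4, 3, 2, 5, 6, 8, 7, 3, 9]),
  (627, 1, [9, 6, 5, 4, 3, 2, 1, 0, 7, 3, 2, 1, 4, 3, 2, 5, 6, 7, 8, 7, 3, 9]),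
  (635, 1, [9, 6, 5, 4, 3, 2, 1, 0, 7, 3, 2, 1, 4, 3, 2, 5, 4, 6, 8, 7, 3, 9]),
  (636, 1, [9, 6, 5, 4, 3, 2, 1, 0, 7, 3, 2, 1, 4, 3, 2, 5, 4, 6, 7, 8, 7, 3, 9]),
  (637, 1, [9, 6, 5, 4, 3, 2, 1, 0, 7, 3, 2, 1, 4, 3, 2, 5, 4, 6, 5, 8, 7, 3, 9]),
  (638, 1, [9, 6, 5, 4, 3, 2, 1, 0, 7, 3, 2, 1, 4, 3, 2, 5, 4, 6, 5, 7, 8, 7, 3, 9]),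
  (1476, 1, [9, 6, 5, 4, 3, 2, 1, 0, 7, 3, 2, 1, 4, 3, 2, 5, 6, 7, 3, 8, 7, 9]),
  (1477, 1, [9, 6, 5, 4, 3, 2, 1, 0, 7, 3, 2, 1, 4, 3, 2, 5, 6, 7, 3, 8, 7, 3, 9]),
  (1489, 1, [9, 6, 5, 4, 3, 2, 1, 0, 7, 3, 2, 1, 4, 3, 2, 5, 4, 3, 6, 8, 7, 9]),
  (1490, 1, [9, 6, 5, 4, 3, 2, 1, 0, 7, 3, 2, 1, 4, 3, 2, 5, 4, 3, 6, 8, 7, 3, 9]),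
  (1492, 1, [9, 6, 5, 4, 3, 2, 1, 0, 7, 3, 2, 1, 4, 3, 2, 5, 4, 3, 6, 5, 8, 7, 9]),
  (1493, 1, [9, 6, 5, 4, 3, 2, 1, 0, 7, 3, 2, 1, 4, 3, 2, 5, 4, 3, 6, 5, 8, 7, 3, 9]),
  (1500, 1, [9, 6, 5, 4, 3, 2, 1, 0, 7, 3, 2, 1, 4, 3, 2, 5, 4, 3, 6, 5, 4, 9]),
  (1501, 1, [9, 6, 5, 4, 3, 2, 1, 0, 7, 3, 2, 1, 4, 3, 2, 5, 4, 3, 6, 5, 4, 8, 9]),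
  (1503, 1, [9, 6, 5, 4, 3, 2, 1, 0, 7, 3, 2, 1, 4, 3, 2, 5, 4, 3, 6, 5, 4, 8, 7, 9]),
  (1556, 1, [9, 6, 5, 4, 3, 2, 1, 0, 7, 3, 2, 1, 4, 3, 2, 5, 6, 8, 7, 3, 4, 9]),
  (1558, 1, [9, 6, 5, 4, 3, 2, 1, 0, 7, 3, 2, 1, 4, 3, 2, 5, 4, 6, 8, 7, 3, 4, 9]),
  (1559, 1, [9, 6, 5, 4, 3, 2, 1, 0, 7, 3, 2, 1, 4, 3, 2, 5, 6, 7, 8, 7, 3, 4, 9]),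
  (1561, 1, [9, 6, 5, 4, 3, 2, 1, 0, 7, 3, 2, 1, 4, 3, 2, 5, 4, 6, 7, 8, 7, 3, 4, 9]),
  (1572, 1, [9, 6, 5, 4, 3, 2, 1, 0, 7, 3, 2, 1, 4, 3, 2, 5, 4, 3, 6, 8, 7, 3, 4, 9]),
  (1580, 1, [9, 6, 5, 4, 3, 2, 1, 0, 7, 3, 2, 1, 4, 3, 2, 5, 6, 7, 3, 8, 7, 3, 4, 9]),
  (1589, 1, [9, 6, 5, 4, 3, 2, 1, 0, 7, 3, 2, 1, 4, 3, 2, 5, 4, 6, 5, 8, 7, 3, 4, 9]),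
  (1591, 1, [9, 6, 5, 4, 3, 2, 1, 0, 7, 3, 2, 1, 4, 3, 2, 5, 4, 3, 6, 5, 8, 7, 3, 4, 9]),
  (1593, 1, [9, 6, 5, 4, 3, 2, 1, 0, 7, 3, 2, 1, 4, 3, 2, 5, 4, 6, 5, 7, 8, 7, 3, 4, 9]),
  (4087, 1, [9, 6, 5, 4, 3, 2, 1, 0, 7, 3, 2, 1, 4, 3, 2, 5, 4, 3, 6, 5, 4, 8, 7, 3, 9]),
  (4088, 1, [9, 6, 5, 4, 3, 2, 1, 0, 7, 3, 2, 1, 4, 3, 2, 5, 4, 3, 6, 5, 4, 8, 7, 3, 4, 9]),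
  (4227, 1, [9, 6, 5, 4, 3, 2, 1, 0, 7, 3, 2, 1, 4, 3, 2, 5, 6, 8, 7, 3, 4, 5, 9]),
  (4229, 1, [9, 6, 5, 4, 3, 2, 1, 0, 7, 3, 2, 1, 4, 3, 2, 5, 4, 6, 8, 7, 3, 4, 5, 9]),
  (4230, 1, [9, 6, 5, 4, 3, 2, 1, 0, 7, 3, 2, 1, 4, 3, 2, 5, 6, 7, 8, 7, 3, 4, 5, 9]),
  (4232, 1, [9, 6, 5, 4, 3, 2, 1, 0, 7, 3, 2, 1, 4, 3, 2, 5, 4, 6, 7, 8, 7, 3, 4, 5, 9]),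
  (4255, 1, [9, 6, 5, 4, 3, 2, 1, 0, 7, 3, 2, 1, 4, 3, 2, 5, 4, 6, 5, 8, 7, 3, 4, 5, 9]),
  (4256, 1, [9, 6, 5, 4, 3, 2, 1, 0, 7, 3, 2, 1, 4, 3, 2, 5, 4, 6, 5, 7, 8, 7, 3, 4, 5, 9]),
  (4262, 1, [9, 6, 5, 4, 3, 2, 1, 0, 7, 3, 2, 1, 4, 3, 2, 5, 4, 3, 6, 8, 7, 3, 4, 5, 9]),
  (4266, 1, [9, 6, 5, 4, 3, 2, 1, 0, 7, 3, 2, 1, 4, 3, 2, 5, 4, 3, 6, 5, 8, 7, 3, 4, 5, 9]),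
  (4270, 1, [9, 6, 5, 4, 3, 2, 1, 0, 7, 3, 2, 1, 4, 3, 2, 5, 6, 7, 3, 8, 7, 3, 4, 5, 9]),
  (4425, 1, [9, 6, 5, 4, 3, 2, 1, 0, 7, 3, 2, 1, 4, 3, 2, 5, 4, 3, 6, 5, 4, 8, 7, 3, 4, 5, 9]),
  (8567, 1, [9, 6, 5, 4, 3, 2, 1, 7, 3, 2, 4, 3, 5, 4, 6, 5, 7, 3, 2, 1, 4, 3, 2, 9]),
  (8568, 1, [9, 6, 5, 4, 3, 2, 1, 7, 3, 2, 4, 3, 5, 4, 6, 5, 7, 3, 2, 1, 4, 3, 2, 7, 9]),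
  (8569, 1, [9, 6, 5, 4, 3, 2, 7, 3, 4, 5, 6, 8, 7, 3, 2, 4, 3, 5, 4, 7, 3, 2, 9]),
  (8578, 1, [9, 6, 5, 4, 3, 2, 1, 0, 7, 3, 2, 1, 4, 3, 5, 4, 6, 5, 7, 3, 4, 8, 7, 3, 2, 9]),
  (8579, 1, [9, 6, 5, 4, 3, 2, 1, 0, 7, 3, 2, 1, 4, 3, 5, 4, 6, 5, 7, 3, 4, 8, 7, 3, 2, 4, 9]),
  (8581, 1, [9, 6, 5, 4, 3, 2, 1, 0, 7, 3, 2, 1, 4, 3, 2, 5, 4, 3, 6, 5, 8, 7, 3, 4, 5, 9, 6, 5]),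
  (8583, 1, [9, 6, 5, 4, 3, 2, 1, 0, 7, 3, 2, 1, 4, 3, 2, 5, 4, 3, 6, 5, 4, 8, 7, 3, 4, 5, 9, 6]),
  (8585, 1, [9, 6, 5, 4, 3, 2, 1, 0, 7, 3, 2, 1, 4, 3, 2, 5, 4, 3, 6, 5, 8, 7, 3, 4, 5, 9, 6]),
  (9464, 1, [9, 6, 5, 4, 3, 2, 1, 0, 7, 3, 2, 1, 4, 3, 2, 5, 4, 6, 5, 8, 7, 3, 4, 5, 9, 6, 5]),
  (9465, 1, [9, 6, 5, 4, 3, 2, 1, 0, 7, 3, 2, 1, 4, 3, 2, 5, 4, 6, 5, 8, 7, 3, 4, 5, 9, 6]),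
  (10353, 1, [9, 6, 5, 4, 3, 2, 1, 0, 7, 3, 2, 1, 4, 3, 2, 5, 6, 8, 7, 3, 4, 5, 9, 6]),
  (10355, 1, [9, 6, 5, 4, 3, 2, 1, 0, 7, 3, 2, 1, 4, 3, 2, 5, 4, 6, 8, 7, 3, 4, 5, 9, 6]),
  (10356, 1, [9, 6, 5, 4, 3, 2, 1, 0, 7, 3, 2, 1, 4, 3, 2, 5, 6, 7, 8, 7, 3, 4, 5, 9, 6]),
  (10358, 1, [9, 6, 5, 4, 3, 2, 1, 0, 7, 3, 2, 1, 4, 3, 2, 5, 4, 6, 7, 8, 7, 3, 4, 5, 9, 6]),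
  (10369, 1, [9, 6, 5, 4, 3, 2, 1, 0, 7, 3, 2, 1, 4, 3, 2, 5, 4, 3, 6, 8, 7, 3, 4, 5, 9, 6]),
  (10370, 1, [9, 6, 5, 4, 3, 2, 1, 0, 7, 3, 2, 1, 4, 3, 2, 5, 6, 7, 3, 8, 7, 3, 4, 5, 9, 6]),
  (10373, 1, [9, 6, 5, 4, 3, 2, 1, 0, 7, 3, 2, 1, 4, 3, 2, 5, 4, 6, 5, 7, 8, 7, 3, 4, 5, 9, 6]),
  (10435, 1, [9, 6, 5, 4, 3, 2, 1, 0, 7, 3, 2, 1, 4, 3, 2, 5, 4, 6, 5, 7, 8, 7, 3, 4, 5, 9, 6, 5]),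
  (16796, 1, [9, 6, 5, 4, 3, 2, 1, 7, 3, 2, 4, 3, 5, 4, 6, 5, 7, 3, 2, 1, 4, 3, 2, 7, 3, 9]),
  (23798, 1, [9, 6, 5, 4, 3, 2, 1, 7, 3, 2, 4, 3, 5, 4, 6, 5, 7, 3, 2, 1, 4, 3, 2, 7, 3, 4, 9]),
  (26624, 1, [9, 6, 5, 4, 3, 2, 1, 7, 3, 2, 4, 3, 5, 4, 6, 5, 7, 3, 2, 1, 4, 3, 2, 7, 3, 4, 5, 9]),
  (1080, 2, [9, 6, 5, 4, 3, 2, 1, 0, 7, 3, 2, 1, 4, 3, 2, 5, 4, 6, 5, 9, 6]),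
  (1081, 2, [9, 6, 5, 4, 3, 2, 1, 0, 7, 3, 2, 1, 4, 3, 2, 5, 4, 6, 5, 7, 9, 6]),
  (1082, 2, [9, 6, 5, 4, 3, 2, 1, 0, 7, 3, 2, 1, 4, 3, 2, 5, 4, 6, 5, 8, 9, 6]),
  (1083, 2, [9, 6, 5, 4, 3, 2, 1, 0, 7, 3, 2, 1, 4, 3, 2, 5, 4, 6, 5, 7, 8, 9, 6]),
  (1084, 2, [9, 6, 5, 4, 3, 2, 1, 0, 7, 3, 2, 1, 4, 3, 2, 5, 4, 6, 5, 8, 7, 9, 6]),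
  (1085, 2, [9, 6, 5, 4, 3, 2, 1, 0, 7, 3, 2, 1, 4, 3, 2, 5, 4, 6, 5, 7, 8, 7, 9, 6]),
  (1092, 2, [9, 6, 5, 4, 3, 2, 1, 0, 7, 3, 2, 1, 4, 3, 2, 5, 4, 3, 6, 5, 9, 6]),
  (1093, 2, [9, 6, 5, 4, 3, 2, 1, 0, 7, 3, 2, 1, 4, 3, 2, 5, 4, 3, 6, 5, 8, 9, 6]),
  (1094, 2, [9, 6, 5, 4, 3, 2, 1, 0, 7, 3, 2, 1, 4, 3, 2, 5, 4, 6, 5, 8, 7, 3, 9, 6]),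
  (1095, 2, [9, 6, 5, 4, 3, 2, 1, 0, 7, 3, 2, 1, 4, 3, 2, 5, 4, 6, 5, 7, 8, 7, 3, 9, 6]),
  (1495, 2, [9, 6, 5, 4, 3, 2, 1, 0, 7, 3, 2, 1, 4, 3, 2, 5, 4, 3, 6, 5, 8, 7, 9, 6]),
  (1496, 2, [9, 6, 5, 4, 3, 2, 1, 0, 7, 3, 2, 1, 4, 3, 2, 5, 4, 3, 6, 5, 8, 7, 3, 9, 6]),
  (1504, 2, [9, 6, 5, 4, 3, 2, 1, 0, 7, 3, 2, 1, 4, 3, 2, 5, 4, 3, 6, 5, 4, 9, 6]),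
  (1505, 2, [9, 6, 5, 4, 3, 2, 1, 0, 7, 3, 2, 1, 4, 3, 2, 5, 4, 3, 6, 5, 4, 8, 9, 6]),
  (1506, 2, [9, 6, 5, 4, 3, 2, 1, 0, 7, 3, 2, 1, 4, 3, 2, 5, 4, 3, 6, 5, 4, 8, 7, 9, 6]),
  (1595, 2, [9, 6, 5, 4, 3, 2, 1, 0, 7, 3, 2, 1, 4, 3, 2, 5, 4, 6, 5, 8, 7, 3, 4, 9, 6]),
  (1597, 2, [9, 6, 5, 4, 3, 2, 1, 0, 7, 3, 2, 1, 4, 3, 2, 5, 4, 3, 6, 5, 8, 7, 3, 4, 9, 6]),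
  (1599, 2, [9, 6, 5, 4, 3, 2, 1, 0, 7, 3, 2, 1, 4, 3, 2, 5, 4, 6, 5, 7, 8, 7, 3, 4, 9, 6]),
  (4089, 2, [9, 6, 5, 4, 3, 2, 1, 0, 7, 3, 2, 1, 4, 3, 2, 5, 4, 3, 6, 5, 4, 8, 7, 3, 9, 6]),
  (4090, 2, [9, 6, 5, 4, 3, 2, 1, 0, 7, 3, 2, 1, 4, 3, 2, 5, 4, 3, 6, 5, 4, 8, 7, 3, 4, 9, 6]),
  (4488, 2, [9, 6, 5, 4, 3, 2, 1, 0, 7, 3, 2, 1, 4, 3, 2, 5, 4, 6, 5, 8, 7, 3, 4, 9, 6, 5]),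
  (4490, 2, [9, 6, 5, 4, 3, 2, 1, 0, 7, 3, 2, 1, 4, 3, 2, 5, 4, 3, 6, 5, 8, 7, 3, 4, 9, 6, 5]),
  (4491, 2, [9, 6, 5, 4, 3, 2, 1, 0, 7, 3, 2, 1, 4, 3, 2, 5, 4, 6, 5, 7, 8, 7, 3, 4, 9, 6, 5]),
  (4499, 2, [9, 6, 5, 4, 3, 2, 1, 0, 7, 3, 2, 1, 4, 3, 2, 5, 4, 3, 6, 5, 4, 8, 7, 3, 4, 9, 6, 5]),
  (8570, 2, [9, 6, 5, 4, 3, 2, 1, 7, 3, 2, 4, 3, 5, 4, 6, 5, 7, 3, 2, 1, 4, 3, 2, 9, 6]),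
  (8571, 2, [9, 6, 5, 4, 3, 2, 1, 7, 3, 2, 4, 3, 5, 4, 6, 5, 7, 3, 2, 1, 4, 3, 2, 7, 9, 6]),
  (8572, 2, [9, 6, 5, 4, 3, 2, 7, 3, 4, 5, 6, 8, 7, 3, 2, 4, 3, 5, 4, 7, 3, 2, 9, 6]),
  (8586, 2, [9, 6, 5, 4, 3, 2, 1, 0, 7, 3, 2, 1, 4, 3, 5, 4, 6, 5, 7, 3, 4, 8, 7, 3, 2, 9, 6]),
  (16797, 2, [9, 6, 5, 4, 3, 2, 1, 7, 3, 2, 4, 3, 5, 4, 6, 5, 7, 3, 2, 1, 4, 3, 2, 7, 3, 9, 6]),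
  (23799, 2, [9, 6, 5, 4, 3, 2, 1, 7, 3, 2, 4, 3, 5, 4, 6, 5, 7, 3, 2, 1, 4, 3, 2, 7, 3, 4, 9, 6]),
  (4091, 3, [9, 6, 5, 4, 3, 2, 1, 0, 7, 3, 2, 1, 4, 3, 2, 5, 4, 3, 6, 5, 4, 9, 6, 5]),
  (4092, 3, [9, 6, 5, 4, 3, 2, 1, 0, 7, 3, 2, 1, 4, 3, 2, 5, 4, 3, 6, 5, 4, 8, 9, 6, 5]),
  (4093, 3, [9, 6, 5, 4, 3, 2, 1, 0, 7, 3, 2, 1, 4, 3, 2, 5, 4, 3, 6, 5, 4, 8, 7, 9, 6, 5]),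
  (4094, 3, [9, 6, 5, 4, 3, 2, 1, 0, 7, 3, 2, 1, 4, 3, 2, 5, 4, 3, 6, 5, 4, 8, 7, 3, 9, 6, 5]),
  (8573, 3, [9, 6, 5, 4, 3, 2, 1, 7, 3, 2, 4, 3, 5, 4, 6, 5, 7, 3, 2, 1, 4, 3, 2, 9, 6, 5]),
  (8574, 3, [9, 6, 5, 4, 3, 2, 1, 7, 3, 2, 4, 3, 5, 4, 6, 5, 7, 3, 2, 1, 4, 3, 2, 7, 9, 6, 5]),
  (8575, 3, [9, 6, 5, 4, 3, 2, 7, 3, 4, 5, 6, 8, 7, 3, 2, 4, 3, 5, 4, 7, 3, 2, 9, 6, 5]),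
  (8589, 3, [9, 6, 5, 4, 3, 2, 1, 0, 7, 3, 2, 1, 4, 3, 2, 5, 4, 3, 6, 5, 4, 8, 7, 3, 9, 6, 5, 4]),
  (16798, 3, [9, 6, 5, 4, 3, 2, 1, 7, 3, 2, 4, 3, 5, 4, 6, 5, 7, 3, 2, 1, 4, 3, 2, 7, 3, 9, 6, 5]),
  (8601, 4, [9, 6, 5, 4, 3, 2, 1, 7, 3, 2, 4, 3, 5, 4, 6, 5, 7, 3, 2, 1, 4, 3, 2, 9, 6, 5, 4]),
  (8602, 4, [9, 6, 5, 4, 3, 2, 1, 7, 3, 2, 4, 3, 5, 4, 6, 5, 7, 3, 2, 1, 4, 3, 2, 7, 9, 6, 5, 4]),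
  (8603, 4, [9, 6, 5, 4, 3, 2, 7, 3, 4, 5, 6, 8, 7, 3, 2, 4, 3, 5, 4, 7, 3, 2, 9, 6, 5, 4]),
  (16802, 5, [9, 6, 5, 4, 3, 2, 1, 7, 3, 2, 4, 3, 5, 4, 6, 5, 7, 3, 2, 1, 4, 3, 2, 9, 6, 5, 4, 3]),
  (16803, 5, [9, 6, 5, 4, 3, 2, 7, 3, 4, 5, 6, 8, 7, 3, 2, 4, 3, 5, 4, 7, 3, 2, 9, 6, 5, 4, 3]),
  (23802, 6, [9, 6, 5, 4, 3, 2, 7, 3, 4, 5, 6, 8, 7, 3, 2, 4, 3, 5, 4, 7, 3, 2, 9, 6, 5, 4, 3, 7])]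

/-- A largest commuting set, by positions. -/
def cli7 : List ℕ := [0, 225, 228, 248, 261, 290, 291]

/-- The lift. -/
def w5 : List ℕ := [4, 8, 7, 5]

/-- Fixed points: the point, the position of a noncommuting predecessor, a path to the point. -/
def fix5 : List (ℕ × ℕ × List ℕ) := [
  (0, 0, []),
  (1, 0, [9]),
  (2068, 0, [9, 6, 5, 4, 3, 2, 1, 7, 3, 2, 8, 7, 3, 4, 5, 6]),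
  (2069, 0, [9, 6, 5, 4, 3, 2, 1, 0, 7, 3, 2, 8, 7, 3, 4, 5, 6]),
  (2072, 0, [9, 6, 5, 4, 3, 2, 1, 0, 7, 3, 2, 1, 8, 7, 3, 4, 5, 6]),
  (2091, 0, [9, 6, 5, 4, 3, 2, 1, 0, 7, 3, 2, 1, 8, 7, 3, 2, 4, 5, 6]),
  (3553, 0, [9, 6, 5, 4, 3, 2, 1, 7, 3, 2, 4, 3, 5, 4, 6, 5, 7, 3, 4, 8, 7, 3, 4, 5, 6]),
  (3554, 0, [9, 6, 5, 4, 3, 2, 1, 0, 7, 3, 2, 4, 3, 5, 4, 6, 5, 7, 3, 4, 8, 7, 3, 4, 5, 6]),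
  (3555, 0, [9, 6, 5, 4, 3, 2, 1, 0, 7, 3, 2, 1, 4, 3, 5, 4, 6, 5, 7, 3, 4, 8, 7, 3, 4, 5, 6]),
  (4763, 0, [9, 6, 5, 4, 3, 2, 1, 7, 3, 2, 8, 7, 3, 4, 5, 6, 9]),
  (4764, 0, [9, 6, 5, 4, 3, 2, 1, 0, 7, 3, 2, 8, 7, 3, 4, 5, 6, 9]),
  (4767, 0, [9, 6, 5, 4, 3, 2, 1, 0, 7, 3, 2, 1, 8, 7, 3, 4, 5, 6, 9]),
  (4786, 0, [9, 6, 5, 4, 3, 2, 1, 0, 7, 3, 2, 1, 8, 7, 3, 2, 4, 5, 6, 9]),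
  (5588, 0, [9, 6, 5, 4, 3, 2, 1, 7, 3, 2, 4, 3, 5, 4, 6, 5, 7, 3, 4, 8, 7, 3, 4, 5, 6, 9]),
  (5589, 0, [9, 6, 5, 4, 3, 2, 1, 0, 7, 3, 2, 4, 3, 5, 4, 6, 5, 7, 3, 4, 8, 7, 3, 4, 5, 6, 9]),
  (5590, 0, [9, 6, 5, 4, 3, 2, 1, 0, 7, 3, 2, 1, 4, 3, 2, 5, 4, 3, 6, 5, 4, 8, 7, 3, 2, 4, 5, 6]),
  (5758, 0, [9, 6, 5, 4, 3, 2, 1, 7, 3, 2, 4, 3, 7, 8, 7, 3, 2, 1, 4, 3, 2, 5, 6, 7, 3]),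
  (5759, 0, [9, 6, 5, 4, 3, 2, 1, 0, 7, 3, 2, 1, 4, 3, 2, 7, 3, 4, 8, 7, 3, 2, 1, 4, 5, 6]),
  (5760, 0, [9, 6, 5, 4, 3, 2, 1, 0, 7, 3, 2, 1, 4, 3, 2, 7, 3, 4, 8, 7, 3, 2, 4, 5, 6]),
  (5761, 0, [9, 6, 5, 4, 3, 2, 1, 7, 3, 2, 4, 3, 7, 8, 7, 3, 2, 1, 4, 3, 2, 5, 6, 7, 3, 9]),
  (5762, 0, [9, 6, 5, 4, 3, 2, 1, 0, 7, 3, 2, 1, 4, 3, 2, 7, 3, 4, 8, 7, 3, 2, 1, 4, 5, 6, 9]),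
  (5763, 0, [9, 6, 5, 4, 3, 2, 1, 0, 7, 3, 2, 1, 4, 3, 2, 7, 3, 4, 8, 7, 3, 2, 4, 5, 6, 9]),
  (8587, 0, [9, 6, 5, 4, 3, 2, 1, 0, 7, 3, 2, 1, 4, 3, 2, 5, 4, 3, 6, 5, 4, 8, 7, 3, 4, 5, 6, 9]),
  (8590, 0, [9, 6, 5, 4, 3, 2, 1, 0, 7, 3, 2, 1, 4, 3, 2, 5, 4, 3, 6, 5, 4, 8, 7, 3, 4, 5, 6]),
  (9624, 0, [9, 6, 5, 4, 3, 2, 1, 0, 7, 3, 2, 1, 4, 3, 2, 7, 3, 4, 8, 7, 3, 4, 5, 6]),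
  (10917, 0, [9, 6, 5, 4, 3, 2, 1, 0, 7, 3, 2, 1, 4, 3, 2, 7, 3, 4, 8, 7, 3, 4, 5, 6, 9]),
  (28717, 0, [9, 6, 5, 4, 3, 2, 1, 0, 7, 3, 2, 1, 4, 3, 5, 8, 7, 3, 2, 1, 4, 3, 2, 5, 4, 6, 5, 7, 3, 2, 4, 8, 7, 3, 2, 9, 6, 5, 4, 3]),
  (28718, 0, [9, 6, 5, 4, 3, 2, 1, 0, 7, 3, 2, 1, 4, 3, 5, 4, 8, 7, 3, 2, 1, 4, 3, 2, 5, 4, 6, 5, 7, 3, 2, 4, 3, 5, 6, 8, 7, 3, 2, 4, 3]),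
  (28719, 0, [9, 6, 5, 4, 3, 2, 1, 0, 7, 3, 2, 1, 4, 3, 5, 8, 7, 3, 2, 1, 4, 3, 2, 5, 4, 6, 5, 7, 3, 2, 4, 8, 7, 3, 2, 1, 9, 6, 5, 4, 3]),
  (28720, 0, [9, 6, 5, 4, 3, 2, 1, 0, 7, 3, 2, 1, 4, 3, 5, 7, 8, 7, 3, 2, 1, 4, 3, 2, 5, 4, 6, 5, 7, 3, 4, 8, 7, 3, 2, 9, 6, 5, 4, 3]),
  (28721, 0, [9, 6, 5, 4, 3, 2, 1, 0, 7, 3, 2, 1, 4, 3, 2, 5, 8, 7, 3, 2, 1, 4, 3, 2, 5, 4, 6, 5, 7, 3, 4, 8, 7, 3, 2, 9, 6, 5, 4, 3, 7]),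
  (28722, 0, [9, 6, 5, 4, 3, 2, 1, 0, 7, 3, 2, 1, 4, 3, 5, 7, 8, 7, 3, 2, 1, 4, 3, 2, 5, 4, 6, 5, 7, 3, 4, 8, 7, 3, 2, 1, 9, 6, 5, 4, 3]),
  (28723, 0, [9, 6, 5, 4, 3, 2, 1, 0, 7, 3, 2, 1, 4, 3, 5, 8, 7, 3, 2, 1, 4, 3, 2, 5, 4, 3, 6, 5, 7, 3, 4, 8, 7, 3, 2, 9, 6, 5, 4, 3]),
  (28724, 0, [9, 6, 5, 4, 3, 2, 1, 0, 7, 3, 2, 1, 4, 3, 5, 7, 8, 7, 3, 2, 1, 4, 3, 2, 5, 4, 6, 5, 7, 3, 2, 1, 4, 3, 5, 8, 7, 3, 2, 4, 3]),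
  (28725, 0, [9, 6, 5, 4, 3, 2, 1, 0, 7, 3, 2, 1, 4, 3, 5, 8, 7, 3, 2, 1, 4, 3, 2, 5, 4, 3, 6, 5, 7, 3, 4, 8, 7, 3, 2, 1, 9, 6, 5, 4, 3]),
  (28735, 0, [9, 6, 5, 4, 3, 2, 1, 0, 7, 3, 2, 1, 4, 3, 2, 5, 8, 7, 3, 2, 1, 4, 3, 2, 5, 4, 6, 5, 7, 3, 2, 4, 8, 7, 3, 2, 9, 6, 5, 4, 3]),
  (28736, 0, [9, 6, 5, 4, 3, 2, 1, 0, 7, 3, 2, 1, 4, 3, 2, 5, 8, 7, 3, 2, 1, 0, 4, 3, 2, 5, 4, 6, 5, 7, 3, 2, 4, 8, 7, 3, 2, 9, 6, 5, 4, 3]),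
  (28737, 0, [9, 6, 5, 4, 3, 2, 1, 0, 7, 3, 2, 1, 4, 3, 2, 5, 8, 7, 3, 2, 1, 4, 3, 2, 5, 4, 6, 5, 7, 3, 2, 4, 8, 7, 3, 2, 1, 9, 6, 5, 4, 3]),
  (28738, 0, [9, 6, 5, 4, 3, 2, 1, 0, 7, 3, 2, 1, 4, 3, 2, 5, 7, 8, 7, 3, 2, 1, 4, 3, 2, 5, 4, 6, 5, 7, 3, 4, 8, 7, 3, 2, 9, 6, 5, 4, 3]),
  (28739, 0, [9, 6, 5, 4, 3, 2, 1, 0, 7, 3, 2, 1, 4, 3, 5, 8, 7, 3, 2, 1, 4, 3, 2, 5, 4, 6, 5, 7, 3, 4, 8, 7, 3, 2, 9, 6, 5, 4, 3, 7]),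
  (28740, 0, [9, 6, 5, 4, 3, 2, 1, 0, 7, 3, 2, 1, 4, 3, 2, 5, 7, 8, 7, 3, 2, 1, 4, 3, 2, 5, 4, 6, 5, 7, 3, 4, 8, 7, 3, 2, 1, 9, 6, 5, 4, 3]),
  (28741, 0, [9, 6, 5, 4, 3, 2, 1, 0, 7, 3, 2, 1, 4, 3, 2, 5, 8, 7, 3, 2, 1, 4, 3, 2, 5, 4, 3, 6, 5, 7, 3, 4, 8, 7, 3, 2, 9, 6, 5, 4, 3]),
  (28742, 0, [9, 6, 5, 4, 3, 2, 1, 0, 7, 3, 2, 1, 4, 3, 2, 5, 8, 7, 3, 2, 1, 0, 4, 3, 2, 5, 4, 3, 6, 5, 7, 3, 4, 8, 7, 3, 2, 9, 6, 5, 4, 3]),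
  (28743, 0, [9, 6, 5, 4, 3, 2, 1, 0, 7, 3, 2, 1, 4, 3, 2, 5, 8, 7, 3, 2, 1, 4, 3, 2, 5, 4, 3, 6, 5, 7, 3, 4, 8, 7, 3, 2, 1, 9, 6, 5, 4, 3]),
  (28751, 0, [9, 6, 5, 4, 3, 2, 1, 0, 7, 3, 2, 1, 4, 3, 5, 4, 8, 7, 3, 2, 1, 4, 3, 2, 5, 4, 6, 5, 7, 3, 2, 4, 3, 5, 6, 8, 7, 3, 2, 1, 4, 3]),
  (28752, 0, [9, 6, 5, 4, 3, 2, 1, 0, 7, 3, 2, 1, 4, 3, 2, 5, 8, 7, 3, 2, 1, 4, 3, 2, 5, 4, 6, 5, 7, 3, 4, 8, 7, 3, 2, 1, 9, 6, 5, 4, 3, 7]),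
  (28753, 0, [9, 6, 5, 4, 3, 2, 1, 0, 7, 3, 2, 1, 4, 3, 5, 7, 8, 7, 3, 2, 1, 4, 3, 2, 5, 4, 6, 5, 7, 3, 2, 1, 4, 3, 5, 8, 7, 3, 2, 1, 4, 3]),
  (28757, 0, [9, 6, 5, 4, 3, 2, 1, 0, 7, 3, 2, 1, 4, 3, 2, 5, 8, 7, 3, 2, 1, 0, 4, 3, 2, 5, 4, 6, 5, 7, 3, 2, 4, 8, 7, 3, 2, 1, 9, 6, 5, 4, 3]),
  (28758, 0, [9, 6, 5, 4, 3, 2, 1, 0, 7, 3, 2, 1, 4, 3, 5, 8, 7, 3, 2, 1, 4, 3, 2, 5, 4, 6, 5, 7, 3, 4, 8, 7, 3, 2, 1, 9, 6, 5, 4, 3, 7]),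
  (28759, 0, [9, 6, 5, 4, 3, 2, 1, 0, 7, 3, 2, 1, 4, 3, 2, 5, 8, 7, 3, 2, 1, 0, 4, 3, 2, 5, 4, 3, 6, 5, 7, 3, 4, 8, 7, 3, 2, 1, 9, 6, 5, 4, 3]),
  (29146, 0, [9, 6, 5, 4, 3, 2, 1, 7, 3, 2, 4, 3, 5, 4, 6, 5, 7, 3, 2, 1, 4, 3, 2, 7, 3, 4, 5, 6]),
  (30697, 0, [9, 6, 5, 4, 3, 2, 1, 0, 7, 3, 2, 1, 4, 3, 5, 8, 7, 3, 2, 1, 4, 3, 2, 5, 4, 3, 6, 5, 7, 3, 4, 8, 7, 3, 2, 1, 0, 9, 6, 5, 4, 3]),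
  (30698, 0, [9, 6, 5, 4, 3, 2, 1, 0, 7, 3, 2, 1, 4, 3, 5, 7, 8, 7, 3, 2, 1, 4, 3, 2, 5, 4, 6, 5, 7, 3, 2, 1, 4, 3, 5, 8, 7, 3, 2, 1, 0, 4, 3]),
  (30701, 0, [9, 6, 5, 4, 3, 2, 1, 0, 7, 3, 2, 1, 4, 3, 2, 5, 8, 7, 3, 2, 1, 4, 3, 2, 5, 4, 3, 6, 5, 7, 3, 4, 8, 7, 3, 2, 1, 0, 9, 6, 5, 4, 3]),
  (30702, 0, [9, 6, 5, 4, 3, 2, 1, 0, 7, 3, 2, 1, 4, 3, 2, 5, 8, 7, 3, 2, 1, 0, 4, 3, 2, 5, 4, 3, 6, 5, 7, 3, 4, 8, 7, 3, 2, 1, 0, 9, 6, 5, 4, 3]),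
  (30703, 0, [9, 6, 5, 4, 3, 2, 1, 0, 7, 3, 2, 1, 4, 3, 5, 7, 8, 7, 3, 2, 1, 4, 3, 2, 5, 4, 6, 5, 7, 3, 4, 8, 7, 3, 2, 1, 0, 9, 6, 5, 4, 3]),
  (30704, 0, [9, 6, 5, 4, 3, 2, 1, 0, 7, 3, 2, 1, 4, 3, 2, 5, 8, 7, 3, 2, 1, 4, 3, 2, 5, 4, 6, 5, 7, 3, 4, 8, 7, 3, 2, 1, 0, 9, 6, 5, 4, 3, 7]),
  (30707, 0, [9, 6, 5, 4, 3, 2, 1, 0, 7, 3, 2, 1, 4, 3, 2, 5, 7, 8, 7, 3, 2, 1, 4, 3, 2, 5, 4, 6, 5, 7, 3, 4, 8, 7, 3, 2, 1, 0, 9, 6, 5, 4, 3]),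
  (30708, 0, [9, 6, 5, 4, 3, 2, 1, 0, 7, 3, 2, 1, 4, 3, 5, 8, 7, 3, 2, 1, 4, 3, 2, 5, 4, 6, 5, 7, 3, 4, 8, 7, 3, 2, 1, 0, 9, 6, 5, 4, 3, 7]),
  (30711, 0, [9, 6, 5, 4, 3, 2, 1, 0, 7, 3, 2, 1, 4, 3, 5, 8, 7, 3, 2, 1, 4, 3, 2, 5, 4, 6, 5, 7, 3, 2, 4, 8, 7, 3, 2, 1, 0, 9, 6, 5, 4, 3]),
  (30712, 0, [9, 6, 5, 4, 3, 2, 1, 0, 7, 3, 2, 1, 4, 3, 5, 4, 8, 7, 3, 2, 1, 4, 3, 2, 5, 4, 6, 5, 7, 3, 2, 4, 3, 5, 6, 8, 7, 3, 2, 1, 0, 4, 3]),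
  (30715, 0, [9, 6, 5, 4, 3, 2, 1, 0, 7, 3, 2, 1, 4, 3, 2, 5, 8, 7, 3, 2, 1, 4, 3, 2, 5, 4, 6, 5, 7, 3, 2, 4, 8, 7, 3, 2, 1, 0, 9, 6, 5, 4, 3]),
  (30716, 0, [9, 6, 5, 4, 3, 2, 1, 0, 7, 3, 2, 1, 4, 3, 2, 5, 8, 7, 3, 2, 1, 0, 4, 3, 2, 5, 4, 6, 5, 7, 3, 2, 4, 8, 7, 3, 2, 1, 0, 9, 6, 5, 4, 3]),
  (30949, 0, [9, 6, 5, 4, 3, 2, 1, 0, 7, 3, 2, 1, 4, 3, 5, 8, 7, 3, 2, 1, 4, 3, 2, 5, 4, 6, 5, 7, 3, 2, 4, 8, 7, 3, 2, 1, 9, 6, 5, 4, 3, 2]),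
  (30950, 0, [9, 6, 5, 4, 3, 2, 1, 0, 7, 3, 2, 1, 4, 3, 5, 8, 7, 3, 2, 1, 4, 3, 2, 5, 4, 6, 5, 7, 3, 2, 4, 8, 7, 3, 2, 1, 0, 9, 6, 5, 4, 3, 2]),
  (30951, 0, [9, 6, 5, 4, 3, 2, 1, 0, 7, 3, 2, 1, 4, 3, 5, 7, 8, 7, 3, 2, 1, 4, 3, 2, 5, 4, 6, 5, 7, 3, 4, 8, 7, 3, 2, 1, 9, 6, 5, 4, 3, 2]),
  (30952, 0, [9, 6, 5, 4, 3, 2, 1, 0, 7, 3, 2, 1, 4, 3, 5, 7, 8, 7, 3, 2, 1, 4, 3, 2, 5, 4, 6, 5, 7, 3, 4, 8, 7, 3, 2, 1, 0, 9, 6, 5, 4, 3, 2]),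
  (30955, 0, [9, 6, 5, 4, 3, 2, 1, 0, 7, 3, 2, 1, 4, 3, 5, 8, 7, 3, 2, 1, 4, 3, 2, 5, 4, 3, 6, 5, 7, 3, 4, 8, 7, 3, 2, 1, 9, 6, 5, 4, 3, 2]),
  (30956, 0, [9, 6, 5, 4, 3, 2, 1, 0, 7, 3, 2, 1, 4, 3, 5, 8, 7, 3, 2, 1, 4, 3, 2, 5, 4, 3, 6, 5, 7, 3, 4, 8, 7, 3, 2, 1, 0, 9, 6, 5, 4, 3, 2]),
  (30969, 0, [9, 6, 5, 4, 3, 2, 1, 0, 7, 3, 2, 1, 4, 3, 2, 5, 8, 7, 3, 2, 1, 4, 3, 2, 5, 4, 6, 5, 7, 3, 2, 4, 8, 7, 3, 2, 1, 9, 6, 5, 4, 3, 2]),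
  (30970, 0, [9, 6, 5, 4, 3, 2, 1, 0, 7, 3, 2, 1, 4, 3, 2, 5, 8, 7, 3, 2, 1, 4, 3, 2, 5, 4, 6, 5, 7, 3, 2, 4, 8, 7, 3, 2, 1, 0, 9, 6, 5, 4, 3, 2]),
  (30971, 0, [9, 6, 5, 4, 3, 2, 1, 0, 7, 3, 2, 1, 4, 3, 2, 5, 7, 8, 7, 3, 2, 1, 4, 3, 2, 5, 4, 6, 5, 7, 3, 4, 8, 7, 3, 2, 1, 9, 6, 5, 4, 3, 2]),
  (30972, 0, [9, 6, 5, 4, 3, 2, 1, 0, 7, 3, 2, 1, 4, 3, 2, 5, 7, 8, 7, 3, 2, 1, 4, 3, 2, 5, 4, 6, 5, 7, 3, 4, 8, 7, 3, 2, 1, 0, 9, 6, 5, 4, 3, 2]),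
  (30975, 0, [9, 6, 5, 4, 3, 2, 1, 0, 7, 3, 2, 1, 4, 3, 2, 5, 8, 7, 3, 2, 1, 4, 3, 2, 5, 4, 3, 6, 5, 7, 3, 4, 8, 7, 3, 2, 1, 9, 6, 5, 4, 3, 2]),
  (30976, 0, [9, 6, 5, 4, 3, 2, 1, 0, 7, 3, 2, 1, 4, 3, 2, 5, 8, 7, 3, 2, 1, 4, 3, 2, 5, 4, 3, 6, 5, 7, 3, 4, 8, 7, 3, 2, 1, 0, 9, 6, 5, 4, 3, 2]),
  (31069, 0, [9, 6, 5, 4, 3, 2, 1, 0, 7, 3, 2, 1, 4, 3, 5, 4, 8, 7, 3, 2, 1, 4, 3, 2, 5, 4, 6, 5, 7, 3, 2, 4, 3, 5, 6, 8, 7, 3, 2, 1, 4, 3, 2]),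
  (31070, 0, [9, 6, 5, 4, 3, 2, 1, 0, 7, 3, 2, 1, 4, 3, 5, 4, 8, 7, 3, 2, 1, 4, 3, 2, 5, 4, 6, 5, 7, 3, 2, 4, 3, 5, 6, 8, 7, 3, 2, 1, 0, 4, 3, 2]),
  (31071, 0, [9, 6, 5, 4, 3, 2, 1, 0, 7, 3, 2, 1, 4, 3, 2, 5, 8, 7, 3, 2, 1, 4, 3, 2, 5, 4, 6, 5, 7, 3, 4, 8, 7, 3, 2, 1, 9, 6, 5, 4, 3, 2, 7]),
  (31072, 0, [9, 6, 5, 4, 3, 2, 1, 0, 7, 3, 2, 1, 4, 3, 2, 5, 8, 7, 3, 2, 1, 4, 3, 2, 5, 4, 6, 5, 7, 3, 4, 8, 7, 3, 2, 1, 0, 9, 6, 5, 4, 3, 2, 7]),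
  (31075, 0, [9, 6, 5, 4, 3, 2, 1, 0, 7, 3, 2, 1, 4, 3, 5, 7, 8, 7, 3, 2, 1, 4, 3, 2, 5, 4, 6, 5, 7, 3, 2, 1, 4, 3, 5, 8, 7, 3, 2, 1, 4, 3, 2]),
  (31076, 0, [9, 6, 5, 4, 3, 2, 1, 0, 7, 3, 2, 1, 4, 3, 5, 7, 8, 7, 3, 2, 1, 4, 3, 2, 5, 4, 6, 5, 7, 3, 2, 1, 4, 3, 5, 8, 7, 3, 2, 1, 0, 4, 3, 2]),
  (31089, 0, [9, 6, 5, 4, 3, 2, 1, 0, 7, 3, 2, 1, 4, 3, 2, 5, 8, 7, 3, 2, 1, 0, 4, 3, 2, 5, 4, 6, 5, 7, 3, 2, 4, 8, 7, 3, 2, 1, 9, 6, 5, 4, 3, 2]),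
  (31090, 0, [9, 6, 5, 4, 3, 2, 1, 0, 7, 3, 2, 1, 4, 3, 2, 5, 8, 7, 3, 2, 1, 0, 4, 3, 2, 5, 4, 6, 5, 7, 3, 2, 4, 8, 7, 3, 2, 1, 0, 9, 6, 5, 4, 3, 2]),
  (31091, 0, [9, 6, 5, 4, 3, 2, 1, 0, 7, 3, 2, 1, 4, 3, 5, 8, 7, 3, 2, 1, 4, 3, 2, 5, 4, 6, 5, 7, 3, 4, 8, 7, 3, 2, 1, 9, 6, 5, 4, 3, 2, 7]),
  (31092, 0, [9, 6, 5, 4, 3, 2, 1, 0, 7, 3, 2, 1, 4, 3, 5, 8, 7, 3, 2, 1, 4, 3, 2, 5, 4, 6, 5, 7, 3, 4, 8, 7, 3, 2, 1, 0, 9, 6, 5, 4, 3, 2, 7]),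
  (31095, 0, [9, 6, 5, 4, 3, 2, 1, 0, 7, 3, 2, 1, 4, 3, 2, 5, 8, 7, 3, 2, 1, 0, 4, 3, 2, 5, 4, 3, 6, 5, 7, 3, 4, 8, 7, 3, 2, 1, 9, 6, 5, 4, 3, 2]),
  (31096, 0, [9, 6, 5, 4, 3, 2, 1, 0, 7, 3, 2, 1, 4, 3, 2, 5, 8, 7, 3, 2, 1, 0, 4, 3, 2, 5, 4, 3, 6, 5, 7, 3, 4, 8, 7, 3, 2, 1, 0, 9, 6, 5, 4, 3, 2]),
  (31432, 0, [9, 6, 5, 4, 3, 2, 1, 0, 7, 3, 2, 1, 4, 3, 5, 8, 7, 3, 2, 1, 4, 3, 2, 5, 4, 6, 5, 7, 3, 2, 4, 8, 7, 3, 2, 1, 0, 9, 6, 5, 4, 3, 2, 1]),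
  (31433, 0, [9, 6, 5, 4, 3, 2, 1, 0, 7, 3, 2, 1, 4, 3, 5, 4, 8, 7, 3, 2, 1, 4, 3, 2, 5, 4, 6, 5, 7, 3, 2, 4, 3, 5, 6, 8, 7, 3, 2, 1, 0, 4, 3, 2, 1]),
  (31434, 0, [9, 6, 5, 4, 3, 2, 1, 0, 7, 3, 2, 1, 4, 3, 5, 7, 8, 7, 3, 2, 1, 4, 3, 2, 5, 4, 6, 5, 7, 3, 4, 8, 7, 3, 2, 1, 0, 9, 6, 5, 4, 3, 2, 1]),
  (31435, 0, [9, 6, 5, 4, 3, 2, 1, 0, 7, 3, 2, 1, 4, 3, 2, 5, 8, 7, 3, 2, 1, 4, 3, 2, 5, 4, 6, 5, 7, 3, 4, 8, 7, 3, 2, 1, 0, 9, 6, 5, 4, 3, 2, 1, 7]),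
  (31437, 0, [9, 6, 5, 4, 3, 2, 1, 0, 7, 3, 2, 1, 4, 3, 5, 8, 7, 3, 2, 1, 4, 3, 2, 5, 4, 3, 6, 5, 7, 3, 4, 8, 7, 3, 2, 1, 0, 9, 6, 5, 4, 3, 2, 1]),
  (31438, 0, [9, 6, 5, 4, 3, 2, 1, 0, 7, 3, 2, 1, 4, 3, 5, 7, 8, 7, 3, 2, 1, 4, 3, 2, 5, 4, 6, 5, 7, 3, 2, 1, 4, 3, 5, 8, 7, 3, 2, 1, 0, 4, 3, 2, 1]),
  (31448, 0, [9, 6, 5, 4, 3, 2, 1, 0, 7, 3, 2, 1, 4, 3, 2, 5, 8, 7, 3, 2, 1, 4, 3, 2, 5, 4, 6, 5, 7, 3, 2, 4, 8, 7, 3, 2, 1, 0, 9, 6, 5, 4, 3, 2, 1]),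
  (31449, 0, [9, 6, 5, 4, 3, 2, 1, 0, 7, 3, 2, 1, 4, 3, 2, 5, 8, 7, 3, 2, 1, 0, 4, 3, 2, 5, 4, 6, 5, 7, 3, 2, 4, 8, 7, 3, 2, 1, 0, 9, 6, 5, 4, 3, 2, 1]),
  (31450, 0, [9, 6, 5, 4, 3, 2, 1, 0, 7, 3, 2, 1, 4, 3, 2, 5, 7, 8, 7, 3, 2, 1, 4, 3, 2, 5, 4, 6, 5, 7, 3, 4, 8, 7, 3, 2, 1, 0, 9, 6, 5, 4, 3, 2, 1]),
  (31451, 0, [9, 6, 5, 4, 3, 2, 1, 0, 7, 3, 2, 1, 4, 3, 5, 8, 7, 3, 2, 1, 4, 3, 2, 5, 4, 6, 5, 7, 3, 4, 8, 7, 3, 2, 1, 0, 9, 6, 5, 4, 3, 2, 1, 7]),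
  (31453, 0, [9, 6, 5, 4, 3, 2, 1, 0, 7, 3, 2, 1, 4, 3, 2, 5, 8, 7, 3, 2, 1, 4, 3, 2, 5, 4, 3, 6, 5, 7, 3, 4, 8, 7, 3, 2, 1, 0, 9, 6, 5, 4, 3, 2, 1]),
  (31454, 0, [9, 6, 5, 4, 3, 2, 1, 0, 7, 3, 2, 1, 4, 3, 2, 5, 8, 7, 3, 2, 1, 0, 4, 3, 2, 5, 4, 3, 6, 5, 7, 3, 4, 8, 7, 3, 2, 1, 0, 9, 6, 5, 4, 3, 2, 1]),
  (1843, 2, [9, 6, 5, 4, 3, 2, 1, 0, 7, 3, 4, 5, 6, 8, 7, 3, 4, 5, 9, 6]),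
  (1845, 2, [9, 6, 5, 4, 3, 2, 1, 0, 7, 3, 4, 5, 6, 8, 7, 3, 2, 4, 5, 9, 6]),
  (1851, 2, [9, 6, 5, 4, 3, 2, 1, 0, 7, 3, 4, 5, 6, 8, 7, 3, 2, 1, 4, 5, 9, 6]),
  (1853, 2, [9, 6, 5, 4, 3, 2, 7, 3, 4, 5, 6, 8, 7, 3, 2, 1, 0, 4, 5, 9, 6]),
  (1854, 2, [9, 6, 5, 4, 3, 2, 1, 7, 3, 4, 5, 6, 8, 7, 3, 2, 1, 0, 4, 5, 9, 6]),
  (1855, 2, [9, 6, 5, 4, 3, 2, 1, 0, 7, 3, 4, 5, 6, 8, 7, 3, 2, 1, 0, 4, 5, 9, 6]),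
  (4054, 2, [9, 6, 5, 4, 3, 2, 1, 0, 7, 3, 2, 1, 4, 3, 2, 5, 4, 6, 5, 8, 7, 3, 2, 4, 3, 9, 6]),
  (4055, 2, [9, 6, 5, 4, 3, 2, 1, 0, 7, 3, 2, 1, 4, 3, 2, 5, 4, 6, 5, 8, 7, 3, 2, 1, 4, 3, 9, 6]),
  (4056, 2, [9, 6, 5, 4, 3, 2, 1, 0, 7, 3, 2, 1, 4, 3, 5, 4, 6, 5, 7, 8, 7, 3, 2, 4, 3, 9, 6]),
  (4059, 2, [9, 6, 5, 4, 3, 2, 1, 0, 7, 3, 2, 1, 4, 3, 5, 4, 6, 5, 7, 8, 7, 3, 2, 1, 4, 3, 9, 6]),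
  (4068, 2, [9, 6, 5, 4, 3, 2, 1, 0, 7, 3, 2, 1, 4, 3, 5, 4, 6, 5, 8, 7, 3, 2, 4, 3, 9, 6, 5]),
  (4069, 2, [9, 6, 5, 4, 3, 2, 1, 0, 7, 3, 2, 1, 4, 3, 5, 4, 6, 5, 8, 7, 3, 2, 1, 4, 3, 9, 6, 5]),
  (4496, 2, [9, 6, 5, 4, 3, 2, 1, 0, 7, 3, 2, 1, 4, 3, 2, 5, 4, 6, 5, 7, 8, 7, 3, 2, 4, 3, 9, 6, 5]),
  (4498, 2, [9, 6, 5, 4, 3, 2, 1, 0, 7, 3, 2, 1, 4, 3, 2, 5, 4, 6, 5, 7, 8, 7, 3, 2, 1, 4, 3, 9, 6, 5]),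
  (4755, 2, [9, 6, 5, 4, 3, 2, 1, 0, 7, 3, 4, 5, 6, 8, 7, 3, 2, 1, 4, 3, 2, 5, 4, 7, 3, 9, 6]),
  (4760, 2, [9, 6, 5, 4, 3, 2, 1, 0, 7, 3, 2, 1, 4, 3, 5, 4, 6, 5, 7, 8, 7, 3, 2, 1, 4, 3, 2, 9, 6]),
  (9239, 2, [9, 6, 5, 4, 3, 2, 1, 0, 7, 3, 2, 1, 4, 3, 2, 5, 4, 6, 5, 8, 7, 3, 2, 1, 0, 4, 3, 9, 6]),
  (9313, 2, [9, 6, 5, 4, 3, 2, 1, 0, 7, 3, 4, 5, 6, 8, 7, 3, 2, 1, 4, 3, 2, 5, 4, 3, 7, 3, 8, 9, 6]),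
  (9372, 2, [9, 6, 5, 4, 3, 2, 1, 0, 7, 3, 2, 1, 4, 3, 5, 4, 6, 5, 8, 7, 3, 2, 4, 3, 7, 9, 6]),
  (9373, 2, [9, 6, 5, 4, 3, 2, 1, 0, 7, 3, 2, 1, 4, 3, 5, 4, 6, 5, 8, 7, 3, 2, 1, 4, 3, 7, 9, 6]),
  (9445, 2, [9, 6, 5, 4, 3, 2, 1, 0, 7, 3, 2, 1, 4, 3, 2, 5, 4, 6, 5, 8, 7, 3, 2, 1, 4, 3, 2, 9, 6]),
  (9498, 2, [9, 6, 5, 4, 3, 2, 1, 0, 7, 3, 2, 1, 4, 3, 2, 5, 4, 6, 5, 7, 8, 7, 3, 2, 4, 3, 7, 9, 6]),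
  (9499, 2, [9, 6, 5, 4, 3, 2, 1, 0, 7, 3, 2, 1, 4, 3, 2, 5, 4, 6, 5, 7, 8, 7, 3, 2, 1, 4, 3, 7, 9, 6]),
  (9500, 2, [9, 6, 5, 4, 3, 2, 1, 0, 7, 3, 4, 5, 6, 8, 7, 3, 2, 1, 4, 3, 2, 5, 4, 3, 7, 3, 4, 9, 6]),
  (16800, 2, [9, 6, 5, 4, 3, 2, 1, 0, 7, 3, 2, 4, 3, 5, 4, 6, 5, 7, 3, 2, 4, 3, 7, 9, 6, 5, 4, 3]),
  (23801, 2, [9, 6, 5, 4, 3, 2, 1, 0, 7, 3, 2, 4, 3, 5, 4, 6, 5, 7, 3, 2, 4, 3, 7, 9, 6, 5, 4, 3, 2]),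
  (26625, 2, [9, 6, 5, 4, 3, 2, 1, 0, 7, 3, 2, 4, 3, 5, 4, 6, 5, 7, 3, 2, 4, 3, 7, 9, 6, 5, 4, 3, 2, 1]),
  (1841, 3, [9, 6, 5, 4, 3, 2, 1, 7, 3, 4, 5, 6, 8, 7, 3, 4, 5, 9, 6]),
  (1844, 3, [9, 6, 5, 4, 3, 2, 1, 7, 3, 4, 5, 6, 8, 7, 3, 2, 4, 5, 9, 6]),
  (1846, 3, [9, 6, 5, 4, 3, 2, 7, 3, 4, 5, 6, 8, 7, 3, 2, 1, 4, 5, 9, 6]),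
  (1847, 3, [9, 6, 5, 4, 3, 2, 1, 7, 3, 4, 5, 6, 8, 7, 3, 2, 1, 4, 5, 9, 6]),
  (16799, 3, [9, 6, 5, 4, 3, 2, 1, 7, 3, 2, 4, 3, 5, 4, 6, 5, 7, 3, 2, 4, 3, 7, 9, 6, 5, 4, 3]),
  (23800, 3, [9, 6, 5, 4, 3, 2, 1, 7, 3, 2, 4, 3, 5, 4, 6, 5, 7, 3, 2, 4, 3, 7, 9, 6, 5, 4, 3, 2]),
  (1840, 4, [9, 6, 5, 4, 3, 2, 7, 3, 4, 5, 6, 8, 7, 3, 4, 5, 9, 6]),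
  (1842, 4, [9, 6, 5, 4, 3, 2, 7, 3, 4, 5, 6, 8, 7, 3, 2, 4, 5, 9, 6]),
  (16801, 4, [9, 6, 5, 4, 3, 2, 1, 7, 3, 2, 4, 3, 5, 4, 6, 5, 7, 3, 2, 1, 4, 3, 7, 9, 6, 5, 4, 3])]

/-- A largest commuting set, by positions. -/
def cli5 : List ℕ := [0, 132, 101, 105, 107]

/-- The lift. -/
def w4 : List ℕ := [6, 2, 3, 4, 5, 8, 7, 6, 2, 3, 4, 5, 8, 7, 6, 2, 3, 4, 5, 8, 7, 1, 2, 3,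
    4, 5, 6, 7, 1, 2, 3, 4, 5, 6, 7, 1, 2, 3, 4, 5, 6, 7, 1, 2, 3, 4, 5, 6,
    7, 1, 2, 3, 4, 5, 6, 7, 1, 2, 3, 4, 5, 6, 7, 1, 2, 3, 4, 5, 6, 7, 1, 2,
    3, 4, 5, 6, 7, 1, 2, 3, 4, 5, 6, 7]

/-- Fixed points: the point, the position of a noncommuting predecessor, a path to the point. -/
def fix4 : List (ℕ × ℕ × List ℕ) := [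
  (0, 0, []),
  (43, 0, [9, 6, 5, 4, 3, 2, 1, 7, 3, 2, 8, 7]),
  (45, 0, [9, 6, 5, 4, 3, 2, 1, 0, 7, 3, 2, 8, 7]),
  (50, 0, [9, 6, 5, 4, 3, 2, 1, 7, 3, 4, 5, 8]),
  (52, 0, [9, 6, 5, 4, 3, 2, 1, 0, 7, 3, 4, 5, 8]),
  (71, 0, [9, 6, 5, 4, 3, 2, 1, 7, 3, 2, 4, 3]),
  (72, 0, [9, 6, 5, 4, 3, 2, 1, 0, 7, 3, 2, 4, 3]),
  (122, 0, [9, 6, 5, 4, 3, 2, 7, 3, 4, 5, 6, 8, 7, 3]),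
  (222, 0, [9, 6, 5, 4, 3, 2, 7, 3, 4, 5, 8, 7, 3, 2, 4]),
  (441, 0, [9, 6, 5, 4, 3, 2, 1, 7, 3, 2, 4, 3, 7, 8, 7, 3, 4]),
  (442, 0, [9, 6, 5, 4, 3, 2, 1, 0, 7, 3, 2, 4, 3, 7, 8, 7, 3, 4]),
  (471, 0, [9, 6, 5, 4, 3, 2, 1, 7, 3, 2, 4, 3, 5, 4, 6, 5, 7]),
  (472, 0, [9, 6, 5, 4, 3, 2, 1, 0, 7, 3, 2, 4, 3, 5, 4, 6, 5, 7]),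
  (659, 0, [9, 6, 5, 4, 3, 2, 1, 7, 3, 2, 4, 3, 5, 8, 7, 3, 2, 1, 4]),
  (689, 0, [9, 6, 5, 4, 3, 2, 1, 0, 7, 3, 2, 4, 3, 8, 7, 3, 2, 1, 4]),
  (871, 0, [9, 6, 5, 4, 3, 2, 1, 7, 3, 2, 4, 3, 8, 7, 3, 2, 4, 3, 5]),
  (872, 0, [9, 6, 5, 4, 3, 2, 1, 0, 7, 3, 2, 4, 3, 8, 7, 3, 2, 4, 3, 5]),
  (1102, 0, [9, 6, 5, 4, 3, 2, 1, 7, 3, 2, 4, 3, 5, 4, 6, 7, 3, 2, 8]),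
  (1103, 0, [9, 6, 5, 4, 3, 2, 1, 0, 7, 3, 2, 4, 3, 5, 4, 6, 7, 3, 2, 8]),
  (1201, 0, [9, 6, 5, 4, 3, 2, 1, 7, 3, 2, 4, 3, 5, 4, 6, 5, 7, 3, 4, 8, 7]),
  (1202, 0, [9, 6, 5, 4, 3, 2, 1, 0, 7, 3, 2, 4, 3, 5, 4, 6, 5, 7, 3, 4, 8, 7]),
  (1371, 0, [9, 6, 5, 4, 3, 2, 1, 7, 3, 2, 4, 3, 5, 4, 6, 5, 8, 7, 3, 4]),
  (1372, 0, [9, 6, 5, 4, 3, 2, 1, 0, 7, 3, 2, 4, 3, 5, 4, 6, 5, 8, 7, 3, 4]),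
  (1631, 0, [9, 6, 5, 4, 3, 2, 1, 0, 7, 3, 2, 4, 3, 8, 7, 3, 2, 1, 0, 4]),
  (1636, 0, [9, 6, 5, 4, 3, 2, 1, 7, 3, 2, 4, 3, 5, 8, 7, 3, 2, 1, 0, 4]),
  (1870, 0, [9, 6, 5, 4, 3, 2, 1, 7, 3, 2, 4, 5, 6, 8, 7, 3, 2, 4, 3, 7]),
  (1871, 0, [9, 6, 5, 4, 3, 2, 1, 0, 7, 3, 2, 4, 5, 6, 8, 7, 3, 2, 4, 3, 7]),
  (2026, 0, [9, 6, 5, 4, 3, 2, 1, 0, 7, 3, 4, 5, 6, 8, 7, 3, 2, 1, 4, 3, 5, 4, 7]),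
  (2040, 0, [9, 6, 5, 4, 3, 2, 1, 0, 7, 3, 2, 4, 3, 5, 4, 6, 5, 7, 8, 7, 3, 2, 1, 4]),
  (2096, 0, [9, 6, 5, 4, 3, 2, 1, 7, 3, 2, 4, 8, 7, 3, 2, 1, 4, 5, 6]),
  (2124, 0, [9, 6, 5, 4, 3, 2, 1, 0, 7, 3, 2, 1, 4, 5, 6, 8, 7, 3, 2, 1, 4, 5, 6]),
  (2155, 0, [9, 6, 5, 4, 3, 2, 1, 7, 3, 2, 4, 3, 5, 6, 7, 8, 7, 3, 2, 4, 5, 6]),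
  (2156, 0, [9, 6, 5, 4, 3, 2, 1, 0, 7, 3, 2, 4, 3, 5, 6, 7, 8, 7, 3, 2, 4, 5, 6]),
  (2216, 0, [9, 6, 5, 4, 3, 2, 1, 7, 3, 2, 4, 8, 7, 3, 2, 1, 0, 4, 5, 6]),
  (2232, 0, [9, 6, 5, 4, 3, 2, 1, 0, 7, 3, 2, 1, 4, 5, 6, 8, 7, 3, 2, 1, 0, 4, 5, 6]),
  (2284, 0, [9, 6, 5, 4, 3, 2, 1, 0, 7, 3, 2, 4, 5, 8, 7, 3, 2, 1, 4, 3, 2, 5, 6]),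
  (2288, 0, [9, 6, 5, 4, 3, 2, 1, 0, 7, 3, 2, 4, 5, 8, 7, 3, 2, 1, 0, 4, 3, 2, 5, 6]),
  (2296, 0, [9, 6, 5, 4, 3, 2, 1, 7, 3, 2, 4, 5, 6, 8, 7, 3, 2, 4, 3, 5, 4, 6]),
  (2297, 0, [9, 6, 5, 4, 3, 2, 1, 0, 7, 3, 2, 4, 5, 6, 8, 7, 3, 2, 4, 3, 5, 4, 6]),
  (2308, 0, [9, 6, 5, 4, 3, 2, 1, 7, 3, 2, 4, 3, 5, 4, 8, 7, 3, 2, 4, 5, 6]),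
  (2309, 0, [9, 6, 5, 4, 3, 2, 1, 0, 7, 3, 2, 4, 3, 5, 4, 8, 7, 3, 2, 4, 5, 6]),
  (2397, 0, [9, 6, 5, 4, 3, 2, 1, 7, 3, 2, 4, 3, 5, 7, 8, 7, 3, 2, 1, 4, 3, 5, 4, 6]),
  (2413, 0, [9, 6, 5, 4, 3, 2, 1, 7, 3, 2, 4, 3, 5, 7, 8, 7, 3, 2, 1, 0, 4, 3, 5, 4, 6]),
  (2504, 0, [9, 6, 5, 4, 3, 2, 1, 0, 7, 3, 2, 1, 4, 3, 7, 8, 7, 3, 2, 1, 4, 3, 2, 5]),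
  (2505, 0, [9, 6, 5, 4, 3, 2, 1, 0, 7, 3, 2, 1, 4, 3, 2, 7, 8, 7, 3, 2, 1, 4, 3, 5, 7]),
  (2733, 0, [9, 6, 5, 4, 3, 2, 1, 7, 3, 2, 4, 3, 5, 4, 8, 7, 3, 2, 1, 4, 3, 5, 7]),
  (2734, 0, [9, 6, 5, 4, 3, 2, 1, 0, 7, 3, 2, 4, 3, 5, 7, 8, 7, 3, 2, 4, 3, 5, 7, 8]),
  (2799, 0, [9, 6, 5, 4, 3, 2, 1, 7, 3, 2, 4, 3, 5, 4, 6, 8, 7, 3, 2, 1, 4, 3, 2, 5]),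
  (2800, 0, [9, 6, 5, 4, 3, 2, 1, 0, 7, 3, 2, 4, 3, 5, 4, 6, 8, 7, 3, 2, 4, 3, 5, 7, 8]),
  (3032, 0, [9, 6, 5, 4, 3, 2, 1, 7, 3, 2, 4, 3, 5, 4, 6, 7, 8, 7, 3, 2, 4, 3, 5, 6, 9]),
  (3034, 0, [9, 6, 5, 4, 3, 2, 1, 0, 7, 3, 2, 4, 3, 5, 4, 6, 7, 8, 7, 3, 2, 4, 3, 5, 6, 9]),
  (3422, 0, [9, 6, 5, 4, 3, 2, 1, 0, 7, 3, 2, 1, 4, 3, 5, 6, 7, 8, 7, 3, 2, 1, 4, 3, 5, 4, 6]),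
  (3438, 0, [9, 6, 5, 4, 3, 2, 1, 0, 7, 3, 2, 1, 4, 3, 5, 6, 7, 8, 7, 3, 2, 1, 0, 4, 3, 5, 4, 6]),
  (3764, 0, [9, 6, 5, 4, 3, 2, 1, 0, 7, 3, 2, 1, 4, 3, 5, 4, 8, 7, 3, 2, 1, 4, 3, 5, 4, 6]),
  (3902, 0, [9, 6, 5, 4, 3, 2, 1, 7, 3, 2, 4, 3, 5, 4, 6, 5, 7, 8, 7, 3, 2, 4, 3, 5]),
  (3903, 0, [9, 6, 5, 4, 3, 2, 1, 0, 7, 3, 2, 4, 3, 5, 4, 6, 5, 7, 8, 7, 3, 2, 4, 3, 5]),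
  (4781, 0, [9, 6, 5, 4, 3, 2, 1, 7, 3, 2, 4, 3, 5, 8, 7, 3, 4, 5, 6, 9]),
  (4782, 0, [9, 6, 5, 4, 3, 2, 1, 0, 7, 3, 2, 4, 3, 5, 8, 7, 3, 4, 5, 6, 9]),
  (4954, 0, [9, 6, 5, 4, 3, 2, 1, 7, 3, 2, 4, 5, 6, 8, 7, 3, 2, 4, 5, 6, 9, 6]),
  (4955, 0, [9, 6, 5, 4, 3, 2, 1, 0, 7, 3, 2, 4, 5, 6, 8, 7, 3, 2, 4, 5, 6, 9, 6]),
  (5082, 0, [9, 6, 5, 4, 3, 2, 1, 7, 3, 2, 4, 3, 7, 8, 7, 3, 2, 1, 4, 3, 2, 5, 4, 6, 9]),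
  (5084, 0, [9, 6, 5, 4, 3, 2, 1, 7, 3, 2, 4, 3, 7, 8, 7, 3, 2, 1, 0, 4, 3, 2, 5, 4, 6, 9]),
  (5472, 0, [9, 6, 5, 4, 3, 2, 1, 0, 7, 3, 2, 1, 4, 3, 5, 4, 6, 5, 8, 7, 3, 2, 1, 4, 3, 2, 5]),
  (5543, 0, [9, 6, 5, 4, 3, 2, 1, 0, 7, 3, 2, 4, 3, 5, 6, 8, 7, 3, 2, 1, 4, 3, 2, 5, 4, 3, 7]),
  (5577, 0, [9, 6, 5, 4, 3, 2, 1, 0, 7, 3, 2, 1, 4, 3, 2, 5, 4, 6, 5, 8, 7, 3, 2, 1, 4, 3, 5, 7]),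
  (5764, 0, [9, 6, 5, 4, 3, 2, 1, 7, 3, 2, 4, 3, 7, 8, 7, 3, 2, 4, 3, 5, 4, 7, 3]),
  (5765, 0, [9, 6, 5, 4, 3, 2, 1, 0, 7, 3, 2, 4, 3, 7, 8, 7, 3, 2, 4, 3, 5, 4, 7, 3]),
  (6099, 0, [9, 6, 5, 4, 3, 2, 1, 0, 7, 3, 2, 1, 4, 3, 2, 8, 7, 3, 2, 1, 4, 3, 5, 4, 7, 3]),
  (6102, 0, [9, 6, 5, 4, 3, 2, 1, 0, 7, 3, 2, 1, 4, 3, 2, 8, 7, 3, 2, 1, 0, 4, 3, 5, 4, 7, 3]),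
  (6290, 0, [9, 6, 5, 4, 3, 2, 1, 0, 7, 3, 2, 4, 3, 5, 6, 8, 7, 3, 2, 1, 0, 4, 3, 2, 5, 4, 3, 7]),
  (6544, 0, [9, 6, 5, 4, 3, 2, 1, 0, 7, 3, 2, 1, 4, 3, 5, 4, 7, 8, 7, 3, 2, 1, 4, 3, 2, 5, 4, 3, 6, 5]),
  (6562, 0, [9, 6, 5, 4, 3, 2, 1, 0, 7, 3, 2, 1, 4, 3, 5, 6, 8, 7, 3, 2, 1, 0, 4, 3, 2, 5, 4, 3, 6, 5]),
  (6765, 0, [9, 6, 5, 4, 3, 2, 1, 0, 7, 3, 2, 1, 4, 5, 8, 7, 3, 2, 1, 4, 3, 2, 5, 4, 6, 7, 8]),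
  (6766, 0, [9, 6, 5, 4, 3, 2, 1, 0, 7, 3, 2, 1, 4, 5, 8, 7, 3, 2, 1, 0, 4, 3, 2, 5, 4, 6, 7, 8]),
  (7268, 0, [9, 6, 5, 4, 3, 2, 1, 0, 7, 3, 2, 1, 4, 5, 6, 8, 7, 3, 2, 1, 4, 3, 5, 4, 6, 7, 8]),
  (7269, 0, [9, 6, 5, 4, 3, 2, 1, 0, 7, 3, 2, 1, 4, 5, 6, 8, 7, 3, 2, 1, 0, 4, 3, 5, 4, 6, 7, 8]),
  (7439, 0, [9, 6, 5, 4, 3, 2, 1, 0, 7, 3, 2, 1, 4, 3, 2, 5, 4, 6, 8, 7, 3, 2, 1, 4, 3, 5, 4, 6, 5, 7, 3, 2, 8]),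
  (7488, 0, [9, 6, 5, 4, 3, 2, 1, 0, 7, 3, 2, 1, 4, 3, 5, 4, 6, 8, 7, 3, 2, 1, 4, 3, 5, 6, 7, 8, 9, 6]),
  (8104, 0, [9, 6, 5, 4, 3, 2, 1, 0, 7, 3, 2, 1, 4, 3, 5, 6, 8, 7, 3, 2, 1, 4, 3, 2, 5, 4, 3, 6, 5]),
  (8372, 0, [9, 6, 5, 4, 3, 2, 1, 0, 7, 3, 2, 1, 4, 3, 2, 5, 4, 6, 8, 7, 3, 2, 1, 4, 3, 2, 5, 4, 7, 3, 2, 1]),
  (8373, 0, [9, 6, 5, 4, 3, 2, 1, 0, 7, 3, 2, 1, 4, 3, 5, 6, 7, 8, 7, 3, 2, 1, 4, 3, 2, 5, 4, 3, 7, 3, 4]),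
  (8533, 0, [9, 6, 5, 4, 3, 2, 1, 0, 7, 3, 2, 1, 4, 3, 5, 6, 8, 7, 3, 2, 4, 3, 5, 4, 7, 3, 2, 1, 8]),
  (8535, 0, [9, 6, 5, 4, 3, 2, 1, 0, 7, 3, 2, 1, 4, 3, 5, 6, 8, 7, 3, 2, 4, 3, 5, 4, 7, 3, 2, 1, 0, 8]),
  (8892, 0, [9, 6, 5, 4, 3, 2, 1, 0, 7, 3, 2, 1, 4, 3, 5, 4, 8, 7, 3, 2, 1, 0, 4, 3, 5, 4, 6]),
  (9072, 0, [9, 6, 5, 4, 3, 2, 1, 0, 7, 3, 2, 4, 3, 5, 8, 7, 3, 2, 1, 4, 3, 2, 5, 4, 6, 7, 3, 4, 5]),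
  (9218, 0, [9, 6, 5, 4, 3, 2, 1, 0, 7, 3, 2, 1, 4, 3, 5, 4, 6, 8, 7, 3, 2, 1, 4, 3, 2, 5, 4, 3, 6, 5, 7, 8]),
  (9268, 0, [9, 6, 5, 4, 3, 2, 1, 0, 7, 3, 2, 1, 4, 3, 5, 4, 6, 8, 7, 3, 2, 1, 0, 4, 3, 5, 6, 7, 8, 9, 6]),
  (9511, 0, [9, 6, 5, 4, 3, 2, 1, 0, 7, 3, 2, 1, 4, 3, 2, 5, 4, 6, 5, 7, 8, 7, 3, 2, 1, 4, 3, 5, 4, 7, 3]),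
  (9514, 0, [9, 6, 5, 4, 3, 2, 1, 0, 7, 3, 2, 1, 4, 5, 6, 8, 7, 3, 2, 1, 4, 3, 2, 5, 4, 3, 7, 3, 4, 5]),
  (9723, 0, [9, 6, 5, 4, 3, 2, 1, 0, 7, 3, 2, 1, 4, 3, 2, 5, 4, 6, 8, 7, 3, 2, 1, 4, 3, 2, 5, 4, 6, 7]),
  (9730, 0, [9, 6, 5, 4, 3, 2, 1, 0, 7, 3, 2, 1, 4, 3, 2, 5, 7, 8, 7, 3, 2, 1, 4, 3, 2, 5, 4, 6, 7]),
  (9731, 0, [9, 6, 5, 4, 3, 2, 1, 0, 7, 3, 2, 1, 4, 3, 2, 5, 7, 8, 7, 3, 2, 1, 0, 4, 3, 2, 5, 4, 6, 7]),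
  (10075, 0, [9, 6, 5, 4, 3, 2, 1, 0, 7, 3, 2, 1, 4, 3, 2, 5, 4, 6, 8, 7, 3, 2, 1, 0, 4, 3, 2, 5, 4, 6, 7]),
  (10945, 0, [9, 6, 5, 4, 3, 2, 1, 0, 7, 3, 2, 4, 3, 5, 8, 7, 3, 2, 1, 4, 3, 2, 5, 4, 3, 7, 3]),
  (11058, 0, [9, 6, 5, 4, 3, 2, 1, 0, 7, 3, 2, 4, 3, 5, 4, 7, 8, 7, 3, 2, 1, 4, 3, 2, 5, 4, 3, 7]),
  (11138, 0, [9, 6, 5, 4, 3, 2, 1, 0, 7, 3, 2, 1, 4, 3, 2, 5, 7, 8, 7, 3, 2, 1, 4, 3, 2, 5, 4, 7, 3, 2, 1]),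
  (11150, 0, [9, 6, 5, 4, 3, 2, 1, 0, 7, 3, 2, 1, 4, 3, 5, 4, 8, 7, 3, 2, 1, 4, 3, 2, 5, 4, 3, 7, 3, 4]),
  (11447, 0, [9, 6, 5, 4, 3, 2, 1, 0, 7, 3, 2, 1, 4, 5, 8, 7, 3, 2, 1, 4, 3, 5, 4, 6, 5, 7, 3, 2]),
  (11448, 0, [9, 6, 5, 4, 3, 2, 1, 0, 7, 3, 2, 1, 4, 5, 8, 7, 3, 2, 1, 0, 4, 3, 5, 4, 6, 5, 7, 3, 2]),
  (11831, 0, [9, 6, 5, 4, 3, 2, 1, 0, 7, 3, 2, 4, 3, 8, 7, 3, 2, 1, 0, 4, 3, 2, 5, 4, 3, 7, 8]),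
  (11832, 0, [9, 6, 5, 4, 3, 2, 1, 0, 7, 3, 2, 4, 3, 8, 7, 3, 2, 1, 4, 3, 2, 5, 4, 3, 7, 8]),
  (12764, 0, [9, 6, 5, 4, 3, 2, 1, 0, 7, 3, 2, 1, 4, 3, 2, 5, 7, 8, 7, 3, 2, 1, 4, 3, 5, 4, 6, 5, 7, 3, 2, 8]),
  (12765, 0, [9, 6, 5, 4, 3, 2, 1, 0, 7, 3, 2, 1, 4, 3, 5, 7, 8, 7, 3, 2, 1, 4, 3, 2, 5, 4, 3, 6, 5, 7, 8]),
  (12946, 0, [9, 6, 5, 4, 3, 2, 1, 0, 7, 3, 2, 1, 4, 3, 2, 5, 8, 7, 3, 2, 1, 4, 3, 2, 5, 6, 7, 3, 4]),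
  (12947, 0, [9, 6, 5, 4, 3, 2, 1, 0, 7, 3, 2, 1, 4, 3, 2, 5, 8, 7, 3, 2, 1, 0, 4, 3, 2, 5, 6, 7, 3, 4]),
  (13315, 0, [9, 6, 5, 4, 3, 2, 1, 0, 7, 3, 2, 1, 4, 3, 2, 5, 4, 6, 8, 7, 3, 2, 1, 4, 3, 2, 5, 6, 7, 3, 4, 8, 7]),
  (13323, 0, [9, 6, 5, 4, 3, 2, 1, 0, 7, 3, 2, 1, 4, 3, 5, 6, 8, 7, 3, 2, 1, 4, 3, 5, 4, 6, 7, 3, 2, 8, 7, 9]),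
  (13361, 0, [9, 6, 5, 4, 3, 2, 1, 0, 7, 3, 2, 1, 4, 3, 5, 6, 8, 7, 3, 2, 4, 3, 5, 4, 6, 7, 3, 2, 1, 0, 8, 9]),
  (13365, 0, [9, 6, 5, 4, 3, 2, 1, 0, 7, 3, 2, 1, 4, 3, 5, 6, 8, 7, 3, 2, 4, 3, 5, 4, 6, 7, 3, 2, 1, 8, 9]),
  (13705, 0, [9, 6, 5, 4, 3, 2, 1, 0, 7, 3, 2, 1, 4, 3, 5, 8, 7, 3, 2, 1, 4, 3, 2, 5, 4, 7, 3, 8, 7]),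
  (13706, 0, [9, 6, 5, 4, 3, 2, 1, 0, 7, 3, 2, 1, 4, 3, 5, 8, 7, 3, 2, 1, 0, 4, 3, 2, 5, 4, 7, 3, 8, 7]),
  (13885, 0, [9, 6, 5, 4, 3, 2, 1, 0, 7, 3, 2, 1, 4, 3, 5, 7, 8, 7, 3, 2, 1, 4, 3, 2, 5, 4, 6, 5, 7, 3, 2, 8, 7, 9, 6]),
  (13886, 0, [9, 6, 5, 4, 3, 2, 1, 0, 7, 3, 2, 1, 4, 3, 2, 5, 7, 8, 7, 3, 2, 1, 4, 3, 2, 5, 4, 3, 6, 5, 7, 3, 8, 7, 9, 6]),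
  (14035, 0, [9, 6, 5, 4, 3, 2, 1, 0, 7, 3, 2, 1, 4, 3, 5, 7, 8, 7, 3, 2, 1, 4, 3, 2, 5, 4, 6, 5, 7, 3, 4, 5, 8, 9]),
  (14065, 0, [9, 6, 5, 4, 3, 2, 1, 0, 7, 3, 2, 1, 4, 3, 5, 4, 8, 7, 3, 2, 1, 0, 4, 3, 2, 1, 5, 4, 6, 5, 7, 3, 4, 8, 9]),
  (14307, 0, [9, 6, 5, 4, 3, 2, 1, 0, 7, 3, 2, 1, 4, 3, 2, 5, 4, 8, 7, 3, 2, 1, 0, 4, 3, 2, 5, 6, 7, 9]),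
  (14308, 0, [9, 6, 5, 4, 3, 2, 1, 0, 7, 3, 2, 1, 4, 3, 2, 5, 4, 8, 7, 3, 2, 1, 4, 3, 2, 5, 6, 7, 9]),
  (14846, 0, [9, 6, 5, 4, 3, 2, 1, 0, 7, 3, 2, 1, 4, 3, 2, 5, 7, 8, 7, 3, 2, 1, 4, 3, 2, 5, 6, 7, 3, 4, 8, 7]),
  (14847, 0, [9, 6, 5, 4, 3, 2, 1, 0, 7, 3, 2, 1, 4, 3, 2, 5, 7, 8, 7, 3, 2, 1, 0, 4, 3, 2, 5, 6, 7, 3, 4, 8, 7]),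
  (14899, 0, [9, 6, 5, 4, 3, 2, 1, 0, 7, 3, 2, 1, 4, 3, 2, 5, 8, 7, 3, 2, 4, 3, 5, 4, 6, 7, 3, 2, 1, 8, 7, 3]),
  (14900, 0, [9, 6, 5, 4, 3, 2, 1, 0, 7, 3, 2, 1, 4, 3, 2, 5, 4, 3, 8, 7, 3, 2, 1, 4, 3, 2, 5, 7, 3, 4, 5, 6, 8]),
  (14919, 0, [9, 6, 5, 4, 3, 2, 1, 0, 7, 3, 2, 1, 4, 3, 2, 5, 4, 6, 7, 8, 7, 3, 2, 1, 4, 3, 2, 5, 6, 7, 3, 4]),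
  (14955, 0, [9, 6, 5, 4, 3, 2, 1, 0, 7, 3, 2, 1, 4, 3, 2, 5, 6, 8, 7, 3, 2, 1, 4, 3, 2, 5, 7, 3, 4, 5, 6]),
  (15588, 0, [9, 6, 5, 4, 3, 2, 1, 0, 7, 3, 2, 1, 4, 3, 5, 4, 6, 7, 8, 7, 3, 2, 1, 4, 3, 2, 5, 4, 7, 3, 8, 7]),
  (15632, 0, [9, 6, 5, 4, 3, 2, 1, 0, 7, 3, 2, 1, 4, 3, 5, 6, 8, 7, 3, 2, 1, 4, 3, 2, 5, 4, 7, 3, 4, 8, 7]),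
  (16243, 0, [9, 6, 5, 4, 3, 2, 1, 0, 7, 3, 2, 1, 4, 3, 2, 5, 6, 8, 7, 3, 2, 1, 4, 3, 5, 4, 6, 5, 7, 3, 2, 1, 8, 7]),
  (16244, 0, [9, 6, 5, 4, 3, 2, 1, 0, 7, 3, 2, 1, 4, 3, 2, 5, 6, 8, 7, 3, 2, 1, 4, 3, 5, 4, 6, 5, 7, 3, 2, 1, 0, 8, 7]),
  (17045, 0, [9, 6, 5, 4, 3, 2, 1, 0, 7, 3, 2, 1, 4, 3, 2, 5, 4, 7, 8, 7, 3, 2, 1, 4, 3, 2, 5, 4, 6, 7, 3, 4, 9]),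
  (17046, 0, [9, 6, 5, 4, 3, 2, 1, 0, 7, 3, 2, 1, 4, 3, 2, 5, 8, 7, 3, 2, 1, 4, 3, 2, 5, 4, 7, 3, 4, 5, 6, 9]),
  (17454, 0, [9, 6, 5, 4, 3, 2, 1, 0, 7, 3, 2, 1, 4, 3, 5, 8, 7, 3, 2, 1, 4, 3, 2, 5, 4, 6, 7, 3, 2, 4, 5, 6, 8, 7, 9]),
  (17455, 0, [9, 6, 5, 4, 3, 2, 1, 0, 7, 3, 2, 1, 4, 3, 2, 5, 4, 7, 8, 7, 3, 2, 1, 4, 3, 2, 5, 4, 6, 5, 7, 3, 2, 8, 7, 9]),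
  (17674, 0, [9, 6, 5, 4, 3, 2, 1, 0, 7, 3, 2, 1, 4, 3, 2, 5, 6, 7, 8, 7, 3, 2, 1, 0, 4, 3, 2, 5, 4, 6, 5, 7, 3, 9, 6]),
  (17678, 0, [9, 6, 5, 4, 3, 2, 1, 0, 7, 3, 2, 1, 4, 3, 2, 5, 6, 7, 8, 7, 3, 2, 1, 4, 3, 2, 5, 4, 6, 5, 7, 3, 9, 6]),
  (18284, 0, [9, 6, 5, 4, 3, 2, 1, 0, 7, 3, 2, 1, 4, 3, 2, 5, 6, 8, 7, 3, 2, 1, 4, 3, 2, 5, 4, 6, 5, 7, 3, 2, 1, 0, 4, 3]),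
  (18285, 0, [9, 6, 5, 4, 3, 2, 1, 0, 7, 3, 2, 1, 4, 3, 2, 5, 6, 8, 7, 3, 2, 1, 4, 3, 2, 5, 4, 6, 5, 7, 3, 2, 1, 4, 3]),
  (19022, 0, [9, 6, 5, 4, 3, 2, 1, 0, 7, 3, 2, 1, 4, 3, 5, 8, 7, 3, 2, 1, 4, 3, 2, 5, 4, 3, 6, 5, 7, 3, 2, 8, 7, 9, 6]),
  (19052, 0, [9, 6, 5, 4, 3, 2, 1, 0, 7, 3, 2, 1, 4, 3, 2, 5, 8, 7, 3, 2, 1, 4, 3, 2, 5, 4, 6, 5, 7, 3, 2, 8, 7, 3, 9, 6]),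
  (19079, 0, [9, 6, 5, 4, 3, 2, 1, 0, 7, 3, 2, 1, 4, 3, 2, 5, 4, 8, 7, 3, 2, 1, 4, 3, 2, 5, 4, 3, 6, 7, 3, 2, 8, 7, 9]),
  (19080, 0, [9, 6, 5, 4, 3, 2, 1, 0, 7, 3, 2, 1, 4, 5, 8, 7, 3, 2, 1, 4, 3, 2, 5, 4, 6, 5, 7, 3, 2, 4, 3, 7, 8, 7]),
  (19090, 0, [9, 6, 5, 4, 3, 2, 1, 0, 7, 3, 2, 1, 4, 3, 2, 5, 4, 8, 7, 3, 2, 1, 4, 3, 2, 5, 4, 3, 6, 7, 3, 4, 8, 7, 9]),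
  (19091, 0, [9, 6, 5, 4, 3, 2, 1, 0, 7, 3, 2, 1, 4, 5, 6, 8, 7, 3, 2, 1, 4, 3, 5, 4, 6, 5, 7, 3, 2, 4, 3, 7, 8, 7]),
  (19307, 0, [9, 6, 5, 4, 3, 2, 1, 0, 7, 3, 2, 1, 4, 3, 5, 4, 7, 8, 7, 3, 2, 1, 4, 3, 2, 5, 4, 3, 6, 5, 7, 3, 4, 8, 9]),
  (19308, 0, [9, 6, 5, 4, 3, 2, 1, 0, 7, 3, 2, 1, 4, 3, 5, 4, 8, 7, 3, 2, 1, 4, 3, 2, 5, 4, 3, 6, 5, 4, 7, 3, 4, 8]),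
  (19527, 0, [9, 6, 5, 4, 3, 2, 1, 0, 7, 3, 2, 1, 4, 3, 5, 4, 7, 8, 7, 3, 2, 4, 3, 5, 4, 7, 3, 2, 1, 8]),
  (19528, 0, [9, 6, 5, 4, 3, 2, 1, 0, 7, 3, 2, 1, 4, 3, 5, 4, 7, 8, 7, 3, 2, 4, 3, 5, 4, 7, 3, 2, 1, 0, 8]),
  (19875, 0, [9, 6, 5, 4, 3, 2, 1, 0, 7, 3, 2, 1, 4, 3, 2, 8, 7, 3, 2, 1, 4, 3, 5, 4, 6, 5, 7, 3, 2, 1, 8, 7, 3]),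
  (20223, 0, [9, 6, 5, 4, 3, 2, 1, 0, 7, 3, 2, 1, 4, 3, 2, 5, 4, 7, 8, 7, 3, 2, 1, 4, 3, 2, 5, 4, 6, 5, 7, 3, 2, 1, 4, 3]),
  (20239, 0, [9, 6, 5, 4, 3, 2, 1, 0, 7, 3, 2, 1, 4, 3, 5, 4, 8, 7, 3, 2, 1, 4, 3, 2, 5, 4, 6, 5, 7, 3, 2, 1, 8, 7, 9]),
  (20345, 0, [9, 6, 5, 4, 3, 2, 1, 0, 7, 3, 2, 1, 4, 3, 2, 5, 4, 7, 8, 7, 3, 2, 1, 4, 3, 5, 4, 6, 5, 7, 3, 2, 1, 8, 7]),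
  (20444, 0, [9, 6, 5, 4, 3, 2, 1, 0, 7, 3, 2, 1, 4, 3, 2, 5, 4, 8, 7, 3, 2, 1, 4, 3, 2, 5, 4, 6, 7, 3, 2, 4, 5, 6]),
  (20614, 0, [9, 6, 5, 4, 3, 2, 1, 0, 7, 3, 2, 1, 4, 3, 2, 5, 8, 7, 3, 2, 1, 4, 3, 2, 5, 4, 6, 7, 3, 2, 4, 5, 8]),
  (20615, 0, [9, 6, 5, 4, 3, 2, 1, 0, 7, 3, 2, 1, 4, 3, 2, 5, 8, 7, 3, 2, 1, 0, 4, 3, 2, 5, 4, 6, 7, 3, 2, 4, 5, 8]),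
  (21405, 0, [9, 6, 5, 4, 3, 2, 1, 0, 7, 3, 2, 1, 4, 3, 2, 5, 4, 7, 8, 7, 3, 2, 1, 4, 3, 2, 5, 4, 6, 7, 3, 4, 5, 8, 9]),
  (21818, 0, [9, 6, 5, 4, 3, 2, 1, 0, 7, 3, 2, 1, 4, 3, 5, 4, 8, 7, 3, 2, 1, 4, 3, 2, 5, 4, 3, 6, 5, 7, 3, 2, 1, 4, 3, 9]),
  (21982, 0, [9, 6, 5, 4, 3, 2, 1, 0, 7, 3, 2, 1, 4, 3, 2, 5, 6, 7, 8, 7, 3, 2, 1, 0, 4, 3, 2, 1, 5, 4, 6, 5, 7, 3, 4, 8, 7, 3, 9]),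
  (21994, 0, [9, 6, 5, 4, 3, 2, 1, 0, 7, 3, 2, 1, 4, 3, 2, 5, 6, 8, 7, 3, 2, 1, 4, 3, 2, 5, 4, 3, 6, 5, 7, 3, 4, 8, 7, 3, 9, 6]),
  (22109, 0, [9, 6, 5, 4, 3, 2, 1, 0, 7, 3, 2, 1, 4, 3, 2, 5, 8, 7, 3, 2, 1, 4, 3, 2, 5, 4, 3, 6, 5, 7, 3, 2, 1, 4, 8, 7, 3]),
  (22183, 0, [9, 6, 5, 4, 3, 2, 1, 0, 7, 3, 2, 1, 4, 3, 2, 5, 4, 8, 7, 3, 2, 1, 4, 3, 2, 5, 4, 6, 5, 7, 3, 2, 1, 4, 5, 8, 7, 3]),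
  (22265, 0, [9, 6, 5, 4, 3, 2, 1, 0, 7, 3, 2, 1, 4, 3, 2, 5, 8, 7, 3, 2, 1, 4, 3, 2, 5, 4, 6, 5, 7, 3, 2, 4, 3, 5, 7, 8]),
  (22271, 0, [9, 6, 5, 4, 3, 2, 1, 0, 7, 3, 2, 1, 4, 3, 2, 5, 4, 8, 7, 3, 2, 1, 4, 3, 2, 5, 4, 3, 6, 5, 7, 3, 4, 8, 9, 6, 5]),
  (22275, 0, [9, 6, 5, 4, 3, 2, 1, 0, 7, 3, 2, 1, 4, 3, 2, 5, 4, 7, 8, 7, 3, 2, 1, 4, 3, 2, 5, 4, 3, 6, 5, 4, 7, 3, 4, 5, 8, 9]),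
  (22416, 0, [9, 6, 5, 4, 3, 2, 1, 0, 7, 3, 2, 1, 4, 3, 2, 5, 6, 8, 7, 3, 2, 1, 4, 3, 2, 5, 4, 3, 6, 5, 4, 7, 3, 2, 4, 3, 7]),
  (22515, 0, [9, 6, 5, 4, 3, 2, 1, 0, 7, 3, 2, 1, 4, 3, 2, 5, 4, 6, 7, 8, 7, 3, 2, 1, 4, 3, 2, 5, 4, 6, 7, 3, 2, 4, 5, 8]),
  (22517, 0, [9, 6, 5, 4, 3, 2, 1, 0, 7, 3, 2, 1, 4, 3, 2, 5, 6, 8, 7, 3, 2, 1, 4, 3, 2, 5, 4, 6, 7, 3, 2, 4, 5, 6, 8]),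
  (22650, 0, [9, 6, 5, 4, 3, 2, 1, 0, 7, 3, 2, 1, 4, 3, 2, 5, 8, 7, 3, 2, 1, 4, 3, 2, 5, 4, 6, 7, 3, 4, 5, 6, 8, 9]),
  (22944, 0, [9, 6, 5, 4, 3, 2, 1, 0, 7, 3, 2, 1, 4, 3, 5, 8, 7, 3, 2, 1, 4, 3, 2, 5, 4, 6, 7, 3, 2, 1, 4, 9]),
  (22964, 0, [9, 6, 5, 4, 3, 2, 1, 0, 7, 3, 2, 1, 4, 3, 5, 8, 7, 3, 2, 1, 4, 3, 2, 5, 4, 6, 7, 3, 2, 1, 4, 5, 8, 9]),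
  (23051, 0, [9, 6, 5, 4, 3, 2, 1, 0, 7, 3, 2, 1, 4, 3, 5, 8, 7, 3, 2, 1, 4, 3, 2, 5, 4, 6, 7, 3, 2, 1, 0, 4, 9]),
  (23071, 0, [9, 6, 5, 4, 3, 2, 1, 0, 7, 3, 2, 1, 4, 3, 5, 8, 7, 3, 2, 1, 4, 3, 2, 5, 4, 6, 7, 3, 2, 1, 0, 4, 5, 8, 9]),
  (23092, 0, [9, 6, 5, 4, 3, 2, 1, 0, 7, 3, 2, 1, 4, 3, 2, 8, 7, 3, 2, 1, 4, 3, 2, 5, 4, 3, 6, 5, 4, 7, 3, 2, 4, 3, 8, 7]),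
  (23293, 0, [9, 6, 5, 4, 3, 2, 1, 0, 7, 3, 2, 1, 4, 3, 2, 5, 4, 7, 8, 7, 3, 2, 1, 4, 3, 2, 5, 4, 3, 6, 5, 7, 3, 2, 4, 3, 9]),
  (23294, 0, [9, 6, 5, 4, 3, 2, 1, 0, 7, 3, 2, 1, 4, 3, 2, 5, 8, 7, 3, 2, 1, 4, 3, 2, 5, 4, 3, 6, 5, 4, 7, 3, 2, 1, 4, 5]),
  (23310, 0, [9, 6, 5, 4, 3, 2, 1, 0, 7, 3, 2, 1, 4, 3, 2, 5, 8, 7, 3, 2, 1, 0, 4, 3, 2, 5, 4, 6, 5, 7, 3, 2, 4, 3, 5, 7, 8]),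
  (23525, 0, [9, 6, 5, 4, 3, 2, 1, 0, 7, 3, 2, 1, 4, 3, 5, 4, 8, 7, 3, 2, 1, 4, 3, 2, 5, 4, 3, 6, 5, 7, 3, 2, 4, 3, 5]),
  (23825, 0, [9, 6, 5, 4, 3, 2, 1, 0, 7, 3, 2, 1, 4, 3, 8, 7, 3, 2, 1, 4, 3, 2, 5, 4, 3, 6, 5, 4, 7, 3, 2, 8, 7, 9]),
  (24906, 0, [9, 6, 5, 4, 3, 2, 1, 0, 7, 3, 2, 1, 4, 3, 2, 5, 4, 7, 8, 7, 3, 2, 1, 4, 3, 5, 4, 6, 5, 7, 3, 2, 1, 4, 3, 7, 8, 7, 3, 4]),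
  (24951, 0, [9, 6, 5, 4, 3, 2, 1, 0, 7, 3, 2, 1, 4, 3, 2, 5, 7, 8, 7, 3, 2, 1, 4, 3, 2, 5, 6, 7, 3, 4, 5, 8, 7, 3, 2, 4, 3, 7, 8]),
  (25063, 0, [9, 6, 5, 4, 3, 2, 1, 0, 7, 3, 2, 1, 4, 3, 2, 5, 6, 8, 7, 3, 2, 1, 4, 3, 5, 4, 6, 5, 7, 3, 2, 1, 4, 3, 7, 8, 7, 3, 4]),
  (25064, 0, [9, 6, 5, 4, 3, 2, 1, 0, 7, 3, 2, 1, 4, 3, 2, 5, 4, 6, 8, 7, 3, 2, 1, 4, 3, 2, 5, 6, 7, 3, 4, 5, 8, 7, 3, 2, 4, 3, 7, 8]),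
  (26322, 0, [9, 6, 5, 4, 3, 2, 1, 0, 7, 3, 2, 1, 4, 3, 2, 5, 6, 8, 7, 3, 2, 1, 4, 3, 2, 5, 4, 3, 6, 5, 4, 7, 3, 2, 4, 3, 8, 7, 3, 4]),
  (26340, 0, [9, 6, 5, 4, 3, 2, 1, 0, 7, 3, 2, 1, 4, 3, 2, 5, 6, 8, 7, 3, 2, 1, 0, 4, 3, 2, 5, 4, 3, 6, 5, 4, 7, 3, 2, 4, 3, 8, 7, 3, 4]),
  (26520, 0, [9, 6, 5, 4, 3, 2, 1, 0, 7, 3, 2, 1, 4, 3, 5, 4, 8, 7, 3, 2, 1, 4, 3, 2, 5, 4, 3, 6, 5, 7, 3, 2, 4, 3, 8, 7, 3, 4, 9, 6]),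
  (26541, 0, [9, 6, 5, 4, 3, 2, 1, 0, 7, 3, 2, 1, 4, 3, 2, 5, 4, 7, 8, 7, 3, 2, 1, 4, 3, 2, 5, 4, 3, 6, 5, 4, 7, 3, 2, 4, 3, 8, 7, 3, 4]),
  (27165, 0, [9, 6, 5, 4, 3, 2, 1, 0, 7, 3, 2, 1, 4, 3, 2, 5, 6, 8, 7, 3, 2, 1, 0, 4, 3, 2, 5, 4, 6, 5, 7, 3, 4, 5, 8, 7, 3, 2, 4, 3, 7]),
  (27169, 0, [9, 6, 5, 4, 3, 2, 1, 0, 7, 3, 2, 1, 4, 3, 2, 5, 6, 8, 7, 3, 2, 1, 4, 3, 2, 5, 4, 6, 5, 7, 3, 4, 5, 8, 7, 3, 2, 4, 3, 7]),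
  (27227, 0, [9, 6, 5, 4, 3, 2, 1, 0, 7, 3, 2, 1, 4, 3, 2, 5, 4, 7, 8, 7, 3, 2, 1, 4, 3, 2, 5, 4, 6, 5, 7, 3, 4, 5, 8, 7, 3, 2, 4, 3, 7]),
  (27231, 0, [9, 6, 5, 4, 3, 2, 1, 0, 7, 3, 2, 1, 4, 3, 2, 5, 8, 7, 3, 2, 1, 4, 3, 2, 5, 4, 6, 5, 7, 3, 4, 5, 6, 8, 7, 3, 2, 4, 3, 7]),
  (27292, 0, [9, 6, 5, 4, 3, 2, 1, 0, 7, 3, 2, 1, 4, 3, 2, 5, 4, 8, 7, 3, 2, 1, 4, 3, 2, 5, 4, 6, 5, 7, 3, 4, 8, 7, 3, 2, 1]),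
  (27302, 0, [9, 6, 5, 4, 3, 2, 1, 0, 7, 3, 2, 1, 4, 3, 2, 5, 6, 7, 8, 7, 3, 2, 1, 4, 3, 2, 5, 4, 6, 5, 7, 3, 4, 8, 7, 3, 2, 1]),
  (27349, 0, [9, 6, 5, 4, 3, 2, 1, 0, 7, 3, 2, 1, 4, 3, 2, 5, 4, 7, 8, 7, 3, 2, 1, 4, 3, 2, 5, 4, 3, 6, 5, 7, 3, 2, 4, 8, 7, 3, 2, 1]),
  (27351, 0, [9, 6, 5, 4, 3, 2, 1, 0, 7, 3, 2, 1, 4, 3, 2, 5, 4, 8, 7, 3, 2, 1, 4, 3, 2, 5, 4, 6, 5, 7, 3, 2, 4, 3, 7, 8, 7, 3, 2, 1]),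
  (27362, 0, [9, 6, 5, 4, 3, 2, 1, 0, 7, 3, 2, 1, 4, 3, 2, 5, 4, 8, 7, 3, 2, 1, 4, 3, 2, 5, 4, 6, 5, 7, 3, 2, 1, 0, 4, 8, 7, 3, 2, 1]),
  (27445, 0, [9, 6, 5, 4, 3, 2, 1, 0, 7, 3, 2, 1, 4, 3, 2, 5, 8, 7, 3, 2, 1, 4, 3, 2, 5, 4, 6, 5, 7, 3, 2, 4, 3, 7, 8, 7, 3, 2, 1, 4, 3]),
  (27469, 0, [9, 6, 5, 4, 3, 2, 1, 0, 7, 3, 2, 1, 4, 3, 5, 4, 8, 7, 3, 2, 1, 4, 3, 2, 5, 4, 6, 5, 7, 3, 2, 4, 3, 7, 8, 7, 3, 2, 1, 9]),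
  (27516, 0, [9, 6, 5, 4, 3, 2, 1, 0, 7, 3, 2, 1, 4, 3, 2, 5, 8, 7, 3, 2, 1, 4, 3, 2, 5, 4, 6, 5, 7, 3, 4, 5, 8, 7, 3, 2, 1, 4, 9]),
  (27541, 0, [9, 6, 5, 4, 3, 2, 1, 0, 7, 3, 2, 1, 4, 3, 5, 6, 8, 7, 3, 2, 1, 4, 3, 2, 5, 4, 6, 5, 7, 3, 2, 4, 8, 7, 3, 2, 1, 4, 9]),
  (27546, 0, [9, 6, 5, 4, 3, 2, 1, 0, 7, 3, 2, 1, 4, 3, 5, 8, 7, 3, 2, 1, 4, 3, 2, 5, 4, 6, 5, 7, 3, 4, 8, 7, 3, 2, 1, 9, 6, 5]),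
  (27683, 0, [9, 6, 5, 4, 3, 2, 1, 0, 7, 3, 2, 1, 4, 3, 5, 4, 8, 7, 3, 2, 1, 4, 3, 2, 5, 4, 6, 5, 7, 3, 2, 4, 3, 5, 7, 8, 7, 3, 2, 1, 4]),
  (27699, 0, [9, 6, 5, 4, 3, 2, 1, 0, 7, 3, 2, 1, 4, 3, 2, 5, 4, 8, 7, 3, 2, 1, 4, 3, 2, 5, 4, 3, 6, 5, 7, 3, 2, 4, 8, 7, 3, 2, 1, 4, 5]),
  (27756, 0, [9, 6, 5, 4, 3, 2, 1, 0, 7, 3, 2, 1, 4, 3, 2, 5, 6, 8, 7, 3, 2, 1, 4, 3, 2, 5, 4, 3, 6, 5, 7, 3, 2, 4, 8, 7, 3, 2, 1]),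
  (27805, 0, [9, 6, 5, 4, 3, 2, 1, 0, 7, 3, 2, 1, 4, 3, 2, 5, 4, 6, 8, 7, 3, 2, 1, 4, 3, 2, 5, 4, 6, 5, 7, 3, 4, 5, 6, 8, 7, 3, 2, 1, 9]),
  (27845, 0, [9, 6, 5, 4, 3, 2, 1, 0, 7, 3, 2, 1, 4, 3, 5, 6, 8, 7, 3, 2, 1, 0, 4, 3, 2, 5, 4, 6, 5, 7, 3, 4, 8, 7, 3, 2, 1, 9]),
  (27898, 0, [9, 6, 5, 4, 3, 2, 1, 0, 7, 3, 2, 1, 4, 3, 5, 7, 8, 7, 3, 2, 1, 4, 3, 2, 5, 4, 6, 5, 7, 3, 2, 4, 5, 8, 7, 3, 2, 1, 9]),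
  (27962, 0, [9, 6, 5, 4, 3, 2, 1, 0, 7, 3, 2, 1, 4, 3, 2, 5, 7, 8, 7, 3, 2, 1, 0, 4, 3, 2, 5, 4, 6, 5, 7, 3, 4, 5, 8, 7, 3, 2, 1, 4]),
  (28021, 0, [9, 6, 5, 4, 3, 2, 1, 0, 7, 3, 2, 1, 4, 3, 2, 5, 4, 8, 7, 3, 2, 1, 0, 4, 3, 2, 1, 5, 4, 6, 5, 7, 3, 2, 4, 3, 8, 7, 3, 2, 1]),
  (28074, 0, [9, 6, 5, 4, 3, 2, 1, 0, 7, 3, 2, 1, 4, 3, 2, 5, 6, 7, 8, 7, 3, 2, 1, 4, 3, 2, 5, 4, 3, 6, 5, 7, 3, 2, 4, 8, 7, 3, 2, 1, 4, 5]),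
  (28088, 0, [9, 6, 5, 4, 3, 2, 1, 0, 7, 3, 2, 1, 4, 3, 5, 6, 7, 8, 7, 3, 2, 1, 4, 3, 2, 5, 4, 6, 5, 7, 3, 2, 4, 3, 5, 7, 8, 7, 3, 2, 1, 4]),
  (28152, 0, [9, 6, 5, 4, 3, 2, 1, 0, 7, 3, 2, 1, 4, 3, 2, 5, 7, 8, 7, 3, 2, 1, 4, 3, 2, 5, 4, 6, 5, 7, 3, 2, 4, 5, 8, 7, 3, 2, 1]),
  (28204, 0, [9, 6, 5, 4, 3, 2, 1, 0, 7, 3, 2, 1, 4, 3, 5, 4, 8, 7, 3, 2, 1, 0, 4, 3, 2, 5, 4, 6, 5, 7, 3, 2, 4, 3, 8, 7, 3, 2, 1, 4, 3]),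
  (28292, 0, [9, 6, 5, 4, 3, 2, 1, 0, 7, 3, 2, 1, 4, 3, 5, 8, 7, 3, 2, 1, 4, 3, 2, 5, 4, 6, 5, 7, 3, 2, 1, 4, 3, 5, 8, 7, 3, 2, 1, 4]),
  (28325, 0, [9, 6, 5, 4, 3, 2, 1, 0, 7, 3, 2, 1, 4, 3, 2, 5, 4, 7, 8, 7, 3, 2, 1, 4, 3, 2, 5, 4, 6, 5, 7, 3, 2, 4, 5, 8, 7, 3, 2, 1, 4, 3, 9]),
  (28334, 0, [9, 6, 5, 4, 3, 2, 1, 0, 7, 3, 2, 1, 4, 3, 2, 5, 4, 8, 7, 3, 2, 1, 0, 4, 3, 2, 5, 4, 6, 5, 7, 3, 4, 8, 7, 3, 2, 1, 9, 6, 5]),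
  (28349, 0, [9, 6, 5, 4, 3, 2, 1, 0, 7, 3, 2, 1, 4, 3, 2, 5, 8, 7, 3, 2, 1, 0, 4, 3, 2, 5, 4, 6, 5, 7, 3, 4, 5, 8, 7, 3, 2, 1, 9, 6]),
  (28399, 0, [9, 6, 5, 4, 3, 2, 1, 0, 7, 3, 2, 1, 4, 3, 2, 5, 8, 7, 3, 2, 1, 4, 3, 2, 5, 4, 3, 6, 5, 4, 7, 3, 2, 4, 8, 7, 3, 2, 1, 4]),
  (28429, 0, [9, 6, 5, 4, 3, 2, 1, 0, 7, 3, 2, 1, 4, 3, 2, 5, 4, 8, 7, 3, 2, 1, 4, 3, 2, 5, 4, 3, 6, 5, 4, 7, 3, 2, 1, 4, 8, 7, 3, 2, 1, 4, 3, 5]),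
  (28492, 0, [9, 6, 5, 4, 3, 2, 1, 0, 7, 3, 2, 1, 4, 3, 2, 5, 6, 8, 7, 3, 2, 1, 4, 3, 2, 5, 4, 3, 6, 5, 7, 3, 2, 4, 3, 7, 8, 7, 3, 2, 1, 4]),
  (28501, 0, [9, 6, 5, 4, 3, 2, 1, 0, 7, 3, 2, 1, 4, 3, 2, 5, 4, 7, 8, 7, 3, 2, 1, 4, 3, 2, 5, 4, 3, 6, 5, 7, 3, 2, 4, 3, 7, 8, 7, 3, 2, 1, 4]),
  (28518, 0, [9, 6, 5, 4, 3, 2, 1, 0, 7, 3, 2, 1, 4, 3, 2, 5, 6, 8, 7, 3, 2, 1, 4, 3, 2, 5, 4, 3, 6, 5, 4, 7, 3, 2, 4, 5, 8, 7, 3, 2, 1, 4, 9]),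
  (28542, 0, [9, 6, 5, 4, 3, 2, 1, 0, 7, 3, 2, 1, 4, 3, 2, 5, 8, 7, 3, 2, 1, 4, 3, 2, 5, 4, 6, 5, 7, 3, 4, 5, 8, 7, 3, 2, 1, 4, 3, 7, 8, 9, 6]),
  (28562, 0, [9, 6, 5, 4, 3, 2, 1, 0, 7, 3, 2, 1, 4, 3, 2, 5, 8, 7, 3, 2, 1, 4, 3, 2, 5, 4, 6, 5, 7, 3, 2, 4, 5, 6, 8, 7, 3, 2, 1, 4, 5, 9]),
  (28576, 0, [9, 6, 5, 4, 3, 2, 1, 0, 7, 3, 2, 1, 4, 3, 2, 5, 8, 7, 3, 2, 1, 4, 3, 2, 5, 4, 3, 6, 5, 7, 3, 2, 4, 5, 8, 7, 3, 2, 1, 9, 6]),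
  (28659, 0, [9, 6, 5, 4, 3, 2, 1, 0, 7, 3, 2, 1, 4, 3, 2, 5, 8, 7, 3, 2, 1, 0, 4, 3, 2, 5, 4, 6, 5, 7, 3, 2, 4, 3, 5, 8, 7, 3, 2, 1]),
  (28688, 0, [9, 6, 5, 4, 3, 2, 1, 0, 7, 3, 2, 1, 4, 3, 2, 5, 8, 7, 3, 2, 1, 4, 3, 2, 5, 4, 3, 6, 5, 4, 7, 3, 4, 5, 8, 7, 3, 2, 1, 4, 9, 6]),
  (28746, 0, [9, 6, 5, 4, 3, 2, 1, 0, 7, 3, 2, 1, 4, 3, 2, 5, 4, 8, 7, 3, 2, 1, 4, 3, 2, 5, 4, 3, 6, 5, 7, 3, 2, 1, 4, 3, 8, 7, 3, 2, 1, 4, 3]),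
  (28756, 0, [9, 6, 5, 4, 3, 2, 1, 0, 7, 3, 2, 1, 4, 3, 2, 5, 8, 7, 3, 2, 1, 0, 4, 3, 2, 5, 4, 6, 5, 7, 3, 4, 8, 7, 3, 2, 1, 9, 6, 5, 4, 3]),
  (28893, 0, [9, 6, 5, 4, 3, 2, 1, 0, 7, 3, 2, 1, 4, 3, 2, 5, 8, 7, 3, 2, 1, 0, 4, 3, 2, 5, 4, 3, 6, 5, 4, 7, 3, 4, 5, 8, 7, 3, 2, 1, 4, 3, 9]),
  (29010, 0, [9, 6, 5, 4, 3, 2, 1, 0, 7, 3, 2, 1, 4, 3, 2, 5, 8, 7, 3, 2, 1, 4, 3, 2, 5, 4, 6, 5, 7, 3, 2, 4, 3, 5, 8, 7, 3, 2, 1, 4, 3, 9]),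
  (29056, 0, [9, 6, 5, 4, 3, 2, 1, 0, 7, 3, 2, 1, 4, 3, 2, 5, 4, 7, 8, 7, 3, 2, 1, 4, 3, 2, 5, 4, 3, 6, 5, 4, 7, 3, 4, 5, 8, 7, 3, 2, 4, 3, 7, 9]),
  (29057, 0, [9, 6, 5, 4, 3, 2, 1, 0, 7, 3, 2, 1, 4, 3, 2, 5, 4, 8, 7, 3, 2, 1, 4, 3, 2, 5, 4, 3, 6, 5, 7, 3, 4, 8, 7, 3, 2, 9, 6, 5, 4, 3, 7]),
  (29130, 0, [9, 6, 5, 4, 3, 2, 1, 0, 7, 3, 2, 1, 4, 3, 2, 5, 8, 7, 3, 2, 1, 4, 3, 2, 5, 4, 6, 5, 7, 3, 2, 4, 3, 5, 7, 8, 7, 3, 2, 4, 3, 7]),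
  (29140, 0, [9, 6, 5, 4, 3, 2, 1, 0, 7, 3, 2, 1, 4, 3, 2, 5, 8, 7, 3, 2, 1, 0, 4, 3, 2, 5, 4, 6, 5, 7, 3, 2, 4, 3, 5, 7, 8, 7, 3, 2, 4, 3, 7]),
  (29154, 0, [9, 6, 5, 4, 3, 2, 1, 0, 7, 3, 2, 1, 4, 3, 2, 5, 8, 7, 3, 2, 1, 4, 3, 2, 5, 4, 6, 7, 3, 4, 5, 8, 7, 3, 2, 1, 4, 3, 2, 7, 3, 4]),
  (29155, 0, [9, 6, 5, 4, 3, 2, 1, 0, 7, 3, 2, 1, 4, 3, 2, 5, 6, 8, 7, 3, 2, 1, 4, 3, 2, 5, 4, 3, 6, 5, 4, 7, 3, 2, 1, 4, 8, 7, 3, 2, 4, 3, 7]),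
  (29210, 0, [9, 6, 5, 4, 3, 2, 1, 0, 7, 3, 2, 1, 4, 3, 2, 5, 4, 7, 8, 7, 3, 2, 1, 4, 3, 2, 5, 4, 3, 6, 5, 4, 7, 3, 2, 4, 3, 8, 7, 3, 2, 1, 4, 3, 5, 4]),
  (29242, 0, [9, 6, 5, 4, 3, 2, 1, 0, 7, 3, 2, 1, 4, 3, 2, 5, 6, 8, 7, 3, 2, 1, 4, 3, 2, 5, 4, 3, 6, 5, 4, 7, 3, 2, 4, 3, 8, 7, 3, 2, 1, 4, 3, 5, 4]),
  (29246, 0, [9, 6, 5, 4, 3, 2, 1, 0, 7, 3, 2, 1, 4, 3, 2, 5, 8, 7, 3, 2, 1, 4, 3, 2, 5, 4, 3, 6, 5, 4, 7, 3, 2, 4, 5, 8, 7, 3, 2, 4, 5, 6]),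
  (29249, 0, [9, 6, 5, 4, 3, 2, 1, 0, 7, 3, 2, 1, 4, 3, 2, 5, 8, 7, 3, 2, 1, 0, 4, 3, 2, 5, 4, 3, 6, 5, 4, 7, 3, 2, 4, 5, 8, 7, 3, 2, 4, 5, 6]),
  (29277, 0, [9, 6, 5, 4, 3, 2, 1, 0, 7, 3, 2, 1, 4, 3, 2, 5, 4, 8, 7, 3, 2, 1, 4, 3, 2, 5, 4, 6, 5, 7, 3, 4, 8, 7, 3, 2, 1, 0]),
  (29292, 0, [9, 6, 5, 4, 3, 2, 1, 0, 7, 3, 2, 1, 4, 3, 2, 5, 6, 7, 8, 7, 3, 2, 1, 4, 3, 2, 5, 4, 6, 5, 7, 3, 4, 8, 7, 3, 2, 1, 0]),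
  (29320, 0, [9, 6, 5, 4, 3, 2, 1, 0, 7, 3, 2, 1, 4, 3, 5, 6, 8, 7, 3, 2, 1, 0, 4, 3, 2, 5, 4, 6, 5, 7, 3, 4, 8, 7, 3, 2, 1, 0, 9]),
  (29364, 0, [9, 6, 5, 4, 3, 2, 1, 0, 7, 3, 2, 1, 4, 3, 2, 5, 7, 8, 7, 3, 2, 1, 4, 3, 2, 5, 4, 6, 5, 7, 3, 2, 4, 5, 8, 7, 3, 2, 1, 0]),
  (29402, 0, [9, 6, 5, 4, 3, 2, 1, 0, 7, 3, 2, 1, 4, 3, 2, 5, 4, 7, 8, 7, 3, 2, 1, 4, 3, 2, 5, 4, 3, 6, 5, 7, 3, 2, 4, 8, 7, 3, 2, 1, 0]),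
  (29404, 0, [9, 6, 5, 4, 3, 2, 1, 0, 7, 3, 2, 1, 4, 3, 2, 5, 4, 8, 7, 3, 2, 1, 4, 3, 2, 5, 4, 6, 5, 7, 3, 2, 4, 3, 7, 8, 7, 3, 2, 1, 0]),
  (29430, 0, [9, 6, 5, 4, 3, 2, 1, 0, 7, 3, 2, 1, 4, 3, 2, 5, 4, 8, 7, 3, 2, 1, 4, 3, 2, 5, 4, 6, 5, 7, 3, 2, 1, 0, 4, 8, 7, 3, 2, 1, 0]),
  (29531, 0, [9, 6, 5, 4, 3, 2, 1, 0, 7, 3, 2, 1, 4, 3, 5, 7, 8, 7, 3, 2, 1, 4, 3, 2, 5, 4, 6, 5, 7, 3, 2, 4, 5, 8, 7, 3, 2, 1, 0, 9]),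
  (29581, 0, [9, 6, 5, 4, 3, 2, 1, 0, 7, 3, 2, 1, 4, 3, 2, 5, 6, 8, 7, 3, 2, 1, 4, 3, 2, 5, 4, 3, 6, 5, 7, 3, 2, 4, 8, 7, 3, 2, 1, 0]),
  (29639, 0, [9, 6, 5, 4, 3, 2, 1, 0, 7, 3, 2, 1, 4, 3, 2, 5, 8, 7, 3, 2, 1, 4, 3, 2, 5, 4, 6, 5, 7, 3, 2, 4, 3, 7, 8, 7, 3, 2, 1, 0, 4, 3]),
  (29688, 0, [9, 6, 5, 4, 3, 2, 1, 0, 7, 3, 2, 1, 4, 3, 5, 4, 8, 7, 3, 2, 1, 4, 3, 2, 5, 4, 6, 5, 7, 3, 2, 4, 3, 7, 8, 7, 3, 2, 1, 0, 9]),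
  (29806, 0, [9, 6, 5, 4, 3, 2, 1, 0, 7, 3, 2, 1, 4, 3, 5, 4, 8, 7, 3, 2, 1, 0, 4, 3, 2, 5, 4, 6, 5, 7, 3, 2, 4, 3, 8, 7, 3, 2, 1, 0, 4, 3]),
  (29880, 0, [9, 6, 5, 4, 3, 2, 1, 0, 7, 3, 2, 1, 4, 3, 2, 5, 8, 7, 3, 2, 1, 4, 3, 2, 5, 4, 6, 5, 7, 3, 4, 5, 8, 7, 3, 2, 1, 0, 4, 9]),
  (29893, 0, [9, 6, 5, 4, 3, 2, 1, 0, 7, 3, 2, 1, 4, 3, 2, 5, 7, 8, 7, 3, 2, 1, 0, 4, 3, 2, 5, 4, 6, 5, 7, 3, 4, 5, 8, 7, 3, 2, 1, 0, 4]),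
  (29935, 0, [9, 6, 5, 4, 3, 2, 1, 0, 7, 3, 2, 1, 4, 3, 2, 5, 4, 6, 8, 7, 3, 2, 1, 4, 3, 2, 5, 4, 6, 5, 7, 3, 4, 5, 6, 8, 7, 3, 2, 1, 0, 9]),
  (29942, 0, [9, 6, 5, 4, 3, 2, 1, 0, 7, 3, 2, 1, 4, 3, 5, 6, 8, 7, 3, 2, 1, 4, 3, 2, 5, 4, 6, 5, 7, 3, 2, 4, 8, 7, 3, 2, 1, 0, 4, 9]),
  (29973, 0, [9, 6, 5, 4, 3, 2, 1, 0, 7, 3, 2, 1, 4, 3, 2, 5, 6, 7, 8, 7, 3, 2, 1, 4, 3, 2, 5, 4, 3, 6, 5, 7, 3, 2, 4, 8, 7, 3, 2, 1, 0, 4, 5]),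
  (29976, 0, [9, 6, 5, 4, 3, 2, 1, 0, 7, 3, 2, 1, 4, 3, 5, 8, 7, 3, 2, 1, 4, 3, 2, 5, 4, 6, 5, 7, 3, 4, 8, 7, 3, 2, 1, 0, 9, 6, 5]),
  (30016, 0, [9, 6, 5, 4, 3, 2, 1, 0, 7, 3, 2, 1, 4, 3, 2, 5, 4, 8, 7, 3, 2, 1, 0, 4, 3, 2, 5, 4, 6, 5, 7, 3, 4, 8, 7, 3, 2, 1, 0, 9, 6, 5]),
  (30049, 0, [9, 6, 5, 4, 3, 2, 1, 0, 7, 3, 2, 1, 4, 3, 2, 5, 4, 8, 7, 3, 2, 1, 0, 4, 3, 2, 1, 5, 4, 6, 5, 7, 3, 2, 4, 3, 8, 7, 3, 2, 1, 0]),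
  (30100, 0, [9, 6, 5, 4, 3, 2, 1, 0, 7, 3, 2, 1, 4, 3, 2, 5, 8, 7, 3, 2, 1, 0, 4, 3, 2, 5, 4, 6, 5, 7, 3, 4, 5, 8, 7, 3, 2, 1, 0, 9, 6]),
  (30111, 0, [9, 6, 5, 4, 3, 2, 1, 0, 7, 3, 2, 1, 4, 3, 5, 8, 7, 3, 2, 1, 4, 3, 2, 5, 4, 6, 5, 7, 3, 2, 1, 4, 3, 5, 8, 7, 3, 2, 1, 0, 4]),
  (30154, 0, [9, 6, 5, 4, 3, 2, 1, 0, 7, 3, 2, 1, 4, 3, 2, 5, 8, 7, 3, 2, 1, 0, 4, 3, 2, 5, 4, 6, 5, 7, 3, 2, 4, 3, 5, 8, 7, 3, 2, 1, 0]),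
  (30163, 0, [9, 6, 5, 4, 3, 2, 1, 0, 7, 3, 2, 1, 4, 3, 2, 5, 8, 7, 3, 2, 1, 4, 3, 2, 5, 4, 3, 6, 5, 7, 3, 2, 4, 5, 8, 7, 3, 2, 1, 0, 9, 6]),
  (30206, 0, [9, 6, 5, 4, 3, 2, 1, 0, 7, 3, 2, 1, 4, 3, 2, 5, 8, 7, 3, 2, 1, 4, 3, 2, 5, 4, 3, 6, 5, 4, 7, 3, 2, 4, 8, 7, 3, 2, 1, 0, 4]),
  (30259, 0, [9, 6, 5, 4, 3, 2, 1, 0, 7, 3, 2, 1, 4, 3, 2, 5, 4, 8, 7, 3, 2, 1, 4, 3, 2, 5, 4, 3, 6, 5, 7, 3, 2, 4, 8, 7, 3, 2, 1, 0, 4, 5]),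
  (30288, 0, [9, 6, 5, 4, 3, 2, 1, 0, 7, 3, 2, 1, 4, 3, 2, 5, 4, 7, 8, 7, 3, 2, 1, 4, 3, 2, 5, 4, 6, 5, 7, 3, 2, 4, 5, 8, 7, 3, 2, 1, 0, 4, 3, 9]),
  (30353, 0, [9, 6, 5, 4, 3, 2, 1, 0, 7, 3, 2, 1, 4, 3, 2, 5, 8, 7, 3, 2, 1, 4, 3, 2, 5, 4, 6, 5, 7, 3, 2, 4, 5, 6, 8, 7, 3, 2, 1, 0, 4, 5, 9]),
  (30358, 0, [9, 6, 5, 4, 3, 2, 1, 0, 7, 3, 2, 1, 4, 3, 2, 5, 4, 8, 7, 3, 2, 1, 4, 3, 2, 5, 4, 3, 6, 5, 4, 7, 3, 2, 1, 4, 8, 7, 3, 2, 1, 0, 4, 3, 5]),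
  (30543, 0, [9, 6, 5, 4, 3, 2, 1, 0, 7, 3, 2, 1, 4, 3, 5, 6, 7, 8, 7, 3, 2, 1, 4, 3, 2, 5, 4, 6, 5, 7, 3, 2, 4, 3, 5, 7, 8, 7, 3, 2, 1, 0, 4]),
  (30551, 0, [9, 6, 5, 4, 3, 2, 1, 0, 7, 3, 2, 1, 4, 3, 2, 5, 6, 8, 7, 3, 2, 1, 4, 3, 2, 5, 4, 3, 6, 5, 7, 3, 2, 4, 3, 7, 8, 7, 3, 2, 1, 0, 4]),
  (30557, 0, [9, 6, 5, 4, 3, 2, 1, 0, 7, 3, 2, 1, 4, 3, 2, 5, 8, 7, 3, 2, 1, 4, 3, 2, 5, 4, 3, 6, 5, 4, 7, 3, 4, 5, 8, 7, 3, 2, 1, 0, 4, 9, 6]),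
  (30564, 0, [9, 6, 5, 4, 3, 2, 1, 0, 7, 3, 2, 1, 4, 3, 5, 4, 8, 7, 3, 2, 1, 4, 3, 2, 5, 4, 6, 5, 7, 3, 2, 4, 3, 5, 7, 8, 7, 3, 2, 1, 0, 4]),
  (30572, 0, [9, 6, 5, 4, 3, 2, 1, 0, 7, 3, 2, 1, 4, 3, 2, 5, 4, 7, 8, 7, 3, 2, 1, 4, 3, 2, 5, 4, 3, 6, 5, 7, 3, 2, 4, 3, 7, 8, 7, 3, 2, 1, 0, 4]),
  (30593, 0, [9, 6, 5, 4, 3, 2, 1, 0, 7, 3, 2, 1, 4, 3, 2, 5, 6, 8, 7, 3, 2, 1, 4, 3, 2, 5, 4, 3, 6, 5, 4, 7, 3, 2, 4, 5, 8, 7, 3, 2, 1, 0, 4, 9]),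
  (30639, 0, [9, 6, 5, 4, 3, 2, 1, 0, 7, 3, 2, 1, 4, 3, 2, 5, 8, 7, 3, 2, 1, 4, 3, 2, 5, 4, 6, 5, 7, 3, 4, 5, 8, 7, 3, 2, 1, 0, 4, 3, 7, 8, 9, 6]),
  (30700, 0, [9, 6, 5, 4, 3, 2, 1, 0, 7, 3, 2, 1, 4, 3, 2, 5, 8, 7, 3, 2, 1, 0, 4, 3, 2, 5, 4, 6, 5, 7, 3, 4, 8, 7, 3, 2, 1, 0, 9, 6, 5, 4, 3]),
  (30717, 0, [9, 6, 5, 4, 3, 2, 1, 0, 7, 3, 2, 1, 4, 3, 2, 5, 4, 8, 7, 3, 2, 1, 4, 3, 2, 5, 4, 3, 6, 5, 7, 3, 2, 1, 4, 3, 8, 7, 3, 2, 1, 0, 4, 3]),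
  (30780, 0, [9, 6, 5, 4, 3, 2, 1, 0, 7, 3, 2, 1, 4, 3, 2, 5, 8, 7, 3, 2, 1, 0, 4, 3, 2, 5, 4, 3, 6, 5, 4, 7, 3, 4, 5, 8, 7, 3, 2, 1, 0, 4, 3, 9]),
  (30842, 0, [9, 6, 5, 4, 3, 2, 1, 0, 7, 3, 2, 1, 4, 3, 2, 5, 8, 7, 3, 2, 1, 4, 3, 2, 5, 4, 6, 5, 7, 3, 2, 4, 3, 5, 8, 7, 3, 2, 1, 0, 4, 3, 9]),
  (30912, 0, [9, 6, 5, 4, 3, 2, 1, 0, 7, 3, 2, 1, 4, 3, 2, 5, 4, 7, 8, 7, 3, 2, 1, 4, 3, 2, 5, 4, 3, 6, 5, 4, 7, 3, 2, 4, 3, 8, 7, 3, 2, 1, 0, 4, 3, 5, 4]),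
  (30939, 0, [9, 6, 5, 4, 3, 2, 1, 0, 7, 3, 2, 1, 4, 3, 2, 5, 6, 8, 7, 3, 2, 1, 4, 3, 2, 5, 4, 3, 6, 5, 4, 7, 3, 2, 4, 3, 8, 7, 3, 2, 1, 0, 4, 3, 5, 4]),
  (31057, 0, [9, 6, 5, 4, 3, 2, 1, 0, 7, 3, 2, 1, 4, 3, 5, 8, 7, 3, 2, 1, 4, 3, 2, 5, 4, 3, 6, 5, 7, 3, 2, 1, 4, 3, 5, 8, 7, 3, 2, 1, 4, 3, 2, 7]),
  (31058, 0, [9, 6, 5, 4, 3, 2, 1, 0, 7, 3, 2, 1, 4, 3, 5, 8, 7, 3, 2, 1, 4, 3, 2, 5, 4, 3, 6, 5, 7, 3, 2, 1, 4, 3, 5, 8, 7, 3, 2, 1, 0, 4, 3, 2, 7]),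
  (31147, 0, [9, 6, 5, 4, 3, 2, 1, 0, 7, 3, 2, 1, 4, 3, 2, 5, 4, 8, 7, 3, 2, 1, 4, 3, 2, 5, 4, 6, 5, 7, 3, 4, 5, 8, 7, 3, 2, 1, 9, 6, 5, 4, 3, 2, 7]),
  (31148, 0, [9, 6, 5, 4, 3, 2, 1, 0, 7, 3, 2, 1, 4, 3, 2, 5, 4, 8, 7, 3, 2, 1, 4, 3, 2, 5, 4, 6, 5, 7, 3, 4, 5, 8, 7, 3, 2, 1, 0, 9, 6, 5, 4, 3, 2, 7]),
  (31159, 0, [9, 6, 5, 4, 3, 2, 1, 0, 7, 3, 2, 1, 4, 3, 2, 5, 8, 7, 3, 2, 1, 4, 3, 2, 5, 4, 3, 6, 5, 4, 7, 3, 4, 5, 8, 7, 3, 2, 1, 4, 3, 2, 7, 3]),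
  (31160, 0, [9, 6, 5, 4, 3, 2, 1, 0, 7, 3, 2, 1, 4, 3, 2, 5, 8, 7, 3, 2, 1, 4, 3, 2, 5, 4, 3, 6, 5, 4, 7, 3, 4, 5, 8, 7, 3, 2, 1, 0, 4, 3, 2, 7, 3]),
  (31274, 0, [9, 6, 5, 4, 3, 2, 1, 0, 7, 3, 2, 1, 4, 3, 2, 5, 8, 7, 3, 2, 1, 0, 4, 3, 2, 5, 4, 3, 6, 5, 4, 7, 3, 4, 5, 8, 7, 3, 2, 1, 4, 3, 2, 7]),
  (31275, 0, [9, 6, 5, 4, 3, 2, 1, 0, 7, 3, 2, 1, 4, 3, 2, 5, 8, 7, 3, 2, 1, 0, 4, 3, 2, 5, 4, 3, 6, 5, 4, 7, 3, 4, 5, 8, 7, 3, 2, 1, 0, 4, 3, 2, 7]),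
  (31290, 0, [9, 6, 5, 4, 3, 2, 1, 0, 7, 3, 2, 1, 4, 3, 5, 4, 8, 7, 3, 2, 1, 4, 3, 2, 5, 4, 6, 5, 7, 3, 4, 8, 7, 3, 2, 1, 9, 6, 5, 4, 3, 2, 7]),
  (31291, 0, [9, 6, 5, 4, 3, 2, 1, 0, 7, 3, 2, 1, 4, 3, 5, 4, 8, 7, 3, 2, 1, 4, 3, 2, 5, 4, 6, 5, 7, 3, 4, 8, 7, 3, 2, 1, 0, 9, 6, 5, 4, 3, 2, 7]),
  (31423, 0, [9, 6, 5, 4, 3, 2, 1, 0, 7, 3, 2, 1, 4, 3, 2, 5, 6, 8, 7, 3, 2, 1, 0, 4, 3, 2, 5, 4, 3, 6, 5, 7, 3, 2, 4, 3, 8, 7, 3, 2, 1, 4, 3, 2, 5]),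
  (31424, 0, [9, 6, 5, 4, 3, 2, 1, 0, 7, 3, 2, 1, 4, 3, 2, 5, 6, 8, 7, 3, 2, 1, 0, 4, 3, 2, 5, 4, 3, 6, 5, 7, 3, 2, 4, 3, 8, 7, 3, 2, 1, 0, 4, 3, 2, 5]),
  (31444, 0, [9, 6, 5, 4, 3, 2, 1, 0, 7, 3, 2, 1, 4, 3, 2, 5, 4, 8, 7, 3, 2, 1, 0, 4, 3, 2, 5, 4, 3, 6, 5, 4, 7, 3, 4, 5, 8, 7, 3, 2, 1, 0, 4, 3, 2, 1]),
  (31461, 0, [9, 6, 5, 4, 3, 2, 1, 0, 7, 3, 2, 1, 4, 3, 5, 7, 8, 7, 3, 2, 1, 4, 3, 2, 5, 4, 6, 5, 7, 3, 2, 4, 3, 5, 7, 8, 7, 3, 2, 1, 0, 4, 3, 2, 1]),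
  (31489, 0, [9, 6, 5, 4, 3, 2, 1, 0, 7, 3, 2, 1, 4, 3, 2, 5, 8, 7, 3, 2, 1, 4, 3, 2, 5, 4, 6, 5, 7, 3, 2, 4, 3, 5, 6, 8, 7, 3, 2, 1, 0, 4, 3, 2, 1, 9]),
  (31538, 0, [9, 6, 5, 4, 3, 2, 1, 0, 7, 3, 2, 1, 4, 3, 2, 5, 8, 7, 3, 2, 1, 4, 3, 2, 5, 4, 3, 6, 5, 4, 7, 3, 2, 4, 5, 8, 7, 3, 2, 1, 0, 4, 3, 2, 1]),
  (31560, 0, [9, 6, 5, 4, 3, 2, 1, 0, 7, 3, 2, 1, 4, 3, 2, 5, 4, 8, 7, 3, 2, 1, 4, 3, 2, 5, 4, 3, 6, 5, 4, 7, 3, 2, 4, 5, 8, 7, 3, 2, 1, 0, 4, 3, 2, 1, 5, 9]),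
  (31594, 0, [9, 6, 5, 4, 3, 2, 1, 0, 7, 3, 2, 1, 4, 3, 2, 5, 8, 7, 3, 2, 1, 4, 3, 2, 5, 4, 6, 5, 7, 3, 2, 4, 3, 5, 8, 7, 3, 2, 1, 0, 4, 3, 2, 1, 7, 8, 9]),
  (1091, 1, [9, 6, 5, 4, 3, 2, 1, 0, 7, 3, 2, 1, 4, 3, 5, 4, 6, 5, 7, 8, 7, 3, 9, 6]),
  (1094, 1, [9, 6, 5, 4, 3, 2, 1, 0, 7, 3, 2, 1, 4, 3, 2, 5, 4, 6, 5, 8, 7, 3, 9, 6]),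
  (1457, 1, [9, 6, 5, 4, 3, 2, 1, 0, 7, 3, 2, 1, 4, 3, 5, 4, 6, 5, 7, 3, 8, 7, 3, 2, 4, 5, 9]),
  (3400, 1, [9, 6, 5, 4, 3, 2, 1, 0, 7, 3, 2, 1, 4, 3, 5, 6, 7, 8, 7, 3, 2, 4, 3, 5, 7, 9, 6]),
  (3426, 1, [9, 6, 5, 4, 3, 2, 1, 0, 7, 3, 2, 1, 4, 3, 5, 4, 6, 8, 7, 3, 2, 4, 3, 5, 4, 9]),
  (4001, 1, [9, 6, 5, 4, 3, 2, 1, 0, 7, 3, 2, 1, 4, 3, 2, 5, 4, 3, 6, 5, 4, 8, 7, 3, 2, 4, 9]),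
  (4082, 1, [9, 6, 5, 4, 3, 2, 1, 0, 7, 3, 2, 1, 4, 3, 2, 5, 4, 3, 6, 5, 8, 7, 3, 2, 4, 5, 9]),
  (4295, 1, [9, 6, 5, 4, 3, 2, 1, 0, 7, 3, 2, 1, 4, 3, 2, 5, 4, 6, 7, 8, 7, 3, 2, 4, 3, 5, 4, 9]),
  (7297, 1, [9, 6, 5, 4, 3, 2, 1, 0, 7, 3, 2, 1, 4, 3, 2, 5, 4, 3, 6, 8, 7, 3, 2, 4, 3, 5, 7, 8, 9, 6]),
  (7466, 1, [9, 6, 5, 4, 3, 2, 1, 0, 7, 3, 2, 1, 4, 3, 2, 5, 4, 3, 6, 8, 7, 3, 2, 4, 3, 5, 4, 7, 8, 9]),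
  (7774, 1, [9, 6, 5, 4, 3, 2, 1, 0, 7, 3, 2, 1, 4, 5, 6, 8, 7, 3, 2, 4, 3, 5, 4, 7, 3, 9, 6]),
  (7868, 1, [9, 6, 5, 4, 3, 2, 1, 0, 7, 3, 2, 1, 4, 5, 6, 8, 7, 3, 2, 4, 3, 5, 4, 7, 3, 8, 9, 6, 5]),
  (8579, 1, [9, 6, 5, 4, 3, 2, 1, 0, 7, 3, 2, 1, 4, 3, 5, 4, 6, 5, 7, 3, 4, 8, 7, 3, 2, 4, 9]),
  (10386, 1, [9, 6, 5, 4, 3, 2, 1, 0, 7, 3, 2, 1, 4, 3, 2, 5, 6, 8, 7, 3, 2, 4, 3, 5, 7, 9, 6]),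
  (10525, 1, [9, 6, 5, 4, 3, 2, 1, 0, 7, 3, 2, 1, 4, 3, 5, 6, 8, 7, 3, 2, 4, 3, 5, 4, 7, 3, 2, 1, 8, 9, 6]),
  (10526, 1, [9, 6, 5, 4, 3, 2, 1, 0, 7, 3, 2, 1, 4, 3, 5, 6, 8, 7, 3, 2, 4, 3, 5, 4, 7, 3, 2, 1, 0, 8, 9, 6]),
  (10585, 1, [9, 6, 5, 4, 3, 2, 1, 0, 7, 3, 2, 1, 4, 3, 2, 5, 6, 7, 8, 7, 3, 2, 1, 4, 3, 2, 5, 4, 7, 3, 9, 6]),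
  (10586, 1, [9, 6, 5, 4, 3, 2, 1, 0, 7, 3, 2, 1, 4, 3, 2, 5, 6, 7, 8, 7, 3, 2, 1, 0, 4, 3, 2, 5, 4, 7, 3, 9, 6]),
  (10875, 1, [9, 6, 5, 4, 3, 2, 1, 0, 7, 3, 2, 1, 4, 3, 2, 5, 6, 7, 3, 8, 7, 3, 2, 4, 3, 5, 4, 7, 3, 9, 6]),
  (13151, 1, [9, 6, 5, 4, 3, 2, 1, 0, 7, 3, 2, 1, 4, 3, 2, 5, 6, 7, 8, 7, 3, 2, 1, 4, 3, 2, 5, 7, 3, 8, 7, 9, 6]),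
  (13152, 1, [9, 6, 5, 4, 3, 2, 1, 0, 7, 3, 2, 1, 4, 3, 2, 5, 6, 7, 3, 8, 7, 3, 2, 1, 4, 3, 5, 4, 7, 3, 2, 8, 7, 9]),
  (14550, 1, [9, 6, 5, 4, 3, 2, 1, 0, 7, 3, 2, 1, 4, 3, 2, 5, 6, 8, 7, 3, 2, 4, 3, 5, 4, 7, 3, 2, 8, 7, 9]),
  (14577, 1, [9, 6, 5, 4, 3, 2, 1, 0, 7, 3, 2, 1, 4, 3, 2, 5, 6, 8, 7, 3, 2, 4, 3, 5, 4, 7, 3, 8, 7, 9, 6]),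
  (14718, 1, [9, 6, 5, 4, 3, 2, 1, 0, 7, 3, 2, 1, 4, 5, 6, 8, 7, 3, 2, 4, 3, 5, 4, 7, 3, 2, 8, 9, 6, 5, 4]),
  (23732, 1, [9, 6, 5, 4, 3, 2, 1, 0, 7, 3, 2, 1, 4, 3, 2, 5, 6, 7, 8, 7, 3, 2, 1, 4, 3, 2, 5, 4, 3, 7, 3, 2, 8, 7, 3, 4, 9]),
  (23795, 1, [9, 6, 5, 4, 3, 2, 1, 0, 7, 3, 2, 1, 4, 3, 2, 5, 6, 8, 7, 3, 2, 1, 4, 3, 2, 5, 4, 3, 7, 3, 4, 8, 7, 3, 9, 6]),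
  (26625, 1, [9, 6, 5, 4, 3, 2, 1, 0, 7, 3, 2, 4, 3, 5, 4, 6, 5, 7, 3, 2, 4, 3, 7, 9, 6, 5, 4, 3, 2, 1])]

/-- A largest commuting set, by positions. -/
def cli4 : List ℕ := [0, 297, 298, 311]

/-- The lift. -/
def w1 : List ℕ := [6, 1, 5, 0, 8, 7]

/-- Fixed points: the point, the position of a noncommuting predecessor, a path to the point. -/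
def fix1 : List (ℕ × ℕ × List ℕ) := [
  (0, 0, []),
  (4, 0, [9, 6, 5, 4]),
  (245, 0, [9, 6, 5, 4, 3, 2, 1, 0, 7, 3, 2, 1, 8, 7, 3, 2]),
  (4083, 0, [9, 6, 5, 4, 3, 2, 1, 0, 7, 3, 2, 1, 4, 3, 2, 7, 3, 4, 8, 7, 3]),
  (4085, 0, [9, 6, 5, 4, 3, 2, 1, 0, 7, 3, 2, 1, 4, 3, 2, 5, 4, 3, 6, 5, 4, 8, 7, 3]),
  (4786, 0, [9, 6, 5, 4, 3, 2, 1, 0, 7, 3, 2, 1, 8, 7, 3, 2, 4, 5, 6, 9]),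
  (8576, 0, [9, 6, 5, 4, 3, 2, 1, 0, 7, 3, 2, 1, 4, 3, 5, 4, 6, 5, 7, 3, 4, 8, 7, 3, 2]),
  (10917, 0, [9, 6, 5, 4, 3, 2, 1, 0, 7, 3, 2, 1, 4, 3, 2, 7, 3, 4, 8, 7, 3, 4, 5, 6, 9]),
  (16795, 0, [9, 6, 5, 4, 3, 2, 1, 7, 3, 2, 4, 3, 5, 4, 6, 5, 7, 3, 2, 1, 4, 3, 2, 7, 3]),
  (22175, 0, [9, 6, 5, 4, 3, 2, 1, 0, 7, 3, 2, 1, 4, 3, 5, 4, 8, 7, 3, 2, 1, 4, 3, 2, 5, 4, 3, 6, 5, 7, 3, 2, 4, 8, 7, 3, 9]),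
  (22181, 0, [9, 6, 5, 4, 3, 2, 1, 0, 7, 3, 2, 1, 4, 3, 2, 5, 4, 7, 8, 7, 3, 2, 1, 4, 3, 2, 5, 4, 6, 5, 7, 3, 2, 4, 5, 8, 7, 3, 9]),
  (22195, 0, [9, 6, 5, 4, 3, 2, 1, 0, 7, 3, 2, 1, 4, 3, 5, 4, 8, 7, 3, 2, 1, 0, 4, 3, 2, 5, 4, 6, 5, 7, 3, 2, 4, 8, 7, 3, 9, 6]),
  (22196, 0, [9, 6, 5, 4, 3, 2, 1, 0, 7, 3, 2, 1, 4, 3, 2, 5, 8, 7, 3, 2, 1, 4, 3, 5, 4, 6, 5, 7, 3, 2, 4, 3, 8, 7, 3, 2, 4, 3]),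
  (22496, 0, [9, 6, 5, 4, 3, 2, 1, 0, 7, 3, 2, 1, 4, 3, 2, 5, 8, 7, 3, 2, 1, 4, 3, 2, 5, 4, 3, 6, 5, 4, 7, 3, 2, 4, 5, 6, 8, 7, 3]),
  (22506, 0, [9, 6, 5, 4, 3, 2, 1, 0, 7, 3, 2, 1, 4, 3, 2, 5, 6, 8, 7, 3, 2, 1, 4, 3, 2, 5, 4, 3, 6, 5, 4, 7, 3, 2, 4, 3, 8, 7, 3]),
  (23334, 0, [9, 6, 5, 4, 3, 2, 1, 0, 7, 3, 2, 1, 4, 3, 5, 8, 7, 3, 2, 1, 4, 3, 2, 5, 4, 3, 6, 5, 7, 3, 2, 4, 5, 6, 8, 7, 3, 9]),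
  (23343, 0, [9, 6, 5, 4, 3, 2, 1, 0, 7, 3, 2, 1, 4, 3, 2, 5, 8, 7, 3, 2, 1, 4, 3, 2, 5, 4, 3, 6, 5, 4, 7, 3, 2, 4, 3, 7, 8, 7, 3]),
  (23351, 0, [9, 6, 5, 4, 3, 2, 1, 0, 7, 3, 2, 1, 4, 3, 5, 4, 8, 7, 3, 2, 1, 4, 3, 2, 5, 4, 6, 5, 7, 3, 2, 4, 3, 8, 7, 3, 9]),
  (23355, 0, [9, 6, 5, 4, 3, 2, 1, 0, 7, 3, 2, 1, 4, 3, 2, 5, 8, 7, 3, 2, 1, 4, 3, 2, 5, 4, 3, 6, 5, 4, 7, 3, 2, 1, 0, 4, 8, 7, 3]),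
  (23464, 0, [9, 6, 5, 4, 3, 2, 1, 0, 7, 3, 2, 1, 4, 3, 2, 5, 4, 8, 7, 3, 2, 1, 4, 3, 2, 5, 4, 3, 6, 5, 4, 7, 3, 2, 4, 5, 8, 7, 3, 9]),
  (23541, 0, [9, 6, 5, 4, 3, 2, 1, 0, 7, 3, 2, 1, 4, 3, 5, 4, 8, 7, 3, 2, 1, 0, 4, 3, 2, 5, 4, 6, 5, 7, 3, 2, 4, 5, 8, 7, 3, 9]),
  (23549, 0, [9, 6, 5, 4, 3, 2, 1, 0, 7, 3, 2, 1, 4, 3, 5, 4, 8, 7, 3, 2, 1, 4, 3, 2, 5, 4, 6, 5, 7, 3, 2, 1, 4, 5, 8, 7, 3, 9]),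
  (23568, 0, [9, 6, 5, 4, 3, 2, 1, 0, 7, 3, 2, 1, 4, 3, 2, 5, 8, 7, 3, 2, 1, 4, 3, 2, 5, 4, 3, 6, 5, 4, 7, 3, 2, 4, 8, 7, 3]),
  (23577, 0, [9, 6, 5, 4, 3, 2, 1, 0, 7, 3, 2, 1, 4, 3, 2, 5, 6, 8, 7, 3, 2, 1, 0, 4, 3, 2, 5, 4, 3, 6, 5, 4, 7, 3, 2, 4, 5, 8, 7, 3]),
  (23581, 0, [9, 6, 5, 4, 3, 2, 1, 0, 7, 3, 2, 1, 4, 3, 2, 5, 4, 7, 8, 7, 3, 2, 1, 4, 3, 2, 5, 4, 3, 6, 5, 4, 7, 3, 2, 4, 3, 8, 7, 3]),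
  (24059, 0, [9, 6, 5, 4, 3, 2, 1, 0, 7, 3, 2, 1, 4, 3, 5, 8, 7, 3, 2, 1, 4, 3, 2, 5, 4, 3, 6, 5, 4, 7, 3, 2, 1, 4, 3, 8, 7, 3]),
  (24073, 0, [9, 6, 5, 4, 3, 2, 1, 0, 7, 3, 2, 1, 4, 3, 5, 4, 8, 7, 3, 2, 1, 4, 3, 2, 5, 4, 3, 6, 5, 7, 3, 2, 4, 3, 7, 8, 7, 3, 9])]

/-- A largest commuting set, by positions. -/
def cli1 : List ℕ := [0]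

end Cfsg.Agent.Fi23Ord3.WidthData
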