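import Cfsg.Agent.Lib.Fi23Ord3.Three
import Cfsg.Agent.Lib.Fi23Ord3.WidthData
import Cfsg.Agent.Lib.FischerUnique23.Omega
import Cfsg.Agent.Lib.Fi22Local.ThreeWidth

/-!
The four classes of elements of order three of the presented Fi23, by the largest numbers 7, 5, 4, 1 of
pairwise commuting transpositions centralising them.
-/

set_option autoImplicit false
set_option maxRecDepth 100000

namespace Cfsg.Agent.Fi23Ord3

open Cfsg.Agent.CosetCert
open Cfsg.Agent.CosetData
open Cfsg.Agent.FischerPresented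
open Cfsg.Agent.FischerPresented.Out23 (tr tr_eq tr_zero tr_mem exists_tr tr_hom tr_injective)

/-- The commuting width is invariant under isomorphisms. -/
theorem width_image {A B : Type*} [Group A] [Group B] (φ : A ≃* B) (S : Set A) :
    Cfsg.commutingWidth (φ '' S) = Cfsg.commutingWidth S := by
  refine congrArg sSup (Set.ext fun n => ⟨?_, ?_⟩)
  · rintro ⟨E, hE, hfin, hc, rfl⟩
    refine ⟨φ.symm '' E, ?_, hfin.image _, ?_, Set.ncard_image_of_injective _ φ.symm.injective⟩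
    · rintro _ ⟨d, hd, rfl⟩
      obtain ⟨s, hs, rfl⟩ := hE hd
      rwa [φ.symm_apply_apply]
    · rintro _ ⟨a, ha, rfl⟩ _ ⟨b, hb, rfl⟩
      exact (hc a ha b hb).map φ.symm.toMonoidHom
  · rintro ⟨E, hE, hfin, hc, rfl⟩
    refine ⟨φ '' E, Set.image_mono hE, hfin.image _, ?_, Set.ncard_image_of_injective _ φ.injective⟩
    rintro _ ⟨a, ha, rfl⟩ _ ⟨b, hb, rfl⟩
    exact (hc a ha b hb).map φ.toMonoidHom

/-- The transpositions centralising an element. -/
def fixD (x : GT) : Set GT := Fi23.D ∩ (Subgroup.centralizer ({x} : Set GT) : Set GT)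

theorem mem_fixD {x y : GT} : y ∈ fixD x ↔ y ∈ Fi23.D ∧ Commute y x :=
  and_congr_right fun _ => Subgroup.mem_centralizer_singleton_iff

theorem conj_D (g : GT) {y : GT} (hy : y ∈ Fi23.D) : g * y * g⁻¹ ∈ Fi23.D := by
  obtain ⟨k, rfl⟩ := Fi23.mem_D.1 hy
  exact Fi23.mem_D.2 ⟨g * k, by group⟩

theorem width_conj (g x : GT) :
    Cfsg.commutingWidth (fixD (g * x * g⁻¹)) = Cfsg.commutingWidth (fixD x) := by
  rw [← width_image (MulAut.conj g) (fixD x)]
  refine congrArg _ (Set.ext fun y => ⟨fun hy => ?_, ?_⟩)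
  · obtain ⟨h1, h2⟩ := mem_fixD.1 hy
    refine ⟨g⁻¹ * y * g, mem_fixD.2 ⟨by simpa using conj_D g⁻¹ h1, ?_⟩, by simp [MulAut.conj_apply, mul_assoc]⟩
    have := h2.map (MulAut.conj g⁻¹).toMonoidHom
    simpa [mul_assoc] using this
  · rintro ⟨w, hw, rfl⟩
    obtain ⟨h1, h2⟩ := mem_fixD.1 hw
    exact mem_fixD.2 ⟨conj_D g h1, h2.map (MulAut.conj g).toMonoidHom⟩

/-- The listed points are fixed, and each but the first does not commute with a predecessor. -/
noncomputable def fixOK (w : List ℕ) (L : List (ℕ × ℕ × List ℕ)) : Bool :=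
  wok w && (sameW (rep 3 w) [] && (
    allBelow (fun i => pathOK (L.getD i (0, 0, [])).2.2 (L.getD i (0, 0, [])).1 &&
      (Nat.beq (actF w (L.getD i (0, 0, [])).1) (L.getD i (0, 0, [])).1 &&
        ((Nat.beq i 0 && Nat.beq (L.getD i (0, 0, [])).1 0) || (Nat.blt (L.getD i (0, 0, [])).2.1 i &&
          (wok (twW (L.getD i (0, 0, [])).2.2) &&
            !(Nat.beq (actF (twW (L.getD i (0, 0, [])).2.2) (L.getD (L.getD i (0, 0, [])).2.1 (0, 0, [])).1)
              (L.getD (L.getD i (0, 0, [])).2.1 (0, 0, [])).1)))))) L.length))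

/-- A fixed point is listed. -/
noncomputable def covAt (w : List ℕ) (L : List (ℕ × ℕ × List ℕ)) (p : ℕ) : Bool :=
  Nat.ble 31671 p || (!(Nat.beq (actF w p) p) || L.any fun e => Nat.beq p e.1)

/-- The fixed points of a block of coset numbers are listed. -/
noncomputable def covBlk (w : List ℕ) (L : List (ℕ × ℕ × List ℕ)) (b : ℕ) : Bool :=
  allBelow (fun q => covAt w L (b * 4096 + q)) 4096

/-- The listed fixed points pairwise commute. -/
noncomputable def cliqueOK (L : List (ℕ × ℕ × List ℕ)) (c : List ℕ) (k : ℕ) : Bool :=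
  Nat.beq c.length k && allBelow (fun a => Nat.blt (c.getD a 0) L.length && allBelow (fun b => Nat.beq a b ||
    (!(Nat.beq (L.getD (c.getD a 0) (0, 0, [])).1 (L.getD (c.getD b 0) (0, 0, [])).1) &&
      (wok (twW (L.getD (c.getD a 0) (0, 0, [])).2.2) &&
        Nat.beq (actF (twW (L.getD (c.getD a 0) (0, 0, [])).2.2) (L.getD (c.getD b 0) (0, 0, [])).1)
          (L.getD (c.getD b 0) (0, 0, [])).1))) k) k

section

variable {w : List ℕ} {L : List (ℕ × ℕ × List ℕ)} (h : fixOK w L = true)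

include h

theorem cube_one : el w ^ 3 = 1 := by
  simp only [fixOK, Bool.and_eq_true] at h
  rw [← el_rep, el_eq h.2.1, el_nil]

theorem fix_spec {i : ℕ} (hi : i < L.length) :
    ∃ hp : (L.getD i (0, 0, [])).1 < 31671, Commute (tr ⟨_, hp⟩) (el w) ∧
      el (twW (L.getD i (0, 0, [])).2.2) = tr ⟨_, hp⟩ := by
  simp only [fixOK, Bool.and_eq_true] at h
  obtain ⟨hw, -, hall⟩ := h
  have := allBelow_spec hall hi
  simp only [Bool.and_eq_true, Nat.beq_eq] at this
  obtain ⟨hp, e⟩ := el_twW this.1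
  exact ⟨hp, ((apt_fix_iff _ hp).1 ((apt_el hw hp).trans this.2.1)).symm, e⟩

theorem exists_index (hcov : ∀ b < 8, covBlk w L b = true) {y : GT} (hy : y ∈ fixD (el w)) :
    ∃ i, ∃ hi : i < L.length, y = tr ⟨_, (fix_spec h hi).1⟩ := by
  obtain ⟨h1, h2⟩ := mem_fixD.1 hy
  obtain ⟨⟨p, hp⟩, rfl⟩ := exists_tr h1
  have h' := h
  simp only [fixOK, Bool.and_eq_true] at h'
  obtain ⟨hw, -, -⟩ := h'
  have hc := allBelow_spec (hcov (p / 4096) (by omega)) (Nat.mod_lt p (show 0 < 4096 by norm_num))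
  simp only [covAt, Nat.div_add_mod', Bool.or_eq_true, Nat.ble_eq] at hc
  replace hc := hc.resolve_left (by omega)
  have he : actF w p = p := (apt_el hw hp).symm.trans ((apt_fix_iff _ hp).2 h2.symm)
  simp only [he, Nat.beq_refl, Bool.not_true, Bool.false_eq_true, false_or, List.any_eq_true, Nat.beq_eq] at hc
  obtain ⟨e, hem, he'⟩ := hc
  obtain ⟨i, hi, rfl⟩ := List.getElem_of_mem hem
  refine ⟨i, hi, congrArg tr (Fin.ext ?_)⟩
  show p = (L.getD i (0, 0, [])).1
  rw [List.getD_eq_getElem _ _ hi, he']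

/-- The centraliser is transitive on the transpositions centralising the element. -/
theorem exists_carry : ∀ (i : ℕ) (hi : i < L.length), ∃ g : GT, Commute g (el w) ∧
    g * Fi23.z * g⁻¹ = tr ⟨_, (fix_spec h hi).1⟩ := by
  intro i
  induction i using Nat.strong_induction_on with | _ i ih => ?_
  intro hi
  have h' := h
  simp only [fixOK, Bool.and_eq_true] at h'
  have hi' := allBelow_spec h'.2.2 hi
  simp only [Bool.and_eq_true, Bool.or_eq_true, Nat.beq_eq, Nat.blt_eq, Bool.not_eq_true'] at hi'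
  obtain ⟨-, -, ⟨rfl, h0⟩ | ⟨hj, hwk, hne⟩⟩ := hi'
  · refine ⟨1, Commute.one_left _, ?_⟩
    rw [one_mul, inv_one, mul_one, ← tr_zero]
    exact congrArg tr (Fin.ext h0.symm)
  · obtain ⟨g, hg, hga⟩ := ih _ hj (hj.trans hi)
    obtain ⟨hp, cb, eb⟩ := fix_spec h hi
    obtain ⟨hq, ca, -⟩ := fix_spec h (hj.trans hi)
    have hnc : ¬ Commute (tr ⟨_, hp⟩) (tr ⟨_, hq⟩) := fun hcm => by
      have := (apt_fix_iff _ hq).2 hcm
      rw [← eb, apt_el hwk hq] at this
      rw [this, Nat.beq_refl] at hne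
      exact Bool.noConfusion hne
    set a := tr ⟨_, hq⟩ with ha
    set b := tr ⟨_, hp⟩ with hb
    have ha2 := Fischer.TSet.sq FischerUnique23.D23_group.1 (tr_mem (⟨_, hq⟩ : Fin 31671))
    have hb2 := Fischer.TSet.sq FischerUnique23.D23_group.1 (tr_mem (⟨_, hp⟩ : Fin 31671))
    rw [← ha] at ha2
    rw [← hb] at hb2
    obtain ⟨-, -, hbr, -, -, -⟩ := FischerUnique23.product_facts FischerUnique23.D23_group
      (tr_mem (⟨_, hp⟩ : Fin 31671)) (tr_mem (⟨_, hq⟩ : Fin 31671)) hnc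
    rw [← ha, ← hb] at hbr
    refine ⟨a * b * g, (ca.mul_left cb).mul_left hg, ?_⟩
    calc a * b * g * Fi23.z * (a * b * g)⁻¹ = a * b * (g * Fi23.z * g⁻¹) * b⁻¹ * a⁻¹ := by group
      _ = a * b * a * b * a := by
        rw [hga, inv_eq_of_mul_eq_one_right ha2, inv_eq_of_mul_eq_one_right hb2]
      _ = a * (b * a * b) * a := by simp only [mul_assoc]
      _ = b := by rw [hbr, ← mul_assoc a, ← mul_assoc a, ha2, one_mul, mul_assoc, ha2, mul_one]

theorem le_width {c : List ℕ} {k : ℕ} (hc : cliqueOK L c k = true) :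
    ∃ E : Set GT, E ⊆ fixD (el w) ∧ E.Finite ∧ (∀ a ∈ E, ∀ b ∈ E, Commute a b) ∧ E.ncard = k := by
  haveI := Fi23.order_facts.1
  simp only [cliqueOK, Bool.and_eq_true, Nat.beq_eq] at hc
  obtain ⟨-, hc⟩ := hc
  have hi : ∀ a : Fin k, c.getD a 0 < L.length := fun a =>
    Nat.blt_eq.mp (Bool.and_eq_true_iff.1 (allBelow_spec hc a.2)).1
  let f : Fin k → GT := fun a => tr ⟨_, (fix_spec h (hi a)).1⟩
  have key : ∀ a b : Fin k, a ≠ b → f a ≠ f b ∧ Commute (f a) (f b) := by
    intro a b hne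
    have h2 := allBelow_spec (Bool.and_eq_true_iff.1 (allBelow_spec hc a.2)).2 b.2
    simp only [Bool.or_eq_true, Nat.beq_eq, Bool.and_eq_true, Bool.not_eq_true'] at h2
    obtain ⟨hd, hwk, hf⟩ := h2.resolve_left (fun e => hne (Fin.ext e))
    refine ⟨fun e => ?_, ?_⟩
    · have e3 : (L.getD (c.getD a 0) (0, 0, [])).1 = (L.getD (c.getD b 0) (0, 0, [])).1 :=
        congrArg Fin.val (tr_injective e)
      rw [e3, Nat.beq_refl] at hd
      exact Bool.noConfusion hd
    · obtain ⟨hp, -, ea⟩ := fix_spec h (hi a)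
      obtain ⟨hq, -, -⟩ := fix_spec h (hi b)
      show Commute (tr ⟨_, hp⟩) (tr ⟨_, hq⟩)
      rw [← apt_fix_iff _ hq, ← ea, apt_el hwk hq, hf]
  refine ⟨Set.range f, ?_, Set.finite_range f, ?_, ?_⟩
  · rintro _ ⟨a, rfl⟩
    exact mem_fixD.2 ⟨tr_mem _, (fix_spec h (hi a)).2.1⟩
  · rintro _ ⟨a, rfl⟩ _ ⟨b, rfl⟩
    rcases eq_or_ne a b with rfl | hne
    · exact Commute.refl _
    · exact (key a b hne).2
  · rw [← Set.image_univ, Set.ncard_image_of_injective _ (fun a b e => by_contra fun hne => (key a b hne).1 e),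
      Set.ncard_univ, Nat.card_eq_fintype_card, Fintype.card_fin]

end

end Cfsg.Agent.Fi23Ord3
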