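import Cfsg.Agent.Lib.Fi23Ord3.Width

/-!
The checks of the fixed points of the lift of width 4, part 1.
-/

set_option autoImplicit false
set_option maxRecDepth 100000
set_option Elab.async false

namespace Cfsg.Agent.Fi23Ord3

open Cfsg.Agent.CosetCert

theorem cov4_0 : covBlk WidthData.w4 WidthData.fix4 0 = true := by decide +kernel

theorem cov4_1 : covBlk WidthData.w4 WidthData.fix4 1 = true := by decide +kernel

end Cfsg.Agent.Fi23Ord3
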