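import Cfsg.Agent.Lib.Fi23Ord3.Width

/-!
The checks of the fixed points of the lift of width 7.
-/

set_option autoImplicit false
set_option maxRecDepth 100000
set_option Elab.async false

namespace Cfsg.Agent.Fi23Ord3

open Cfsg.Agent.CosetCert

theorem cov7_0 : covBlk WidthData.w7 WidthData.fix7 0 = true := by decide +kernel

theorem cov7_1 : covBlk WidthData.w7 WidthData.fix7 1 = true := by decide +kernel

theorem cov7_2 : covBlk WidthData.w7 WidthData.fix7 2 = true := by decide +kernel

theorem cov7_3 : covBlk WidthData.w7 WidthData.fix7 3 = true := by decide +kernel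

theorem cov7_4 : covBlk WidthData.w7 WidthData.fix7 4 = true := by decide +kernel

theorem cov7_5 : covBlk WidthData.w7 WidthData.fix7 5 = true := by decide +kernel

theorem cov7_6 : covBlk WidthData.w7 WidthData.fix7 6 = true := by decide +kernel

theorem cov7_7 : covBlk WidthData.w7 WidthData.fix7 7 = true := by decide +kernel

end Cfsg.Agent.Fi23Ord3
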