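import Cfsg.Agent.Lib.Fi23Ord3.Width
import Cfsg.Agent.Lib.Fi23Ord3.WidthFix
import Cfsg.Agent.Lib.Fi23Ord3.WidthCov7
import Cfsg.Agent.Lib.Fi23Ord3.WidthCov5
import Cfsg.Agent.Lib.Fi23Ord3.WidthCov4A
import Cfsg.Agent.Lib.Fi23Ord3.WidthCov4B
import Cfsg.Agent.Lib.Fi23Ord3.WidthCov4C
import Cfsg.Agent.Lib.Fi23Ord3.WidthCov4D
import Cfsg.Agent.Lib.Fi23Ord3.WidthCov1

/-!
The checks of the fixed points and commuting sets of the four lifts.
-/

set_option autoImplicit false
set_option maxRecDepth 100000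
set_option Elab.async false

namespace Cfsg.Agent.Fi23Ord3

open Cfsg.Agent.CosetCert

/-- The words of the lifts. -/
noncomputable def xW : Fin 4 → List ℕ := ![WidthData.w7, WidthData.w5, WidthData.w4, WidthData.w1]

/-- The fixed points of the lifts. -/
noncomputable def fixL : Fin 4 → List (ℕ × ℕ × List ℕ) :=
  ![WidthData.fix7, WidthData.fix5, WidthData.fix4, WidthData.fix1]

/-- The widths. -/
def width : Fin 4 → ℕ := ![7, 5, 4, 1]

/-- The commuting sets. -/
noncomputable def cli : Fin 4 → List ℕ := ![WidthData.cli7, WidthData.cli5, WidthData.cli4, WidthData.cli1]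

theorem fix_ok (i : Fin 4) : fixOK (xW i) (fixL i) = true := by
  fin_cases i
  exacts [fix7_ok, fix5_ok, fix4_ok, fix1_ok]

theorem clique_ok (i : Fin 4) : cliqueOK (fixL i) (cli i) (width i) = true := by
  fin_cases i <;> decide +kernel

theorem cov_ok (i : Fin 4) : ∀ b < 8, covBlk (xW i) (fixL i) b = true := by
  intro b hb
  fin_cases i <;> interval_cases b
  exacts [cov7_0, cov7_1, cov7_2, cov7_3, cov7_4, cov7_5, cov7_6, cov7_7,
    cov5_0, cov5_1, cov5_2, cov5_3, cov5_4, cov5_5, cov5_6, cov5_7,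
    cov4_0, cov4_1, cov4_2, cov4_3, cov4_4, cov4_5, cov4_6, cov4_7,
    cov1_0, cov1_1, cov1_2, cov1_3, cov1_4, cov1_5, cov1_6, cov1_7]

end Cfsg.Agent.Fi23Ord3
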